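import Cfsg.Agent.OddCyclic.BTwoLin.Defs

/-!
# The module of the `³D₄(2)`-shape: nine points in a space of order `2 ^ 8`

`Ω` is a set of nine vectors with `q v = 0`, `f u v = 1` for `u ≠ v`. The vectors are the `∏_{v ∈ I} v`, `I ⊆ Ω`, and `I`
is unique up to complement. An element of order three acting without fixed points on `Ω` has no fixed vector `x ≠ 1` with
`q x = 0`.
-/

set_option autoImplicit false
set_option linter.dupNamespace false
set_option linter.unusedSectionVars false

namespace Cfsg.Agent.OddCyclic.BTwoLin.EightMod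

open Cfsg.Agent.OddCyclic.BTwoLin
open scoped symmDiff

variable {X M : Type*} [Group X] [CommGroup M] {ρ : X →* MulAut M} {f : M → M → ZMod 2} {q : M → ZMod 2}

theorem f_one (h : Form ρ f q) (x : M) : f 1 x = 0 := by
  have := h.f_mul 1 1 x
  rw [one_mul] at this
  exact left_eq_add.1 this

theorem q_one (h : Form ρ f q) : q 1 = 0 := by
  have := h.q_mul 1 1
  rw [one_mul, f_one h, add_zero] at this
  exact left_eq_add.1 this

theorem f_self (h : Form ρ f q) (x : M) : f x x = 0 := by
  have h1 := h.q_mul x x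
  rw [h.sq, q_one h] at h1
  have h2 : q x + q x = 0 := CharTwo.add_self_eq_zero _
  rw [h2, zero_add] at h1
  exact h1.symm

theorem two_cases (a : ZMod 2) : a = 0 ∨ a = 1 := by
  revert a; decide

/-- the product of the elements of `I` -/
noncomputable def Ph (I : Finset M) : M := ∏ v ∈ I, v

theorem Ph_empty : Ph (∅ : Finset M) = 1 := Finset.prod_empty

variable [DecidableEq M]

theorem Ph_insert {I : Finset M} {v : M} (hv : v ∉ I) : Ph (insert v I) = v * Ph I := Finset.prod_insert hv

theorem Ph_symmDiff (h : Form ρ f q) (I J : Finset M) : Ph (I ∆ J) = Ph I * Ph J := by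
  have h1 : Ph I = Ph (I \ J) * Ph (I ∩ J) := by
    rw [Ph, Ph, Ph, ← Finset.prod_union (Finset.disjoint_sdiff_inter I J), Finset.sdiff_union_inter]
  have h2 : Ph J = Ph (J \ I) * Ph (I ∩ J) := by
    rw [Ph, Ph, Ph, Finset.inter_comm, ← Finset.prod_union (Finset.disjoint_sdiff_inter J I), Finset.sdiff_union_inter]
  have h3 : Ph (I ∆ J) = Ph (I \ J) * Ph (J \ I) := by
    rw [Ph, Ph, Ph, symmDiff_def, Finset.sup_eq_union, Finset.prod_union disjoint_sdiff_sdiff]
  rw [h1, h2, h3]
  have h4 := h.sq (Ph (I ∩ J))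
  calc Ph (I \ J) * Ph (J \ I) = Ph (I \ J) * Ph (J \ I) * (Ph (I ∩ J) * Ph (I ∩ J)) := by rw [h4, mul_one]
    _ = _ := by ac_rfl

/-- the nine vectors -/
structure Nine (ρ : X →* MulAut M) (f : M → M → ZMod 2) (q : M → ZMod 2) (Ω : Finset M) : Prop where
  form : Form ρ f q
  card : Ω.card = 9
  cardM : Nat.card M = 2 ^ 8
  f_ne : ∀ u ∈ Ω, ∀ v ∈ Ω, u ≠ v → f u v = 1
  q_eq : ∀ u ∈ Ω, q u = 0

namespace Nine

variable {Ω : Finset M}

theorem f_Ph (h : Nine ρ f q Ω) {I : Finset M} (hI : I ⊆ Ω) {v : M} (hv : v ∈ Ω) :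
    f (Ph I) v = ((I.erase v).card : ZMod 2) := by
  induction I using Finset.induction_on with
  | empty => rw [Ph_empty, f_one h.form]; simp
  | insert u I hu ih =>
    have hI' : I ⊆ Ω := fun x hx => hI (Finset.mem_insert_of_mem hx)
    rw [Ph_insert hu, h.form.f_mul, ih hI']
    by_cases huv : u = v
    · subst huv
      rw [f_self h.form, zero_add, Finset.erase_insert hu, Finset.erase_eq_of_notMem hu]
    · rw [h.f_ne u (hI (Finset.mem_insert_self _ _)) v hv huv, Finset.erase_insert_of_ne huv,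
        Finset.card_insert_of_notMem (fun h1 => hu (Finset.mem_of_mem_erase h1))]
      push_cast
      ring

theorem q_Ph (h : Nine ρ f q Ω) {I : Finset M} (hI : I ⊆ Ω) : q (Ph I) = (I.card.choose 2 : ZMod 2) := by
  induction I using Finset.induction_on with
  | empty => rw [Ph_empty, q_one h.form]; simp
  | insert u I hu ih =>
    have hI' : I ⊆ Ω := fun x hx => hI (Finset.mem_insert_of_mem hx)
    have huΩ := hI (Finset.mem_insert_self _ _)
    rw [Ph_insert hu, h.form.q_mul, h.q_eq u huΩ, ih hI', h.form.f_symm, h.f_Ph hI' huΩ,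
      Finset.erase_eq_of_notMem hu, Finset.card_insert_of_notMem hu, Nat.choose_succ_succ' I.card 1, Nat.choose_one_right]
    push_cast
    ring

theorem eq_or (h : Nine ρ f q Ω) {I : Finset M} (hI : I ⊆ Ω) (h1 : ∀ v ∈ Ω, f (Ph I) v = 0) :
    I = ∅ ∨ I = Ω := by
  by_contra hcon
  push Not at hcon
  obtain ⟨hne, hne'⟩ := hcon
  obtain ⟨v, hv⟩ := hne
  obtain ⟨w, hw, hwI⟩ : ∃ w ∈ Ω, w ∉ I := by
    by_contra h2
    push Not at h2
    exact hne' (Finset.Subset.antisymm hI h2)
  have e1 := h1 v (hI hv)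
  have e2 := h1 w hw
  rw [h.f_Ph hI (hI hv)] at e1
  rw [h.f_Ph hI hw, Finset.erase_eq_of_notMem hwI] at e2
  have h3 : I.card = (I.erase v).card + 1 := by
    rw [Finset.card_erase_of_mem hv]
    have := Finset.card_pos.2 ⟨v, hv⟩
    omega
  rw [h3] at e2
  push_cast at e2
  rw [e1, zero_add] at e2
  exact one_ne_zero e2

/-- the fibres of `Ph` -/
theorem Ph_eq (h : Nine ρ f q Ω) {I J : Finset M} (hI : I ⊆ Ω) (hJ : J ⊆ Ω) (e : Ph I = Ph J) :
    I = J ∨ I = Ω \ J := by
  have hIJ : I ∆ J ⊆ Ω := by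
    intro x hx
    rcases Finset.mem_symmDiff.1 hx with h1 | h1
    · exact hI h1.1
    · exact hJ h1.1
  have h1 : Ph (I ∆ J) = 1 := by rw [Ph_symmDiff h.form, e, h.form.sq]
  rcases h.eq_or hIJ (fun v _ => by rw [h1, f_one h.form]) with h2 | h2
  · left
    exact symmDiff_eq_bot.1 h2
  · right
    ext x
    rw [Finset.mem_sdiff]
    constructor
    · intro hx
      refine ⟨hI hx, fun hxJ => ?_⟩
      have h3 : x ∈ I ∆ J := by rw [h2]; exact hI hx
      rcases Finset.mem_symmDiff.1 h3 with h4 | h4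
      · exact h4.2 hxJ
      · exact h4.2 hx
    · rintro ⟨hx, hxJ⟩
      have h3 : x ∈ I ∆ J := by rw [h2]; exact hx
      rcases Finset.mem_symmDiff.1 h3 with h4 | h4
      · exact h4.1
      · exact absurd h4.1 hxJ

theorem finM (h : Nine ρ f q Ω) : Finite M := Nat.finite_of_card_ne_zero (by rw [h.cardM]; norm_num)

/-- every vector is a `Ph I`, and the product of all nine vectors is `1` -/
theorem surj (h : Nine ρ f q Ω) : (∀ x : M, ∃ I ⊆ Ω, Ph I = x) ∧ Ph Ω = 1 := by
  have := h.finM
  have := Fintype.ofFinite M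
  have hcard : Fintype.card M = 2 ^ 8 := by rw [← Nat.card_eq_fintype_card]; exact h.cardM
  set S := Ω.powerset with hS
  have hScard : S.card = 2 ^ 9 := by rw [hS, Finset.card_powerset, h.card]
  -- fibres
  have hfib : ∀ x : M, (S.filter fun I => Ph I = x).card ≤ 2 := by
    intro x
    by_contra hcon
    push Not at hcon
    obtain ⟨I, hI⟩ : (S.filter fun I => Ph I = x).Nonempty := Finset.card_pos.1 (by omega)
    have hsub : (S.filter fun I => Ph I = x) ⊆ {I, Ω \ I} := by
      intro J hJ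
      rw [Finset.mem_filter, hS, Finset.mem_powerset] at hI hJ
      rw [Finset.mem_insert, Finset.mem_singleton]
      exact h.Ph_eq hJ.1 hI.1 (hJ.2.trans hI.2.symm)
    have := (Finset.card_le_card hsub).trans Finset.card_le_two
    omega
  have hsum : S.card = ∑ x : M, (S.filter fun I => Ph I = x).card :=
    Finset.card_eq_sum_card_fiberwise (f := fun I => Ph I) (t := Finset.univ) (fun _ _ => Finset.mem_univ _)
  have hle : ∀ x : M, (S.filter fun I => Ph I = x).card = 2 := by
    by_contra hcon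
    push Not at hcon
    obtain ⟨x, hx⟩ := hcon
    have h1 : (S.filter fun I => Ph I = x).card < 2 := lt_of_le_of_ne (hfib x) hx
    have h2 : ∑ y : M, (S.filter fun I => Ph I = y).card < ∑ _y : M, 2 :=
      Finset.sum_lt_sum (fun y _ => hfib y) ⟨x, Finset.mem_univ _, h1⟩
    rw [← hsum, hScard, Finset.sum_const, Finset.card_univ, hcard] at h2
    norm_num at h2
  refine ⟨fun x => ?_, ?_⟩
  · obtain ⟨I, hI⟩ : (S.filter fun I => Ph I = x).Nonempty := Finset.card_pos.1 (by rw [hle]; norm_num)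
    rw [Finset.mem_filter, hS, Finset.mem_powerset] at hI
    exact ⟨I, hI.1, hI.2⟩
  · have h1 := hle 1
    obtain ⟨I, hI, hI0⟩ : ∃ I ∈ (S.filter fun I => Ph I = 1), I ≠ ∅ := by
      by_contra hcon
      push Not at hcon
      have : (S.filter fun I => Ph I = 1) ⊆ {∅} := fun I hI => Finset.mem_singleton.2 (hcon I hI)
      have := Finset.card_le_card this
      rw [h1, Finset.card_singleton] at this
      omega
    rw [Finset.mem_filter, hS, Finset.mem_powerset] at hI
    rcases h.eq_or hI.1 (fun v _ => by rw [hI.2, f_one h.form]) with h2 | h2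
    · exact absurd h2 hI0
    · rw [← h2]; exact hI.2

/-- the form is nondegenerate -/
theorem nondeg (h : Nine ρ f q Ω) {x : M} (hx : ∀ v ∈ Ω, f x v = 0) : x = 1 := by
  obtain ⟨I, hI, rfl⟩ := h.surj.1 x
  rcases h.eq_or hI hx with rfl | rfl
  · exact Ph_empty
  · exact h.surj.2

/-- **the fixed vectors of an element of order three** -/
theorem fixed (h : Nine ρ f q Ω) {g : X} (hg : g ^ 3 = 1) (hinv : ∀ v ∈ Ω, ρ g v ∈ Ω)
    (hfree : ∀ v ∈ Ω, ρ g v ≠ v) {x : M} (hx : ρ g x = x) (hq : q x = 0) : x = 1 := by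
  obtain ⟨I, hI, rfl⟩ := h.surj.1 x
  have himg : Ph (I.image (ρ g)) = Ph I := by
    rw [Ph, Finset.prod_image (fun a _ b _ e => (ρ g).injective e)]
    rw [← hx, Ph, map_prod]
  have hcard : (I.image (ρ g)).card = I.card := Finset.card_image_of_injective _ (ρ g).injective
  have hsub : I.image (ρ g) ⊆ Ω := by
    intro y hy
    obtain ⟨v, hv, rfl⟩ := Finset.mem_image.1 hy
    exact hinv v (hI hv)
  have hinvI : I.image (ρ g) = I := by
    rcases h.Ph_eq hsub hI himg with e | e
    · exact e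
    · exfalso
      rw [e, Finset.card_sdiff_of_subset hI, h.card] at hcard
      have : I.card ≤ 9 := by rw [← h.card]; exact Finset.card_le_card hI
      omega
  -- `3` divides the order of `I`
  have h3 : 3 ∣ I.card := by
    have : Fact (Nat.Prime 3) := ⟨Nat.prime_three⟩
    have hmem : ∀ v ∈ I, ρ g v ∈ I := fun v hv => hinvI ▸ Finset.mem_image_of_mem (ρ g) hv
    let F : Function.End I := fun v => ⟨ρ g v, hmem v v.2⟩
    have hF : F ^ 3 ^ 1 = 1 := by
      funext v
      apply Subtype.ext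
      rw [pow_one]
      change ρ g (ρ g (ρ g (v : M))) = v
      have e : ρ g (ρ g (ρ g (v : M))) = ρ (g ^ 3) v := by
        rw [pow_succ, pow_two, map_mul, map_mul]; rfl
      rw [e, hg, map_one]; rfl
    have h1 := Equiv.Perm.card_fixedPoints_modEq hF
    have h2 : Fintype.card F.fixedPoints = 0 := by
      rw [Fintype.card_eq_zero_iff]
      refine ⟨fun v => ?_⟩
      obtain ⟨v, hv⟩ := v
      exact hfree v (hI v.2) (congrArg Subtype.val hv)
    rw [h2, Fintype.card_coe] at h1
    exact (Nat.modEq_zero_iff_dvd).1 h1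
  have hle : I.card ≤ 9 := by rw [← h.card]; exact Finset.card_le_card hI
  rw [h.q_Ph hI] at hq
  obtain ⟨k, hk⟩ := h3
  have hk' : k = 0 ∨ k = 1 ∨ k = 2 ∨ k = 3 := by omega
  rcases hk' with rfl | rfl | rfl | rfl
  · rw [Finset.card_eq_zero.1 hk]; exact Ph_empty
  · rw [hk] at hq
    exact absurd hq (by decide)
  · rw [hk] at hq
    exact absurd hq (by decide)
  · have : I = Ω := Finset.eq_of_subset_of_card_le hI (by rw [h.card, hk])
    rw [this]; exact h.surj.2

end Nine

end Cfsg.Agent.OddCyclic.BTwoLin.EightMod
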