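import Cfsg.Agent.OddCyclic.BTwoLin.Defs
import Cfsg.Agent.MinSimple.Sec

/-!
# The module `N/⟨z⟩` in multiplicative form, with its commutator form and squaring map
-/

set_option autoImplicit false
set_option linter.dupNamespace false

namespace Cfsg.Agent.OddCyclic.BTwoLin.Rep

open Subgroup Cfsg.Agent.MinSimple.Sec Cfsg.Agent.MinSimple.Sec.Mod

universe u

variable {G : Type u} [Group G] {N C : Subgroup G} {z : G}

/-- `N/⟨z⟩`, multiplicative -/
abbrev MM (s : Sec N C z) : Type u := Multiplicative (Mod s)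

/-- the class of an element of `N` -/
def cl (s : Sec N C z) (n : G) (hn : n ∈ N) : MM s := Multiplicative.ofAdd (mk s n hn)

variable {s : Sec N C z}

theorem cl_surj (x : MM s) : ∃ n, ∃ hn : n ∈ N, cl s n hn = x := mk_surj (s := s) x.toAdd

theorem cl_mul {a b : G} (ha : a ∈ N) (hb : b ∈ N) : cl s (a * b) (mul_mem ha hb) = cl s a ha * cl s b hb := rfl

theorem cl_one : cl s 1 (one_mem N) = 1 := rfl

theorem cl_eq {a b : G} (ha : a ∈ N) (hb : b ∈ N) : cl s a ha = cl s b hb ↔ a⁻¹ * b ∈ zpowers z :=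
  mk_eq (s := s) ha hb

theorem cl_eq_one {a : G} (ha : a ∈ N) : cl s a ha = 1 ↔ a ∈ zpowers z := mk_eq_zero (s := s) ha

theorem mul_self (x : MM s) : x * x = 1 := add_self (s := s) x.toAdd

theorem cl_inv {a : G} (ha : a ∈ N) : cl s a⁻¹ (inv_mem ha) = (cl s a ha)⁻¹ := by
  rw [eq_inv_iff_mul_eq_one, ← cl_mul (inv_mem ha) ha, cl_eq_one, inv_mul_cancel]
  exact one_mem _

/-- The action of `C`. -/
def rp (s : Sec N C z) : C →* MulAut (MM s) where
  toFun c :=
    { toFun := fun x => Multiplicative.ofAdd (c • x.toAdd)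
      invFun := fun x => Multiplicative.ofAdd (c⁻¹ • x.toAdd)
      left_inv := fun x => by simp
      right_inv := fun x => by simp
      map_mul' := fun x y => by
        change Multiplicative.ofAdd (c • (x.toAdd + y.toAdd)) = _
        rw [smul_add]; rfl }
  map_one' := by
    ext x
    change Multiplicative.ofAdd ((1 : C) • x.toAdd) = x
    rw [one_smul]; rfl
  map_mul' := fun c d => by
    ext x
    change Multiplicative.ofAdd ((c * d) • x.toAdd) = Multiplicative.ofAdd (c • (d • x.toAdd))
    rw [mul_smul]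

theorem rp_cl (c : C) {a : G} (ha : a ∈ N) :
    rp s c (cl s a ha) = cl s ((c : G) * a * (c : G)⁻¹) (s.CN c c.2 a ha) := rfl

theorem rp_eq_one {c : C} : rp s c = 1 ↔ ∀ n ∈ N, (c : G) * n * (c : G)⁻¹ * n⁻¹ ∈ zpowers z := by
  rw [← rep_eq_one (s := s)]
  constructor
  · intro h
    refine aut_ext fun x => ?_
    rw [one_smul, rep_smul]
    exact congrArg Multiplicative.toAdd (congrArg (fun g : MulAut (MM s) => g (Multiplicative.ofAdd x)) h)
  · intro h
    ext x
    have h1 : rep s c • x.toAdd = x.toAdd := by rw [h, one_smul]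
    rw [rep_smul] at h1
    exact congrArg Multiplicative.ofAdd h1

/-- The group induced by `C`. -/
abbrev XX (s : Sec N C z) : Type u := (rp s).range

/-- its action -/
def rho (s : Sec N C z) : XX s →* MulAut (MM s) := (rp s).range.subtype

/-- the image of an element of `C` -/
def im (s : Sec N C z) (c : G) (hc : c ∈ C) : XX s := ⟨rp s ⟨c, hc⟩, ⟨⟨c, hc⟩, rfl⟩⟩

theorem im_surj (x : XX s) : ∃ c, ∃ hc : c ∈ C, im s c hc = x := by
  obtain ⟨y, ⟨c, rfl⟩⟩ := x
  exact ⟨c, c.2, rfl⟩

theorem im_mul {c d : G} (hc : c ∈ C) (hd : d ∈ C) : im s (c * d) (mul_mem hc hd) = im s c hc * im s d hd := by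
  apply Subtype.ext
  exact map_mul (rp s) ⟨c, hc⟩ ⟨d, hd⟩

theorem im_inv {c : G} (hc : c ∈ C) : im s c⁻¹ (inv_mem hc) = (im s c hc)⁻¹ := by
  apply Subtype.ext
  exact map_inv (rp s) ⟨c, hc⟩

theorem im_one : im s 1 (one_mem C) = 1 := by
  apply Subtype.ext
  exact map_one (rp s)

theorem im_eq_one {c : G} (hc : c ∈ C) : im s c hc = 1 ↔ ∀ n ∈ N, c * n * c⁻¹ * n⁻¹ ∈ zpowers z := by
  rw [← rp_eq_one (s := s) (c := ⟨c, hc⟩)]
  exact Subtype.ext_iff

theorem rho_im {c a : G} (hc : c ∈ C) (ha : a ∈ N) :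
    rho s (im s c hc) (cl s a ha) = cl s (c * a * c⁻¹) (s.CN c hc a ha) := rfl

/-- the surjection `C → X` -/
def imh (s : Sec N C z) : C →* XX s := (rp s).rangeRestrict

theorem imh_surj : Function.Surjective (imh s) := (rp s).rangeRestrict_surjective

theorem imh_apply (c : C) : imh s c = im s c c.2 := rfl

theorem faith (g : XX s) (h : ∀ x, rho s g x = x) : g = 1 := by
  apply Subtype.ext
  ext x
  exact h x

/-- the image of a subgroup -/
def ims (s : Sec N C z) (U : Subgroup G) : Subgroup (XX s) := (U.subgroupOf C).map (imh s)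

theorem mem_ims {U : Subgroup G} {x : XX s} : x ∈ ims s U ↔ ∃ u ∈ U, ∃ hu : u ∈ C, im s u hu = x := by
  constructor
  · rintro ⟨u, hu, rfl⟩
    exact ⟨u, hu, u.2, rfl⟩
  · rintro ⟨u, hu, hu', rfl⟩
    exact ⟨⟨u, hu'⟩, hu, rfl⟩

theorem ims_mono {U W : Subgroup G} (h : U ≤ W) : ims s U ≤ ims s W := by
  intro x hx
  obtain ⟨u, hu, hu', rfl⟩ := mem_ims.1 hx
  exact mem_ims.2 ⟨u, h hu, hu', rfl⟩

/-- the image of a subgroup of `N` in the module -/
def cls (s : Sec N C z) (U : Subgroup G) : Subgroup (MM s) where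
  carrier := {x | ∃ u ∈ U, ∃ hu : u ∈ N, cl s u hu = x}
  one_mem' := ⟨1, one_mem _, one_mem _, cl_one⟩
  mul_mem' := by
    rintro _ _ ⟨u, hu, hu', rfl⟩ ⟨v, hv, hv', rfl⟩
    exact ⟨u * v, mul_mem hu hv, mul_mem hu' hv', cl_mul _ _⟩
  inv_mem' := by
    rintro _ ⟨u, hu, hu', rfl⟩
    exact ⟨u⁻¹, inv_mem hu, inv_mem hu', cl_inv _⟩

theorem mem_cls {U : Subgroup G} (hz : z ∈ U) {a : G} (ha : a ∈ N) : cl s a ha ∈ cls s U ↔ a ∈ U := by
  constructor
  · rintro ⟨u, hu, hu', h⟩
    rw [cl_eq] at h
    have h1 : u * (u⁻¹ * a) ∈ U := mul_mem hu ((zpowers_le.mpr hz) h)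
    rwa [mul_inv_cancel_left] at h1
  · intro h
    exact ⟨a, h, ha, rfl⟩

/-! ### cardinalities -/

/-- the homomorphism `N → N/⟨z⟩` -/
def clh (s : Sec N C z) : N →* MM s where
  toFun n := cl s n n.2
  map_one' := rfl
  map_mul' a b := rfl

theorem clh_surj : Function.Surjective (clh s) := fun x => by
  obtain ⟨n, hn, h⟩ := cl_surj x
  exact ⟨⟨n, hn⟩, h⟩

theorem ker_clh : (clh s).ker = (zpowers z).subgroupOf N := by
  ext n
  rw [MonoidHom.mem_ker, mem_subgroupOf]
  exact cl_eq_one n.2

theorem card_MM (hz : z ≠ 1) : 2 * Nat.card (MM s) = Nat.card N := by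
  have h1 := Subgroup.card_mul_index (clh s).ker
  rw [Subgroup.index_ker, MonoidHom.range_eq_top.2 clh_surj, Subgroup.card_top] at h1
  have h2 : Nat.card (clh s).ker = 2 := by
    rw [ker_clh]
    have h3 : Nat.card ((zpowers z).subgroupOf N) = Nat.card (zpowers z) :=
      Nat.card_congr (Subgroup.subgroupOfEquivOfLe ((zpowers_le).2 s.zN)).toEquiv
    rw [h3, Nat.card_zpowers]
    exact orderOf_eq_prime (by rw [pow_two]; exact s.zz) hz
  rw [h2] at h1
  exact h1

theorem card_cls (hz : z ≠ 1) {U : Subgroup G} (hzU : z ∈ U) (hU : U ≤ N) :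
    2 * Nat.card (cls s U) = Nat.card U := by
  have h0 : cls s U = ((clh s).comp (Subgroup.inclusion hU)).range := by
    ext x
    constructor
    · rintro ⟨u, hu, hu', rfl⟩
      exact ⟨⟨u, hu⟩, rfl⟩
    · rintro ⟨u, rfl⟩
      exact ⟨u, u.2, hU u.2, rfl⟩
  have h1 := Subgroup.card_mul_index ((clh s).comp (Subgroup.inclusion hU)).ker
  rw [Subgroup.index_ker, ← h0] at h1
  have h2 : Nat.card ((clh s).comp (Subgroup.inclusion hU)).ker = 2 := by
    have h4 : ((clh s).comp (Subgroup.inclusion hU)).ker = (zpowers z).subgroupOf U := by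
      ext n
      rw [MonoidHom.mem_ker, mem_subgroupOf]
      exact cl_eq_one (hU n.2)
    rw [h4]
    have h3 : Nat.card ((zpowers z).subgroupOf U) = Nat.card (zpowers z) :=
      Nat.card_congr (Subgroup.subgroupOfEquivOfLe ((zpowers_le).2 hzU)).toEquiv
    rw [h3, Nat.card_zpowers]
    exact orderOf_eq_prime (by rw [pow_two]; exact s.zz) hz
  rw [h2] at h1
  exact h1

/-- `|im U| |U ∩ K| = |U|` for the kernel `K` -/
theorem card_ims [Finite G] {U K : Subgroup G} (hU : U ≤ C)
    (hK : ∀ c (hc : c ∈ C), c ∈ K ↔ im s c hc = 1) :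
    Nat.card (ims s U) * Nat.card (U ⊓ K : Subgroup G) = Nat.card U := by
  have h0 : ims s U = ((imh s).comp (Subgroup.inclusion hU)).range := by
    ext x
    rw [mem_ims]
    constructor
    · rintro ⟨u, hu, hu', rfl⟩
      exact ⟨⟨u, hu⟩, rfl⟩
    · rintro ⟨u, rfl⟩
      exact ⟨u, u.2, hU u.2, rfl⟩
  have h1 := Subgroup.card_mul_index ((imh s).comp (Subgroup.inclusion hU)).ker
  rw [Subgroup.index_ker, ← h0] at h1
  have h2 : Nat.card ((imh s).comp (Subgroup.inclusion hU)).ker = Nat.card (U ⊓ K : Subgroup G) := by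
    have h4 : ((imh s).comp (Subgroup.inclusion hU)).ker = (U ⊓ K).subgroupOf U := by
      ext n
      rw [MonoidHom.mem_ker, mem_subgroupOf, mem_inf]
      constructor
      · intro h; exact ⟨n.2, (hK n (hU n.2)).2 h⟩
      · intro h; exact (hK n (hU n.2)).1 h.2
    rw [h4]
    exact Nat.card_congr (Subgroup.subgroupOfEquivOfLe inf_le_left).toEquiv
  rw [h2, mul_comm] at h1
  exact h1

/-! ### the forms -/

open Classical in
/-- the commutator form -/
noncomputable def ff (s : Sec N C z) (x y : MM s) : ZMod 2 :=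
  if (cl_surj x).choose * (cl_surj y).choose = (cl_surj y).choose * (cl_surj x).choose then 0 else 1

open Classical in
/-- the squaring map -/
noncomputable def qq (s : Sec N C z) (x : MM s) : ZMod 2 :=
  if (cl_surj x).choose * (cl_surj x).choose = 1 then 0 else 1

theorem zcomm (s : Sec N C z) {a : G} (ha : a ∈ N) : a * z = z * a := s.zC a (s.NC ha)

theorem eq_or_of_cl {a b : G} (ha : a ∈ N) (hb : b ∈ N) (h : cl s a ha = cl s b hb) : b = a ∨ b = z * a := by
  rw [cl_eq, Cfsg.Agent.MinSimple.Sec.mem_zpowers s.zz] at h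
  rcases h with h | h
  · left; exact (inv_mul_eq_one.1 h).symm
  · right
    have : b = a * z := by rw [← h]; group
    rw [this]
    exact zcomm s ha

theorem comm_congr {a a' b b' : G} (ha : a ∈ N) (ha' : a' ∈ N) (hb : b ∈ N) (hb' : b' ∈ N)
    (h1 : cl s a ha = cl s a' ha') (h2 : cl s b hb = cl s b' hb') : a * b = b * a ↔ a' * b' = b' * a' := by
  have hza := zcomm s ha
  have hzb := zcomm s hb
  have hz1 : ∀ x, x ∈ N → (x * b = b * x ↔ x * (z * b) = z * b * x) := by
    intro x hx
    have hzx := zcomm s hx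
    constructor
    · intro h
      calc x * (z * b) = x * z * b := by group
        _ = z * (x * b) := by rw [hzx]; group
        _ = z * b * x := by rw [h]; group
    · intro h
      have : z * (x * b) = z * (b * x) := by
        calc z * (x * b) = z * x * b := by group
          _ = x * (z * b) := by rw [← hzx]; group
          _ = z * (b * x) := by rw [h]; group
      exact mul_left_cancel this
  have hz2 : ∀ y, y ∈ N → (a * y = y * a ↔ z * a * y = y * (z * a)) := by
    intro y hy
    have hzy := zcomm s hy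
    constructor
    · intro h
      calc z * a * y = z * (a * y) := by group
        _ = (z * y) * a := by rw [h]; group
        _ = y * (z * a) := by rw [← hzy]; group
    · intro h
      have : z * (a * y) = z * (y * a) := by
        calc z * (a * y) = z * a * y := by group
          _ = (y * z) * a := by rw [h]; group
          _ = z * (y * a) := by rw [hzy]; group
      exact mul_left_cancel this
  rcases eq_or_of_cl ha ha' h1 with rfl | rfl <;> rcases eq_or_of_cl hb hb' h2 with rfl | rfl
  · rfl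
  · exact hz1 _ ha
  · exact hz2 _ hb
  · rw [hz1 a ha]
    have h3 : z * b ∈ N := mul_mem s.zN hb
    exact hz2 _ h3

theorem sq_congr {a a' : G} (ha : a ∈ N) (ha' : a' ∈ N) (h1 : cl s a ha = cl s a' ha') : a' * a' = a * a := by
  have hza := zcomm s ha
  rcases eq_or_of_cl ha ha' h1 with rfl | rfl
  · rfl
  · calc z * a * (z * a) = z * (a * z) * a := by group
      _ = (z * z) * (a * a) := by rw [hza]; group
      _ = a * a := by rw [s.zz, one_mul]

open Classical in
theorem ff_cl {a b : G} (ha : a ∈ N) (hb : b ∈ N) :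
    ff s (cl s a ha) (cl s b hb) = if a * b = b * a then 0 else 1 := by
  obtain ⟨h1, h2⟩ := (cl_surj (cl s a ha)).choose_spec
  obtain ⟨h3, h4⟩ := (cl_surj (cl s b hb)).choose_spec
  have h5 := comm_congr h1 ha h3 hb h2 h4
  rw [ff]
  simp only [h5]

open Classical in
theorem qq_cl {a : G} (ha : a ∈ N) : qq s (cl s a ha) = if a * a = 1 then 0 else 1 := by
  obtain ⟨h1, h2⟩ := (cl_surj (cl s a ha)).choose_spec
  have h5 := sq_congr h1 ha h2
  rw [qq, h5]

theorem ff_cl_eq_zero {a b : G} (ha : a ∈ N) (hb : b ∈ N) : ff s (cl s a ha) (cl s b hb) = 0 ↔ a * b = b * a := by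
  classical
  rw [ff_cl]
  constructor
  · intro h
    by_contra h1
    rw [if_neg h1] at h
    exact absurd h (by decide)
  · intro h; rw [if_pos h]

theorem qq_cl_eq_zero {a : G} (ha : a ∈ N) : qq s (cl s a ha) = 0 ↔ a * a = 1 := by
  classical
  rw [qq_cl]
  constructor
  · intro h
    by_contra h1
    rw [if_neg h1] at h
    exact absurd h (by decide)
  · intro h; rw [if_pos h]

theorem zmod_eq {a b : ZMod 2} (h : a = 0 ↔ b = 0) : a = b := by
  revert a b; decide

/-- a product of signs -/
theorem comm_cases (s : Sec N C z) {a b : G} (ha : a ∈ N) (hb : b ∈ N) : a * b = b * a ∨ a * b = z * (b * a) := by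
  have h1 := (Cfsg.Agent.MinSimple.Sec.mem_zpowers s.zz).1 (s.comm_mem ha hb)
  rcases h1 with e | e
  · left
    calc a * b = (a * b * a⁻¹ * b⁻¹) * (b * a) := by group
      _ = b * a := by rw [e, one_mul]
  · right
    calc a * b = (a * b * a⁻¹ * b⁻¹) * (b * a) := by group
      _ = z * (b * a) := by rw [e]

theorem zmod_add_iff {a b c : ZMod 2} (h1 : a = 0 → (b = 0 ↔ c = 0)) (h2 : a ≠ 0 → (b = 0 ↔ c ≠ 0)) : b = a + c := by
  revert a b c; decide

theorem form (s : Sec N C z) (hz : z ≠ 1) : Form (rho s) (ff s) (qq s) where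
  sq := mul_self
  f_mul := by
    intro x y w
    obtain ⟨a, ha, rfl⟩ := cl_surj x
    obtain ⟨b, hb, rfl⟩ := cl_surj y
    obtain ⟨c, hc, rfl⟩ := cl_surj w
    have hzb := zcomm s hb
    have hza := zcomm s ha
    rw [← cl_mul]
    refine zmod_add_iff ?_ ?_
    · intro h
      rw [ff_cl_eq_zero] at h
      rw [ff_cl_eq_zero, ff_cl_eq_zero]
      constructor
      · intro h1
        have : a * (b * c) = a * (c * b) := by
          calc a * (b * c) = a * b * c := by group
            _ = c * a * b := by rw [h1]; group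
            _ = a * (c * b) := by rw [← h]; group
        exact mul_left_cancel this
      · intro h1
        calc a * b * c = a * (b * c) := by group
          _ = (a * c) * b := by rw [h1]; group
          _ = c * (a * b) := by rw [h]; group
    · intro h
      rw [Ne, ff_cl_eq_zero] at h
      have h' := (comm_cases s ha hc).resolve_left h
      rw [Ne, ff_cl_eq_zero, ff_cl_eq_zero]
      constructor
      · intro h1 h2
        apply hz
        have : z * (c * (a * b)) = 1 * (c * (a * b)) := by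
          calc z * (c * (a * b)) = (z * (c * a)) * b := by group
            _ = a * (c * b) := by rw [← h']; group
            _ = a * b * c := by rw [← h2]; group
            _ = 1 * (c * (a * b)) := by rw [h1, one_mul]
        exact mul_right_cancel this
      · intro h1
        have h2 := (comm_cases s hb hc).resolve_left h1
        calc a * b * c = a * (b * c) := by group
          _ = (a * z) * (c * b) := by rw [h2]; group
          _ = z * (a * c) * b := by rw [hza]; group
          _ = (z * z) * (c * (a * b)) := by rw [h']; group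
          _ = c * (a * b) := by rw [s.zz, one_mul]
  f_symm := by
    intro x y
    obtain ⟨a, ha, rfl⟩ := cl_surj x
    obtain ⟨b, hb, rfl⟩ := cl_surj y
    refine zmod_eq ?_
    rw [ff_cl_eq_zero, ff_cl_eq_zero]
    exact eq_comm
  q_mul := by
    intro x y
    obtain ⟨a, ha, rfl⟩ := cl_surj x
    obtain ⟨b, hb, rfl⟩ := cl_surj y
    have hza := zcomm s ha
    have hzb := zcomm s hb
    -- (ab)(ab) = [.] a a b b
    have ha2 := s.sq a ha
    have hb2 := s.sq b hb
    rw [← cl_mul]
    have key : ∀ {p q r t : ZMod 2}, (t = 0 → (p = 0 ↔ (q = 0 ↔ r = 0))) → (t ≠ 0 → (p = 0 ↔ ¬ (q = 0 ↔ r = 0))) →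
        p = q + r + t := by decide
    refine key ?_ ?_
    · intro h
      rw [ff_cl_eq_zero] at h
      rw [qq_cl_eq_zero, qq_cl_eq_zero, qq_cl_eq_zero]
      have e : a * b * (a * b) = (a * a) * (b * b) := by
        calc a * b * (a * b) = a * (b * a) * b := by group
          _ = (a * a) * (b * b) := by rw [← h]; group
      rw [e]
      rcases ha2 with h1 | h1 <;> rcases hb2 with h2 | h2 <;> rw [h1, h2] <;> simp [hz, s.zz]
    · intro h
      rw [Ne, ff_cl_eq_zero] at h
      rw [qq_cl_eq_zero, qq_cl_eq_zero, qq_cl_eq_zero]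
      have h' := (comm_cases s hb ha).resolve_left (fun e => h e.symm)
      have e : a * b * (a * b) = z * ((a * a) * (b * b)) := by
        calc a * b * (a * b) = a * (b * a) * b := by group
          _ = (a * z) * (a * b) * b := by rw [h']; group
          _ = z * ((a * a) * (b * b)) := by rw [hza]; group
      rw [e]
      rcases ha2 with h1 | h1 <;> rcases hb2 with h2 | h2 <;> rw [h1, h2] <;> simp [hz, s.zz]
  f_inv := by
    intro g x y
    obtain ⟨a, ha, rfl⟩ := cl_surj x
    obtain ⟨b, hb, rfl⟩ := cl_surj y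
    obtain ⟨c, hc, rfl⟩ := im_surj g
    refine zmod_eq ?_
    rw [rho_im, rho_im, ff_cl_eq_zero, ff_cl_eq_zero]
    constructor
    · intro h
      have h1 : c⁻¹ * (c * a * c⁻¹ * (c * b * c⁻¹)) * c = c⁻¹ * (c * b * c⁻¹ * (c * a * c⁻¹)) * c := by rw [h]
      calc a * b = c⁻¹ * (c * a * c⁻¹ * (c * b * c⁻¹)) * c := by group
        _ = b * a := by rw [h1]; group
    · intro h
      calc c * a * c⁻¹ * (c * b * c⁻¹) = c * (a * b) * c⁻¹ := by group
        _ = c * b * c⁻¹ * (c * a * c⁻¹) := by rw [h]; group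
  q_inv := by
    intro g x
    obtain ⟨a, ha, rfl⟩ := cl_surj x
    obtain ⟨c, hc, rfl⟩ := im_surj g
    refine zmod_eq ?_
    rw [rho_im, qq_cl_eq_zero, qq_cl_eq_zero]
    constructor
    · intro h
      have h1 : c⁻¹ * (c * a * c⁻¹ * (c * a * c⁻¹)) * c = 1 := by rw [h]; group
      calc a * a = c⁻¹ * (c * a * c⁻¹ * (c * a * c⁻¹)) * c := by group
        _ = 1 := h1
    · intro h
      calc c * a * c⁻¹ * (c * a * c⁻¹) = c * (a * a) * c⁻¹ := by group
        _ = 1 := by rw [h]; group

end Cfsg.Agent.OddCyclic.BTwoLin.Rep
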