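import Cfsg.Agent.OddCyclic.BTwoK
import Cfsg.Agent.OddCyclic.CompBasic

/-!
# (f3): `3` does not divide `|C_G(V)|`

blueprints/S0342-Ba-helper208.md, section 0, (f3).
-/

set_option autoImplicit false
set_option linter.dupNamespace false

namespace Cfsg.Agent.OddCyclic.BTwoLin.Three

open Subgroup Cfsg Cfsg.Agent.ZN Cfsg.Agent.MinSimple.Geo Cfsg.Agent.OddCyclic.GeoC
  Cfsg.Agent.OddCyclic.BTwoA Cfsg.Agent.OddCyclic.BTwoB Cfsg.Agent.OddCyclic.BTwoK
open Cfsg.Agent.OddCyclic.T1Defs (OddCyc)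
open scoped Pointwise
open Cfsg.Agent.ZN.Block (conj_mem_of_normalizer conj_mem_of_normalizer' le_normalizer_of_forall
  mem_normalizer_of)

universe u

section Abstract

variable {H : Type*} [Group H] [Finite H] {S : Type*} [Group S]

/-- No element of order three in the kernel of a map onto `S₃`, commuting with a "transposition". -/
theorem false_of_comm (hc : OddCyc H) (φ : H →* S) {x s y₀ : H} (hx : orderOf x = 3) (hxs : s * x = x * s)
    (hy3 : φ y₀ * φ y₀ * φ y₀ = 1) (hy1 : φ y₀ ≠ 1) (hs : φ s * φ y₀ * (φ s)⁻¹ = (φ y₀)⁻¹)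
    (h3 : ∀ h : H, (∃ k : ℕ, h ^ 3 ^ k = 1) → φ h ∈ zpowers (φ y₀)) : False := by
  have : Fact (Nat.Prime 3) := ⟨Nat.prime_three⟩
  have hpx : IsPGroup 3 (zpowers x) := IsPGroup.of_card (n := 1) (by rw [Nat.card_zpowers, hx, pow_one])
  obtain ⟨P, hP⟩ := hpx.exists_le_sylow
  have hxP : x ∈ P := hP (mem_zpowers x)
  have hcyc : IsCyclic P := hc 3 P Nat.prime_three (by norm_num)
  obtain ⟨⟨y, hyP⟩, hy⟩ := hcyc.exists_generator
  have hgen : ∀ g ∈ P, ∃ k : ℤ, y ^ k = g := by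
    intro g hg
    obtain ⟨k, hk⟩ := mem_zpowers_iff.1 (hy ⟨g, hg⟩)
    exact ⟨k, congrArg Subtype.val hk⟩
  have h3P : ∀ g ∈ P, ∃ k : ℕ, g ^ 3 ^ k = 1 := by
    intro g hg
    obtain ⟨k, hk⟩ := P.isPGroup' ⟨g, hg⟩
    exact ⟨k, congrArg Subtype.val hk⟩
  have hord : orderOf (φ y₀) = 3 := by
    refine orderOf_eq_prime ?_ hy1
    rw [pow_succ, pow_two]; exact hy3
  have hφy : φ y ≠ 1 := by
    intro h1
    have hle : (P : Subgroup H) ≤ φ.ker := by
      intro g hg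
      obtain ⟨k, rfl⟩ := hgen g hg
      rw [MonoidHom.mem_ker, map_zpow, h1, one_zpow]
    have h2 : φ.ker.index ∣ (P : Subgroup H).index := Subgroup.index_dvd_of_le hle
    have h4 : 3 ∣ φ.ker.index := by
      rw [Subgroup.index_ker, ← hord]
      have h5 : orderOf (⟨φ y₀, ⟨y₀, rfl⟩⟩ : φ.range) ∣ Nat.card φ.range := orderOf_dvd_natCard _
      have h6 : orderOf (⟨φ y₀, ⟨y₀, rfl⟩⟩ : φ.range) = orderOf (φ y₀) := by
        rw [← Subgroup.orderOf_coe]
      rwa [h6] at h5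
    exact Sylow.not_dvd_index P (h4.trans h2)
  have hyy : φ y ∈ zpowers (φ y₀) := h3 y (h3P y hyP)
  have hinv : φ s * φ y * (φ s)⁻¹ = (φ y)⁻¹ := by
    obtain ⟨k, hk⟩ := mem_zpowers_iff.1 hyy
    rw [← hk]
    have : φ s * φ y₀ ^ k * (φ s)⁻¹ = (φ s * φ y₀ * (φ s)⁻¹) ^ k := by
      rw [← MulAut.conj_apply, ← MulAut.conj_apply, map_zpow]
    rw [this, hs, inv_zpow]
  have hcube : (φ y) ^ (3 : ℤ) = 1 := by
    obtain ⟨k, hk⟩ := mem_zpowers_iff.1 hyy
    rw [← hk, ← zpow_mul, mul_comm, zpow_mul]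
    have : (φ y₀) ^ (3 : ℤ) = 1 := by
      rw [show (3 : ℤ) = ((3 : ℕ) : ℤ) by norm_num, zpow_natCast, ← hord, pow_orderOf_eq_one]
    rw [this, one_zpow]
  have hordy : orderOf (φ y) = 3 := orderOf_eq_prime (by
    rw [← zpow_natCast]; exact hcube) hφy
  -- the centraliser of `x`
  set N₁ : Subgroup H := centralizer {x} with hN₁
  have hsN : s ∈ N₁ := mem_centralizer_singleton_iff.2 hxs
  have hcomm : ∀ g ∈ P, ∀ g' ∈ P, g * g' = g' * g := by
    intro g hg g' hg'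
    obtain ⟨k, rfl⟩ := hgen g hg
    obtain ⟨j, rfl⟩ := hgen g' hg'
    rw [← zpow_add, add_comm, zpow_add]
  have hPN : (P : Subgroup H) ≤ N₁ := fun g hg => mem_centralizer_singleton_iff.2 (hcomm g hg x hxP)
  set L : Subgroup H := (φ.ker ⊓ N₁) ⊔ P with hL
  have hLN : L ≤ N₁ := sup_le inf_le_right hPN
  have hφL : ∀ l ∈ L, φ l ∈ zpowers (φ y) := by
    have : L ≤ (zpowers (φ y)).comap φ := by
      refine sup_le ?_ ?_
      · intro l hl
        have h1 : φ l = 1 := MonoidHom.mem_ker.1 hl.1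
        rw [mem_comap, h1]; exact one_mem _
      · intro g hg
        obtain ⟨k, rfl⟩ := hgen g hg
        rw [mem_comap, map_zpow]; exact zpow_mem (mem_zpowers _) k
    exact this
  have hPL : (P : Subgroup H) ≤ L := le_sup_right
  have hsy : s * y * s⁻¹ ∈ L := by
    have h1 : s * y * s⁻¹ * y ∈ φ.ker ⊓ N₁ := by
      refine Subgroup.mem_inf.2 ⟨?_, ?_⟩
      · rw [MonoidHom.mem_ker, map_mul, map_mul, map_mul, map_inv, hinv, inv_mul_cancel]
      · exact mul_mem (mul_mem (mul_mem hsN (hPN hyP)) (inv_mem hsN)) (hPN hyP)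
    have h2 : s * y * s⁻¹ = (s * y * s⁻¹ * y) * y⁻¹ := by group
    rw [h2]
    exact mul_mem (le_sup_left (a := φ.ker ⊓ N₁) (b := (P : Subgroup H)) h1) (hPL (inv_mem hyP))
  have hsPL : ((s • P : Sylow 3 H) : Subgroup H) ≤ L := by
    intro g hg
    rw [Sylow.coe_subgroup_smul] at hg
    obtain ⟨p, hp, rfl⟩ := hg
    obtain ⟨k, rfl⟩ := hgen p hp
    have h1 : (s * y * s⁻¹) ^ k = MulAut.conj s (y ^ k) := by
      rw [map_zpow, MulAut.conj_apply]
    change MulAut.conj s (y ^ k) ∈ L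
    rw [← h1]
    exact zpow_mem hsy k
  obtain ⟨⟨l, hlL⟩, hl⟩ := MulAction.exists_smul_eq L ((s • P).subtype hsPL) (P.subtype hPL)
  set t := l * s with ht
  have htN : t ∈ N₁ := mul_mem (hLN hlL) hsN
  have hty : t * y * t⁻¹ ∈ P := by
    have h1 : s * y * s⁻¹ ∈ ((s • P : Sylow 3 H) : Subgroup H) := by
      rw [Sylow.coe_subgroup_smul]
      exact ⟨y, hyP, rfl⟩
    have h2 : (⟨s * y * s⁻¹, hsPL h1⟩ : L) ∈ ((s • P).subtype hsPL : Subgroup L) := by
      rw [Sylow.coe_subtype, mem_subgroupOf]; exact h1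
    have h3 : (⟨l, hlL⟩ : L) * ⟨s * y * s⁻¹, hsPL h1⟩ * (⟨l, hlL⟩ : L)⁻¹ ∈
        (((⟨l, hlL⟩ : L) • ((s • P).subtype hsPL) : Sylow 3 L) : Subgroup L) := by
      rw [Sylow.coe_subgroup_smul]
      exact ⟨_, h2, rfl⟩
    rw [hl, Sylow.coe_subtype, mem_subgroupOf] at h3
    have h4 : t * y * t⁻¹ = l * (s * y * s⁻¹) * l⁻¹ := by rw [ht]; group
    rw [h4]; exact h3
  obtain ⟨k, hk⟩ := hgen _ hty
  -- first congruence
  have e1 : φ y ^ (k + 1) = 1 := by
    have h1 : φ (t * y * t⁻¹) = (φ y)⁻¹ := by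
      obtain ⟨j, hj⟩ := mem_zpowers_iff.1 (hφL l hlL)
      have h2 : φ (t * y * t⁻¹) = φ l * (φ s * φ y * (φ s)⁻¹) * (φ l)⁻¹ := by
        rw [ht, map_mul, map_mul, map_inv, map_mul]; group
      rw [h2, hinv, ← hj]
      group
    rw [← hk, map_zpow] at h1
    rw [zpow_add, h1, zpow_one, inv_mul_cancel]
  have e2 : x ^ (k - 1) = 1 := by
    obtain ⟨j, hj⟩ := hgen x hxP
    have h1 : t * x * t⁻¹ = x := by
      have := mem_centralizer_singleton_iff.1 htN
      rw [this, mul_inv_cancel_right]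
    have h2 : t * x * t⁻¹ = x ^ k := by
      calc t * x * t⁻¹ = t * y ^ j * t⁻¹ := by rw [hj]
        _ = (t * y * t⁻¹) ^ j := by rw [← MulAut.conj_apply, ← MulAut.conj_apply, map_zpow]
        _ = (y ^ k) ^ j := by rw [hk]
        _ = (y ^ j) ^ k := by rw [← zpow_mul, mul_comm, zpow_mul]
        _ = x ^ k := by rw [hj]
    rw [zpow_sub, zpow_one, ← h2, h1, mul_inv_cancel]
  have d1 : (3 : ℤ) ∣ k + 1 := by
    have := orderOf_dvd_iff_zpow_eq_one.2 e1
    rwa [hordy] at this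
  have d2 : (3 : ℤ) ∣ k - 1 := by
    have := orderOf_dvd_iff_zpow_eq_one.2 e2
    rwa [hx] at this
  omega

/-- a fixed point outside a subgroup of index two of a 2-group -/
theorem exists_fixed {Q K : Subgroup H} (hQ : IsPGroup 2 Q) (hK : K ≤ Q) (hi : K.relIndex Q = 2) {x : H}
    (hx : x ^ 3 = 1) (hxQ : ∀ g ∈ Q, x * g * x⁻¹ ∈ Q) (hxK : ∀ g ∈ Q, x * g * x⁻¹ ∈ K → g ∈ K) :
    ∃ s ∈ Q, s ∉ K ∧ s * x = x * s := by
  classical
  have : Fact (Nat.Prime 3) := ⟨Nat.prime_three⟩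
  let α := {s : H // s ∈ Q ∧ s ∉ K}
  have : Fintype α := Fintype.ofFinite α
  let f : Function.End α := fun s => ⟨x * s.1 * x⁻¹, hxQ _ s.2.1, fun h => s.2.2 (hxK _ s.2.1 h)⟩
  have hf : f ^ 3 ^ 1 = 1 := by
    funext s
    apply Subtype.ext
    rw [pow_one]
    change x * (x * (x * (s : H) * x⁻¹) * x⁻¹) * x⁻¹ = s
    have e : x * (x * (x * (s : H) * x⁻¹) * x⁻¹) * x⁻¹ = x ^ 3 * s * (x ^ 3)⁻¹ := by
      rw [pow_succ, pow_two]; group
    rw [e, hx]; simp
  have h1 := Equiv.Perm.card_fixedPoints_modEq hf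
  -- the number of elements of `α`
  obtain ⟨n, hn⟩ := hQ.exists_card_eq
  have hKQ : Nat.card K * 2 = Nat.card Q := by
    have := Subgroup.card_mul_index (K.subgroupOf Q)
    rw [← Subgroup.relIndex, hi] at this
    rwa [Nat.card_congr (Subgroup.subgroupOfEquivOfLe hK).toEquiv] at this
  have hα : Fintype.card α = Nat.card K := by
    have h2 : Nat.card α + Nat.card K = Nat.card Q := by
      have e : Q ≃ α ⊕ K :=
        { toFun := fun g => if h : (g : H) ∈ K then Sum.inr ⟨g, h⟩ else Sum.inl ⟨g, g.2, h⟩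
          invFun := fun s => match s with
            | Sum.inl s => ⟨s.1, s.2.1⟩
            | Sum.inr s => ⟨s.1, hK s.2⟩
          left_inv := fun g => by
            by_cases h : (g : H) ∈ K
            · simp [h]
            · simp [h]
          right_inv := fun s => by
            rcases s with ⟨s, h1, h2⟩ | ⟨s, h⟩
            · simp [h2]
            · simp [h] }
      rw [Nat.card_congr e, Nat.card_sum]
    rw [← Nat.card_eq_fintype_card]; omega
  have h3 : ¬ 3 ∣ Nat.card K := by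
    intro h3
    have : 3 ∣ 2 ^ n := by rw [← hn, ← hKQ]; exact h3.mul_right 2
    have := (Nat.Prime.dvd_of_dvd_pow Nat.prime_three this)
    omega
  have hpos : 0 < Fintype.card f.fixedPoints := by
    by_contra h0
    rw [Nat.pos_iff_ne_zero, not_not] at h0
    rw [h0, hα] at h1
    exact h3 ((Nat.modEq_zero_iff_dvd).1 h1)
  obtain ⟨⟨s, hs⟩⟩ := Fintype.card_pos_iff.1 hpos
  have h4 : x * (s : H) * x⁻¹ = s := congrArg Subtype.val hs
  refine ⟨s, s.2.1, s.2.2, ?_⟩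
  calc (s : H) * x = (x * (s : H) * x⁻¹) * x := by rw [h4]
    _ = x * s := by group

end Abstract

variable {G : Type u} [Group G] [Finite G] {T V : Subgroup G} {z : G}

theorem mem_centralizer_of_comm (h : GeoC T V z) {q g : G} (hq : q ∈ V) (hq1 : q ≠ 1) (hqz : q ≠ z)
    (hz : g * z * g⁻¹ = z) (hgq : g * q * g⁻¹ = q) : g ∈ centralizer (V : Set G) := by
  have h1 : g * z = z * g := mul_inv_eq_iff_eq_mul.1 hz
  have h2 : g * q = q * g := mul_inv_eq_iff_eq_mul.1 hgq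
  refine mem_centralizer_iff.mpr fun v hv => ?_
  rcases h.four h.z_mem hq h.z_ne hq1 (Ne.symm hqz) hv with rfl | rfl | rfl | rfl
  · simp
  · exact h1.symm
  · exact h2.symm
  · rw [mul_assoc, ← h2, ← mul_assoc, ← h1, mul_assoc]

theorem move (h : GeoC T V z) {g q : G} (hg : g ∈ centralizer ({z} : Set G)) (hgV : g ∈ normalizer (V : Set G))
    (hn : g ∉ centralizer (V : Set G)) (hq : q ∈ V) (hq1 : q ≠ 1) (hqz : q ≠ z) : g * q * g⁻¹ = z * q := by
  rcases h.conj_cases h.z_mem hq h.z_ne (h.z_comm hg) hgV with e | e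
  · exact absurd (mem_centralizer_of_comm h hq hq1 hqz (mul_inv_eq_iff_eq_mul.2 (h.z_comm hg)) e) hn
  · exact e

theorem cj_mul {a b v w u : G} (h1 : b * v * b⁻¹ = w) (h2 : a * w * a⁻¹ = u) : (a * b) * v * (a * b)⁻¹ = u := by
  rw [← h2, ← h1]; group

theorem cj_inv {a v w : G} (h : a * v * a⁻¹ = w) : a⁻¹ * w * a⁻¹⁻¹ = v := by
  rw [← h]; group

theorem cj_mul' {a v w v' w' : G} (h : a * v * a⁻¹ = v') (h' : a * w * a⁻¹ = w') :
    a * (v * w) * a⁻¹ = v' * w' := by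
  rw [← h, ← h']; group

theorem mul_mem_centralizer (h : GeoC T V z) {g g' : G} (hg : g ∈ centralizer ({z} : Set G))
    (hgV : g ∈ normalizer (V : Set G)) (hn : g ∉ centralizer (V : Set G)) (hg' : g' ∈ centralizer ({z} : Set G))
    (hgV' : g' ∈ normalizer (V : Set G)) (hn' : g' ∉ centralizer (V : Set G)) :
    g * g' ∈ centralizer (V : Set G) := by
  obtain ⟨q, hq, hq1, hqz⟩ := h.exists_y
  have h1 := move h hg hgV hn hq hq1 hqz
  have h2 := move h hg' hgV' hn' hq hq1 hqz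
  have hz1 : g * z * g⁻¹ = z := mul_inv_eq_iff_eq_mul.2 (h.z_comm hg)
  have hz2 : g' * z * g'⁻¹ = z := mul_inv_eq_iff_eq_mul.2 (h.z_comm hg')
  refine mem_centralizer_of_comm h hq hq1 hqz (cj_mul hz2 hz1) (cj_mul h2 ?_)
  rw [cj_mul' hz1 h1, ← mul_assoc, h.zz, one_mul]

theorem index_two (h : BTwo T V z) :
    (o2 (centralizer ({z} : Set G)) ⊓ centralizer (V : Set G)).relIndex (o2 (centralizer ({z} : Set G))) = 2 := by
  rw [relIndex_eq_two_iff]
  obtain ⟨w, hw, hwV⟩ := h.exists_w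
  have hQC : ∀ g ∈ o2 (centralizer ({z} : Set G)), g ∈ centralizer ({z} : Set G) := fun g hg => h.T_le (h.o2_le_T hg)
  have hQN : ∀ g ∈ o2 (centralizer ({z} : Set G)), g ∈ normalizer (V : Set G) := fun g hg => h.T_norm (h.o2_le_T hg)
  refine ⟨w, h.ws_le_o2 hw, fun b hb => ?_⟩
  have hwQ := h.ws_le_o2 hw
  by_cases hbV : b ∈ centralizer (V : Set G)
  · right
    refine ⟨⟨hb, hbV⟩, fun h1 => hwV ?_⟩
    have e : w = b⁻¹ * (b * w) := by group
    rw [e]
    exact mul_mem (inv_mem hbV) h1.2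
  · left
    exact ⟨⟨mul_mem hb hwQ, mul_mem_centralizer h.toGeoC (hQC b hb) (hQN b hb) hbV (hQC w hwQ) (hQN w hwQ) hwV⟩,
      fun h1 => hbV h1.2⟩

/-- **(f3)** -/
theorem not_three (h : BTwo T V z) {x : G} (hx : x ∈ centralizer (V : Set G)) : orderOf x ≠ 3 := by
  intro ho
  obtain ⟨q, hq, hq1, hqz⟩ := h.exists_y
  have hzq : z * q ≠ 1 := fun e => hqz (by rw [← h.inv_eq h.z_mem]; exact (inv_eq_of_mul_eq_one_right e).symm)
  have hzqz : z * q ≠ z := fun e => hq1 (mul_left_cancel (e.trans (mul_one z).symm))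
  have hzqq : z * q ≠ q := fun e => h.z_ne (mul_right_cancel (e.trans (one_mul q).symm))
  have hqq := h.sq q hq
  have hcomm := h.comm h.z_mem hq
  have hx3 : x ^ 3 = 1 := by rw [← ho]; exact pow_orderOf_eq_one x
  have hxC : x ∈ centralizer ({z} : Set G) := centralizer_le_of_mem h.z_mem hx
  have hxN : x ∈ normalizer (V : Set G) := Subgroup.centralizer_le_normalizer _ hx
  set Q := o2 (centralizer ({z} : Set G)) with hQ
  have hQC : ∀ g ∈ Q, g ∈ centralizer ({z} : Set G) := fun g hg => h.T_le (h.o2_le_T hg)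
  have hQN : ∀ g ∈ Q, g ∈ normalizer (V : Set G) := fun g hg => h.T_norm (h.o2_le_T hg)
  obtain ⟨s, hsQ, hsK, hsx⟩ := exists_fixed (Q := Q) (K := Q ⊓ centralizer (V : Set G))
    (h.two.to_le h.o2_le_T) inf_le_left (index_two h) hx3
    (fun g hg => conj_mem_of_normalizer (le_normalizer_o2 _) hxC hg)
    (fun g hg hg' => Subgroup.mem_inf.2 ⟨hg, by
      have e : g = x⁻¹ * (x * g * x⁻¹) * x := by group
      rw [e]
      exact mul_mem (mul_mem (inv_mem hx) hg'.2) hx⟩)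
  have hsV : s ∉ centralizer (V : Set G) := fun h1 => hsK ⟨hsQ, h1⟩
  obtain ⟨w0, hw0, hw0V⟩ := h.exists_w
  obtain ⟨w1, hw1, e1, e2⟩ := BTwoK.BTwo.exists_move h h.z_mem hq h.z_ne hq1 (Ne.symm hqz)
  have hw0N := h.ws_le_normalizer hw0
  have hw1N : w1 ∈ normalizer (V : Set G) := by
    obtain ⟨T', h'⟩ := h.point (mul_mem h.z_mem hq) hzq
    exact h'.ws_le_normalizer hw1
  have f1 : w0 * z * w0⁻¹ = z := h.conj_z hw0
  have f2 : w0 * q * w0⁻¹ = z * q := h.w_move hw0 hw0V hq hq1 hqz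
  have s1 : s * z * s⁻¹ = z := mul_inv_eq_iff_eq_mul.2 (h.z_comm (hQC s hsQ))
  have s2 : s * q * s⁻¹ = z * q := move h.toGeoC (hQC s hsQ) (hQN s hsQ) hsV hq hq1 hqz
  have y1 : (w0 * w1) * z * (w0 * w1)⁻¹ = z * q := cj_mul e1 f2
  have y2 : (w0 * w1) * q * (w0 * w1)⁻¹ = z := cj_mul e2 f1
  have hyN : w0 * w1 ∈ normalizer (V : Set G) := mul_mem hw0N hw1N
  have y3 : (w0 * w1) * (z * q) * (w0 * w1)⁻¹ = q := by
    rw [cj_mul' y1 y2, hcomm, mul_assoc, h.zz, mul_one]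
  have s3 : s * (z * q) * s⁻¹ = q := by
    rw [cj_mul' s1 s2, ← mul_assoc, h.zz, one_mul]
  set φ := V.normalizerMonoidHom with hφ
  have hker : ∀ g : normalizer (V : Set G), φ g = 1 ↔ (g : G) ∈ centralizer (V : Set G) := by
    intro g
    rw [← MonoidHom.mem_ker, hφ, normalizerMonoidHom_ker, mem_subgroupOf]
  have hφeq : ∀ a b : normalizer (V : Set G), (a : G) * z * (a : G)⁻¹ = b * z * (b : G)⁻¹ →
      (a : G) * q * (a : G)⁻¹ = b * q * (b : G)⁻¹ → φ a = φ b := by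
    intro a b h1 h2
    have h3 : φ (b⁻¹ * a) = 1 := by
      rw [hker]
      refine mem_centralizer_of_comm h.toGeoC hq hq1 hqz ?_ ?_
      · exact cj_mul (b := (a : G)) (a := (b : G)⁻¹) h1 (cj_inv rfl)
      · exact cj_mul (b := (a : G)) (a := (b : G)⁻¹) h2 (cj_inv rfl)
    rw [map_mul, map_inv, inv_mul_eq_one] at h3
    exact h3.symm
  have hone : ∀ g : normalizer (V : Set G), (g : G) * (g : G) ∈ centralizer (V : Set G) →
      (∃ k : ℕ, g ^ 3 ^ k = 1) → φ g = 1 := by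
    rintro g hg ⟨k, hk⟩
    have h1 : φ g ^ 2 = 1 := by
      rw [pow_two, ← map_mul, hker]; exact hg
    have h2 : φ g ^ 3 ^ k = 1 := by rw [← map_pow, hk, map_one]
    have h3 : orderOf (φ g) ∣ Nat.gcd 2 (3 ^ k) := Nat.dvd_gcd (orderOf_dvd_of_pow_eq_one h1) (orderOf_dvd_of_pow_eq_one h2)
    have h4 : Nat.gcd 2 (3 ^ k) = 1 := Nat.Coprime.pow_right k (by norm_num)
    rw [h4, Nat.dvd_one] at h3
    exact orderOf_eq_one_iff.1 h3
  refine false_of_comm (CompBasic.oddCyc_subgroup h.cyc (normalizer (V : Set G)) : OddCyc (normalizer (V : Set G))) φ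
    (x := ⟨x, hxN⟩) (s := ⟨s, hQN s hsQ⟩) (y₀ := ⟨w0 * w1, hyN⟩) ?_ ?_ ?_ ?_ ?_ ?_
  · rw [← Subgroup.orderOf_coe]; exact ho
  · exact Subtype.ext hsx
  · rw [← map_mul, ← map_mul, ← map_one φ]
    refine hφeq _ _ ?_ ?_
    · exact (cj_mul (a := w0 * w1 * (w0 * w1)) (b := w0 * w1) y1 (cj_mul y3 y2)).trans (by simp)
    · exact (cj_mul (a := w0 * w1 * (w0 * w1)) (b := w0 * w1) y2 (cj_mul y1 y3)).trans (by simp)
  · intro h1
    rw [hker] at h1
    have h2 := mem_centralizer_iff.1 h1 z h.z_mem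
    have h3 : w0 * w1 * z * (w0 * w1)⁻¹ = z := mul_inv_eq_iff_eq_mul.2 h2.symm
    exact hzqz (y1.symm.trans h3)
  · rw [← map_mul, ← map_inv, ← map_mul, ← map_inv]
    refine hφeq _ _ ?_ ?_
    · refine (cj_mul (a := s * (w0 * w1)) (b := s⁻¹) (cj_inv s1) (cj_mul y1 s3)).trans ?_
      exact (cj_inv y2).symm
    · refine (cj_mul (a := s * (w0 * w1)) (b := s⁻¹) (cj_inv s3) (cj_mul y3 s2)).trans ?_
      exact (cj_inv y3).symm
  · intro g hg
    have hgN : (g : G) ∈ normalizer (V : Set G) := g.2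
    have hgz : (g : G) * z * (g : G)⁻¹ ∈ V := (mem_normalizer_iff.mp hgN z).mp h.z_mem
    have hgq : (g : G) * q * (g : G)⁻¹ ∈ V := (mem_normalizer_iff.mp hgN q).mp hq
    have hinj : ∀ {a b : G}, (g : G) * a * (g : G)⁻¹ = g * b * (g : G)⁻¹ → a = b := by
      intro a b e
      exact mul_left_cancel (mul_right_cancel e)
    have hz1 : (g : G) * z * (g : G)⁻¹ ≠ 1 := fun e => h.z_ne (hinj (by rw [e]; group))
    have hq1' : (g : G) * q * (g : G)⁻¹ ≠ 1 := fun e => hq1 (hinj (by rw [e]; group))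
    rcases h.four h.z_mem hq h.z_ne hq1 (Ne.symm hqz) hgz with e | e | e | e
    · exact absurd e hz1
    · -- fixes `z`
      have h1 : φ g = 1 := by
        refine hone g ?_ hg
        by_cases hgV : (g : G) ∈ centralizer (V : Set G)
        · exact mul_mem hgV hgV
        · have hgC : (g : G) ∈ centralizer ({z} : Set G) :=
            mem_centralizer_singleton_iff.2 (mul_inv_eq_iff_eq_mul.1 e)
          exact mul_mem_centralizer h.toGeoC hgC hgN hgV hgC hgN hgV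
      rw [h1]; exact one_mem _
    · rcases h.four h.z_mem hq h.z_ne hq1 (Ne.symm hqz) hgq with e' | e' | e' | e'
      · exact absurd e' hq1'
      · have h1 : φ g = 1 := hone g (mem_centralizer_of_comm h.toGeoC hq hq1 hqz (cj_mul e e') (cj_mul e' e)) hg
        rw [h1]; exact one_mem _
      · exact absurd (hinj (e.trans e'.symm)) (Ne.symm hqz)
      · have h1 : φ g = φ (⟨w0 * w1, hyN⟩⁻¹) := by
          refine hφeq _ _ ?_ ?_
          · rw [e]; exact (cj_inv y2).symm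
          · rw [e']; exact (cj_inv y3).symm
        rw [h1, map_inv]; exact inv_mem (mem_zpowers _)
    · rcases h.four h.z_mem hq h.z_ne hq1 (Ne.symm hqz) hgq with e' | e' | e' | e'
      · exact absurd e' hq1'
      · have h1 : φ g = φ (⟨w0 * w1, hyN⟩) := by
          refine hφeq _ _ ?_ ?_
          · rw [e]; exact y1.symm
          · rw [e']; exact y2.symm
        rw [h1]; exact mem_zpowers _
      · have h1 : φ g = 1 := by
          refine hone g (mem_centralizer_of_comm h.toGeoC hq hq1 hqz (cj_mul e ?_) (cj_mul e' e')) hg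
          rw [cj_mul' e e', mul_assoc, hqq, mul_one]
        rw [h1]; exact one_mem _
      · exact absurd (hinj (e.trans e'.symm)) (Ne.symm hqz)

end Cfsg.Agent.OddCyclic.BTwoLin.Three
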