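import Cfsg.Agent.OddCyclic.BTwoLin.Defs
import Cfsg.Agent.OddCyclic.FFBasic
import Cfsg.Agent.OddCyclic.FFSl2

/-!
# Basic consequences of `Form` and `Lin1`
-/

set_option autoImplicit false

namespace Cfsg.Agent.OddCyclic.BTwoLin

open Cfsg.Agent.LieExceptional.CITDefs Cfsg.Agent.OddCyclic.T1Defs Cfsg.Agent.OddCyclic.FFBasic
open Cfsg.Agent.OddCyclic.FFSl2 (stb mem_stb)

variable {X M : Type*} [Group X] [CommGroup M] {ρ : X →* MulAut M} {f : M → M → ZMod 2} {q : M → ZMod 2}

theorem zmod_cases (a : ZMod 2) : a = 0 ∨ a = 1 := by revert a; decide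

theorem zmod_ne_zero {a : ZMod 2} : a ≠ 0 ↔ a = 1 := by revert a; decide

theorem zmod_add_self (a : ZMod 2) : a + a = 0 := by revert a; decide

namespace Form

variable (h : Form ρ f q)

include h

theorem inv_eq (x : M) : x⁻¹ = x := inv_eq_of_mul_eq_one_right (h.sq x)

theorem one_left (y : M) : f 1 y = 0 := by
  have h1 := h.f_mul 1 1 y
  rw [mul_one] at h1
  have h2 : f 1 y + f 1 y = f 1 y + 0 := by rw [add_zero]; exact h1.symm
  exact add_left_cancel h2

theorem one_right (y : M) : f y 1 = 0 := by rw [h.f_symm, h.one_left]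

theorem mul_right (x y w : M) : f x (y * w) = f x y + f x w := by
  rw [h.f_symm, h.f_mul, h.f_symm y, h.f_symm w]

theorem q_one : q 1 = 0 := by
  have h1 := h.q_mul 1 1
  rw [mul_one, h.one_left, add_zero] at h1
  have h2 : q 1 + q 1 = q 1 + 0 := by rw [add_zero]; exact h1.symm
  exact add_left_cancel h2

theorem self (x : M) : f x x = 0 := by
  have h1 := h.q_mul x x
  rw [h.sq, h.q_one, zmod_add_self, zero_add] at h1
  exact h1.symm

theorem inv_left (x y : M) : f x⁻¹ y = f x y := by rw [h.inv_eq]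

theorem q_comm_eq {x y : M} (hx : q x = 0) (hy : q y = 0) (hxy : q (x * y) = 0) : f x y = 0 := by
  rw [h.q_mul, hx, hy, zero_add, zero_add] at hxy
  exact hxy

omit h in
/-- `x^⊥` -/
def perp (h : Form ρ f q) (x : M) : Subgroup M where
  carrier := {y | f x y = 0}
  one_mem' := h.one_right x
  mul_mem' := by
    intro a b ha hb
    change f x (a * b) = 0
    rw [h.mul_right, show f x a = 0 from ha, show f x b = 0 from hb, add_zero]
  inv_mem' := by
    intro a ha
    change f x a⁻¹ = 0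
    rw [h.inv_eq]; exact ha

theorem mem_perp {x y : M} : y ∈ h.perp x ↔ f x y = 0 := Iff.rfl

theorem mul_mem_perp {x y w : M} (hy : f x y ≠ 0) (hw : f x w ≠ 0) : f x (y * w) = 0 := by
  rw [h.mul_right, zmod_ne_zero.1 hy, zmod_ne_zero.1 hw]; decide

theorem index_perp {x : M} (hx : ∃ y, f x y ≠ 0) : (h.perp x).index = 2 := by
  obtain ⟨y, hy⟩ := hx
  rw [Subgroup.index_eq_two_iff]
  refine ⟨y, fun w => ?_⟩
  by_cases hw : f x w = 0
  · right
    refine ⟨hw, fun h1 => hy ?_⟩
    have h2 : f x (w * y) = 0 := h1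
    rwa [h.mul_right, hw, zero_add] at h2
  · left
    exact ⟨h.mul_mem_perp hw hy, hw⟩

/-- the radical -/
theorem smul_perp {g : X} {x y : M} (hg : ρ g x = x) : f x (ρ g y) = f x y := by
  conv_lhs => rw [← hg]
  exact h.f_inv g x y

theorem comm_perp {g : X} {x : M} (hg : ρ g x = x) (y : M) : f x (ρ g y * y⁻¹) = 0 := by
  rw [h.mul_right, h.smul_perp hg, h.inv_eq, zmod_add_self]

end Form

namespace Lin1

variable {A S : Subgroup X} {D : Subgroup M} {l : M} {c m : ℕ} (h : Lin1 ρ f q A S D l c m)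

include h

theorem A_comm {a b : X} (ha : a ∈ A) (hb : b ∈ A) : a * b = b * a := by
  have h1 := h.A_sq _ (mul_mem ha hb)
  have h2 := h.A_sq a ha
  have h3 := h.A_sq b hb
  calc a * b = a * b * 1 := by rw [mul_one]
    _ = a * b * (a * b * (a * b)) := by rw [h1]
    _ = a * b * (a * b) * (a * b) := by group
    _ = a * b := by rw [h1, one_mul]
    _ = (a * b)⁻¹ := (inv_eq_of_mul_eq_one_right h1).symm
    _ = b⁻¹ * a⁻¹ := by group
    _ = b * a := by rw [inv_eq_of_mul_eq_one_right h2, inv_eq_of_mul_eq_one_right h3]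

theorem S_fix {g : X} (hg : g ∈ S) : ρ g l = l := h.l_fix g (Subgroup.le_normalizer hg)

theorem A_fix {a : X} (ha : a ∈ A) : ρ a l = l := h.S_fix (h.A_le ha)

theorem D_iso {d d' : M} (hd : d ∈ D) (hd' : d' ∈ D) : f d d' = 0 :=
  h.form.q_comm_eq (h.D_q d hd) (h.D_q d' hd') (h.D_q _ (mul_mem hd hd'))

theorem comm_perp {a : X} (ha : a ∈ A) (x : M) : f l (ρ a x * x⁻¹) = 0 := h.form.comm_perp (h.A_fix ha) x

/-- `C_M(a) ≤ λ^⊥` -/
theorem fix_perp {a : X} (ha : a ∈ A) (ha1 : a ≠ 1) {x : M} (hx : ρ a x = x) : f l x = 0 := by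
  by_contra h1
  refine ha1 (h.out x h1 a ha ?_)
  rw [hx, mul_inv_cancel]; exact one_mem _

theorem card_l_perp [Finite M] : 2 * Nat.card (h.form.perp l) = Nat.card M := by
  rw [← Subgroup.card_mul_index (h.form.perp l), h.form.index_perp h.exists_not, mul_comm]

theorem D_le : D ≤ h.form.perp l := fun d hd => h.D_perp d hd

end Lin1

end Cfsg.Agent.OddCyclic.BTwoLin
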