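import Cfsg.Agent.OddCyclic.BTwoD
import Cfsg.Agent.OddCyclic.BTwoRep
import Cfsg.Agent.OddCyclic.BTwoLin.Rep
import Cfsg.Agent.OddCyclic.BTwoLin.Three
import Cfsg.Agent.OddCyclic.KZeroCongr

/-!
# From `BTwo T V z` to the abstract situation `Lin1`
-/

set_option autoImplicit false
set_option linter.dupNamespace false

namespace Cfsg.Agent.OddCyclic.BTwoLin.Build

open Subgroup Cfsg Cfsg.Agent.ZN Cfsg.Agent.MinSimple.Geo Cfsg.Agent.OddCyclic.GeoC
  Cfsg.Agent.OddCyclic.BTwoA Cfsg.Agent.OddCyclic.BTwoB Cfsg.Agent.OddCyclic.BTwoC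
  Cfsg.Agent.OddCyclic.BTwoD Cfsg.Agent.OddCyclic.BTwoK
open Cfsg.Agent.OddCyclic.BTwoLin Cfsg.Agent.OddCyclic.BTwoLin.Rep
open Cfsg.Agent.ZN.Block (conj_mem_of_normalizer conj_mem_of_normalizer' le_normalizer_of_forall
  mem_normalizer_of)
open Cfsg.Agent.MinSimple.Sec (Sec)
open Cfsg.Agent.OddCyclic.T1Defs (OddCyc)
open Cfsg.Agent.LieExceptional.CITDefs (IsSyl2)

universe u

variable {G : Type u} [Group G] [Finite G] {T V : Subgroup G} {z : G}

theorem sec (h : BTwo T V z) : Sec (ws V z) (centralizer ({z} : Set G)) z := BTwoRep.sec h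

theorem im_eq_one_iff (h : BTwo T V z) {c : G} (hc : c ∈ centralizer ({z} : Set G)) :
    im (sec h) c hc = 1 ↔ c ∈ kq V z := by
  rw [im_eq_one, ← BTwoRep.rep_eq_one_iff h hc, Cfsg.Agent.MinSimple.Sec.Mod.rep_eq_one]

theorem centralizer_ne_top (h : BTwo T V z) : centralizer ({z} : Set G) ≠ ⊤ := by
  intro htop
  have hz : z ∈ zpowers z := mem_zpowers z
  have h1 : IsPGroup 2 (zpowers z) := by
    refine IsPGroup.of_card (n := 1) ?_
    rw [Nat.card_zpowers, pow_one]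
    exact orderOf_eq_prime (by rw [pow_two]; exact h.zz) h.z_ne
  have h2 : ∀ g : G, g ∈ normalizer ((zpowers z : Subgroup G) : Set G) := by
    intro g
    refine le_normalizer_of_forall (L := ⊤) (fun x _ y hy => ?_) (mem_top g)
    have hx : x ∈ centralizer ({z} : Set G) := by rw [htop]; exact mem_top x
    rw [zpowers_conj hx hy]
    exact hy
  have h3 := h.core (zpowers z) h1 (fun g _ => h2 g) (fun g _ => h2 g)
  rw [h3] at hz
  exact h.z_ne (mem_bot.1 hz)

theorem oddCyc_of_surj {A B : Type*} [Group A] [Finite A] [Group B] [Finite B] (hA : OddCyc A) (φ : A →* B)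
    (hφ : Function.Surjective φ) : OddCyc B := by
  have h1 := CompBasic.oddCyc_quotient hA φ.ker
  have e := QuotientGroup.quotientKerEquivOfSurjective φ hφ
  exact CompBasic.oddCyc_of_injective h1 e.symm.toMonoidHom e.symm.injective

section fields

variable (h : BTwo T V z) {q : G} (hq : q ∈ V) (hq1 : q ≠ 1) (hqz : q ≠ z)

include h

theorem dd_le_kq : dd V ≤ kq V z := BTwoRep.dd_le_kq h

theorem us_le_kq : us V z ≤ kq V z := by
  intro u hu
  have huC := h.ws_le_centralizer hu.1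
  rw [← im_eq_one_iff h huC, im_eq_one]
  intro n hn
  exact (sec h).comm_mem hu.1 hn

theorem conj_mem_us' {t u : G} (ht : t ∈ T) (hu : u ∈ us V q) : t * u * t⁻¹ ∈ us V (t * q * t⁻¹) :=
  conj_mem_us (h.T_norm ht) hu

include hq hq1 hqz

/-- `f l x = 0` -/
theorem f_eq_zero {a : G} (ha : a ∈ ws V z) :
    ff (sec h) (cl (sec h) q (h.V_le_ws hq)) (cl (sec h) a ha) = 0 ↔ a ∈ us V z := by
  rw [ff_cl_eq_zero]
  constructor
  · intro h1
    refine ⟨ha, Three.mem_centralizer_of_comm h.toGeoC hq hq1 hqz (h.conj_z ha) ?_⟩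
    rw [← h1, mul_inv_cancel_right]
  · intro h1
    exact (comm_V h1.2 hq).symm

theorem ims_rr_le : ims (sec h) (rr V) ≤ ims (sec h) (us V q) := by
  have hC : rr V ≤ centralizer ({z} : Set G) := (rr_le_centralizer V).trans (centralizer_le_of_mem h.z_mem)
  let B : Subgroup G := ((ims (sec h) (us V q)).comap (imh (sec h))).map (centralizer ({z} : Set G)).subtype
  have hB : rr V ≤ B := by
    rw [BTwoB.BTwo.rr_eq h hq hq1 hqz]
    refine sup_le ?_ ?_
    · intro u hu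
      refine ⟨⟨u, h.ws_le_centralizer hu.1⟩, ?_, rfl⟩
      have h1 := (im_eq_one_iff h (h.ws_le_centralizer hu.1)).2 (us_le_kq h hu)
      change im (sec h) u _ ∈ ims (sec h) (us V q)
      rw [h1]
      exact one_mem _
    · intro u hu
      refine ⟨⟨u, us_le_C h q hu⟩, ?_, rfl⟩
      exact mem_ims.2 ⟨u, hu, us_le_C h q hu, rfl⟩
  intro x hx
  obtain ⟨u, hu, hu', rfl⟩ := mem_ims.1 hx
  obtain ⟨b, hb, hbu⟩ := hB hu
  have : b = ⟨u, hu'⟩ := Subtype.ext hbu
  rw [this] at hb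
  exact hb

theorem A_norm : ims (sec h) T ≤ normalizer ((ims (sec h) (us V q) : Subgroup (XX (sec h))) : Set (XX (sec h))) := by
  refine le_normalizer_of_forall (fun x hx y hy => ?_)
  obtain ⟨t, ht, htC, rfl⟩ := mem_ims.1 hx
  obtain ⟨u, hu, huC, rfl⟩ := mem_ims.1 hy
  rw [← im_inv, ← im_mul, ← im_mul]
  refine ims_rr_le h hq hq1 hqz (mem_ims.2 ⟨t * u * t⁻¹, ?_, _, rfl⟩)
  have h1 := conj_mem_us' h ht hu
  have h2 : t * q * t⁻¹ ∈ V := (mem_normalizer_iff.mp (h.T_norm ht) q).mp hq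
  have h3 : t * q * t⁻¹ ≠ 1 := fun e => hq1 (by
    have : q = t⁻¹ * (t * q * t⁻¹) * t := by group
    rw [this, e]; group)
  exact us_le_rr h2 h3 h1

theorem card_A : Nat.card (ims (sec h) (us V q)) * Nat.card (dd V) = Nat.card (us V z) := by
  have h1 := card_ims (s := sec h) (U := us V q) (K := kq V z) (us_le_C h q)
    (fun c hc => (im_eq_one_iff h hc).symm)
  have h2 : us V q ⊓ kq V z = dd V :=
    le_antisymm (us_inf_kq_le h hq hq1 hqz) (le_inf (h.dd_le_us hq hq1) (dd_le_kq h))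
  rw [h2, h.card_us hq hq1] at h1
  exact h1

theorem l_fix_of {c : G} (hc : c ∈ centralizer ({z} : Set G)) (hcV : c ∈ normalizer (V : Set G)) :
    rho (sec h) (im (sec h) c hc) (cl (sec h) q (h.V_le_ws hq)) = cl (sec h) q (h.V_le_ws hq) := by
  rw [rho_im, cl_eq]
  rcases h.conj_cases h.z_mem hq h.z_ne (h.z_comm hc) hcV with e | e
  · rw [e, inv_mul_cancel]; exact one_mem _
  · rw [e]
    have : (z * q)⁻¹ * q = q⁻¹ * z⁻¹ * q := by group
    rw [this, h.inv_eq hq, h.inv_eq h.z_mem, ← h.comm h.z_mem hq, mul_assoc, h.sq q hq, mul_one]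
    exact mem_zpowers z

/-- (f4) -/
theorem l_fix (g : XX (sec h)) (hg : g ∈ normalizer ((ims (sec h) T : Subgroup (XX (sec h))) : Set (XX (sec h)))) :
    rho (sec h) g (cl (sec h) q (h.V_le_ws hq)) = cl (sec h) q (h.V_le_ws hq) := by
  obtain ⟨c, hc, rfl⟩ := im_surj g
  set C := centralizer ({z} : Set G) with hC
  -- the preimage of the normaliser
  let C1 : Subgroup G := ((normalizer ((ims (sec h) T : Subgroup (XX (sec h))) : Set (XX (sec h)))).comap
    (imh (sec h))).map C.subtype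
  have hC1 : C1 ≤ C := by
    rintro _ ⟨b, -, rfl⟩
    exact b.2
  have hcC1 : c ∈ C1 := ⟨⟨c, hc⟩, hg, rfl⟩
  have hmem1 : ∀ x, ∀ hx : x ∈ C, x ∈ C1 → im (sec h) x hx ∈
      normalizer ((ims (sec h) T : Subgroup (XX (sec h))) : Set (XX (sec h))) := by
    rintro _ hx ⟨b, hb, rfl⟩
    exact hb
  let N : Subgroup G := ((ims (sec h) T).comap (imh (sec h))).map C.subtype
  have hmem2 : ∀ x, ∀ hx : x ∈ C, x ∈ N ↔ im (sec h) x hx ∈ ims (sec h) T := by
    intro x hx
    constructor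
    · rintro ⟨b, hb, rfl⟩
      exact hb
    · intro hb
      exact ⟨⟨x, hx⟩, hb, rfl⟩
  have hNC : N ≤ C := by
    rintro _ ⟨b, -, rfl⟩
    exact b.2
  have hTN : T ≤ N := fun t ht => (hmem2 t (h.T_le ht)).2 (mem_ims.2 ⟨t, ht, h.T_le ht, rfl⟩)
  have hNC1 : N ≤ C1 := by
    intro n hn
    refine ⟨⟨n, hNC hn⟩, ?_, rfl⟩
    exact le_normalizer ((hmem2 n (hNC hn)).1 hn)
  have hTC1 : T ≤ C1 := hTN.trans hNC1
  have hs : ¬ 2 ∣ T.relIndex C1 := by
    intro h2
    have h3 : T.relIndex C1 ∣ T.relIndex C := by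
      have := Subgroup.relIndex_mul_relIndex T C1 C hTC1 hC1
      rw [← this]; exact dvd_mul_right _ _
    exact h.T_syl (h2.trans h3)
  have hn : C1 ≤ normalizer (N : Set G) := by
    refine le_normalizer_of_forall (fun x hx y hy => ?_)
    have hxC := hC1 hx
    have hyC := hNC hy
    rw [hmem2 _ (mul_mem (mul_mem hxC hyC) (inv_mem hxC)), im_mul (mul_mem hxC hyC) (inv_mem hxC),
      im_mul hxC hyC, im_inv hxC]
    exact (mem_normalizer_iff.mp (hmem1 x hxC hx) _).mp ((hmem2 y hyC).1 hy)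
  obtain ⟨n, hn', m, hm, hmT, e⟩ := exists_mul_of_frattini hTC1 h.two hs hNC1 hn hcC1
  rw [inf_eq_left.2 hTN] at hmT
  have hnC := hNC hn'
  have hmC := hC1 hm
  have hmV : m ∈ normalizer (V : Set G) := h.uniq m hmT (h.z_comm hmC)
  have e2 : im (sec h) c hc = im (sec h) n hnC * im (sec h) m hmC := by
    rw [← im_mul]
    congr 1
  rw [e2, map_mul, MulAut.mul_apply, l_fix_of h hq hq1 hqz hmC hmV]
  obtain ⟨t, ht, htC, h3⟩ := mem_ims.1 ((hmem2 n hnC).1 hn')
  rw [← h3]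
  exact l_fix_of h hq hq1 hqz htC (h.T_norm ht)

theorem gen (N : Subgroup (MM (sec h))) (hN : ∀ g, rho (sec h) g (cl (sec h) q (h.V_le_ws hq)) ∈ N) : N = ⊤ := by
  let W : Subgroup G := (N.comap (clh (sec h))).map (ws V z).subtype
  have hW : ws V z ≤ W := by
    refine ws_le fun L hL => ?_
    obtain ⟨c, hc, rfl⟩ := h.exists_of_mem_lines hL
    intro x hx
    have hxw : x ∈ ws V z := le_ws hL hx
    refine ⟨⟨x, hxw⟩, ?_, rfl⟩
    change cl (sec h) x hxw ∈ N
    rw [mem_cj] at hx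
    set v := c⁻¹ * x * c with hv
    have hxv : x = c * v * c⁻¹ := by rw [hv]; group
    have hvw : v ∈ ws V z := h.V_le_ws hx
    have h1 : cl (sec h) x hxw = rho (sec h) (im (sec h) c hc) (cl (sec h) v hvw) := by
      rw [rho_im, cl_eq]
      have : x⁻¹ * (c * v * c⁻¹) = 1 := by rw [← hxv, inv_mul_cancel]
      rw [this]; exact one_mem _
    rw [h1]
    have h2 : cl (sec h) v hvw = 1 ∨ cl (sec h) v hvw = cl (sec h) q (h.V_le_ws hq) := by
      rcases h.four h.z_mem hq h.z_ne hq1 (Ne.symm hqz) hx with e | e | e | e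
      · left; rw [cl_eq_one, e]; exact one_mem _
      · left; rw [cl_eq_one, e]; exact mem_zpowers z
      · right; rw [cl_eq, e, inv_mul_cancel]; exact one_mem _
      · right
        rw [cl_eq, e]
        have : (z * q)⁻¹ * q = q⁻¹ * z⁻¹ * q := by group
        rw [this, h.inv_eq hq, h.inv_eq h.z_mem, ← h.comm h.z_mem hq, mul_assoc, h.sq q hq, mul_one]
        exact mem_zpowers z
    rcases h2 with h2 | h2
    · rw [h2, map_one]; exact one_mem _
    · rw [h2]; exact hN _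
  rw [eq_top_iff]
  intro x _
  obtain ⟨n, hn, rfl⟩ := cl_surj x
  obtain ⟨b, hb, hbn⟩ := hW hn
  have : b = ⟨n, hn⟩ := Subtype.ext hbn
  rw [this] at hb
  exact hb

theorem three (g : XX (sec h)) (hg : orderOf g = 3) :
    rho (sec h) g (cl (sec h) q (h.V_le_ws hq)) ≠ cl (sec h) q (h.V_le_ws hq) := by
  intro hfix
  obtain ⟨c, hc, rfl⟩ := im_surj g
  rw [rho_im, cl_eq] at hfix
  have hcz : c * z * c⁻¹ = z := mul_inv_eq_iff_eq_mul.2 (h.z_comm hc)
  have hcq : c * q * c⁻¹ = q ∨ c * q * c⁻¹ = z * q := by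
    rcases (mem_zpowers_iff_of_mul_self h.zz).1 hfix with e | e
    · left; exact inv_mul_eq_one.1 e
    · right
      have : c * q * c⁻¹ = q * z⁻¹ := by rw [← e]; group
      rw [this, h.inv_eq h.z_mem, h.comm h.z_mem hq]
  have hcV : c * c ∈ centralizer (V : Set G) := by
    rcases hcq with e | e
    · exact Three.mem_centralizer_of_comm h.toGeoC hq hq1 hqz (Three.cj_mul hcz hcz) (Three.cj_mul e e)
    · refine Three.mem_centralizer_of_comm h.toGeoC hq hq1 hqz (Three.cj_mul hcz hcz) (Three.cj_mul e ?_)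
      rw [Three.cj_mul' hcz e, ← mul_assoc, h.zz, one_mul]
  have h1 : 3 ∣ orderOf (c * c) := by
    have h2 : im (sec h) (c * c) (mul_mem hc hc) ^ orderOf (c * c) = 1 := by
      have h3 : (⟨c * c, mul_mem hc hc⟩ : centralizer ({z} : Set G)) ^ orderOf (c * c) = 1 := by
        apply Subtype.ext
        exact pow_orderOf_eq_one (c * c)
      have h4 := congrArg (imh (sec h)) h3
      rw [map_pow, map_one] at h4
      exact h4
    have h3 : orderOf (im (sec h) (c * c) (mul_mem hc hc)) = 3 := by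
      rw [im_mul hc hc, ← pow_two, orderOf_pow' _ (by norm_num), hg]
      norm_num
    rw [← h3]
    exact orderOf_dvd_of_pow_eq_one h2
  obtain ⟨k, hk⟩ := h1
  have hpos : 0 < orderOf (c * c) := orderOf_pos _
  have h4 : orderOf ((c * c) ^ k) = 3 := by
    have hk0 : k ≠ 0 := by rintro rfl; omega
    rw [orderOf_pow' _ hk0, hk, Nat.gcd_eq_right (dvd_mul_left k 3)]
    exact Nat.mul_div_cancel _ (Nat.pos_of_ne_zero hk0)
  exact Three.not_three h (pow_mem hcV k) h4

end fields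

theorem core_eq_bot (h : BTwo T V z) (N : Subgroup (XX (sec h))) (hN : N.Normal) (h2 : IsPGroup 2 N) : N = ⊥ := by
  set C := centralizer ({z} : Set G) with hC
  let N' : Subgroup G := (N.comap (imh (sec h))).map C.subtype
  have hmem : ∀ x, ∀ hx : x ∈ C, x ∈ N' ↔ im (sec h) x hx ∈ N := by
    intro x hx
    constructor
    · rintro ⟨b, hb, rfl⟩
      exact hb
    · intro hb
      exact ⟨⟨x, hx⟩, hb, rfl⟩
  have hNC : N' ≤ C := by
    rintro _ ⟨b, -, rfl⟩
    exact b.2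
  have h1 : N' ≤ kq V z := by
    refine le_kq h.toGeoC hNC (le_normalizer_of_forall (fun x hx y hy => ?_)) (fun x hx => ?_)
    · have hyC := hNC hy
      rw [hmem _ (mul_mem (mul_mem hx hyC) (inv_mem hx)), im_mul (mul_mem hx hyC) (inv_mem hx),
        im_mul hx hyC, im_inv hx]
      exact hN.conj_mem _ ((hmem y hyC).1 hy) _
    · have hxC := hNC hx
      obtain ⟨k, hk⟩ := h2 ⟨im (sec h) x hxC, (hmem x hxC).1 hx⟩
      refine ⟨k, ?_⟩
      have hk' : im (sec h) x hxC ^ 2 ^ k = 1 := congrArg Subtype.val hk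
      have h3 : im (sec h) (x ^ 2 ^ k) (pow_mem hxC _) = 1 := by
        have h4 : imh (sec h) (⟨x, hxC⟩ ^ 2 ^ k) = 1 := by rw [map_pow]; exact hk'
        exact h4
      exact (im_eq_one_iff h _).1 h3
  rw [eq_bot_iff]
  intro g hg
  obtain ⟨c, hc, rfl⟩ := im_surj g
  rw [mem_bot, im_eq_one_iff h]
  exact h1 ((hmem c hc).2 hg)

theorem sylS (h : BTwo T V z) : IsSyl2 (⊤ : Subgroup (XX (sec h))) (ims (sec h) T) := by
  have : Fact (Nat.Prime 2) := ⟨Nat.prime_two⟩
  have hT' : IsPGroup 2 (T.subgroupOf (centralizer ({z} : Set G))) :=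
    h.two.comap_of_injective _ (centralizer ({z} : Set G)).subtype_injective
  let P : Sylow 2 (centralizer ({z} : Set G)) := hT'.toSylow h.T_syl
  let Q : Sylow 2 (XX (sec h)) := P.mapSurjective (imh_surj (s := sec h))
  have hQ : (Q : Subgroup (XX (sec h))) = ims (sec h) T := rfl
  rw [← hQ]
  exact ⟨le_top, Q.isPGroup', fun Y _ h2 h3 => Q.is_maximal' h2 h3⟩

/-- `us V q ≤ O₂(C_G(V)) ≤ T` -/
theorem us_le_T (h : BTwo T V z) {q : G} (hq : q ∈ V) (hq1 : q ≠ 1) : us V q ≤ T := by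
  obtain ⟨Tq, hBq⟩ := h.point hq hq1
  have h2 : IsPGroup 2 (us V q) := hBq.two.to_le ((us_le_ws V q).trans hBq.ws_le_T)
  have h1 : us V q ≤ o2 (centralizer (V : Set G)) := by
    refine Block.le_o2 h2 (us_le_centralizer V q) ?_
    refine le_normalizer_of_forall (fun x hx y hy => Subgroup.mem_inf.2 ⟨?_, ?_⟩)
    · exact conj_mem_of_normalizer (centralizer_le_normalizer_ws hq) hx hy.1
    · exact mul_mem (mul_mem hx hy.2) (inv_mem hx)
  have h3 : normalizer (V : Set G) ≤ normalizer ((o2 (centralizer (V : Set G)) : Subgroup G) : Set G) := by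
    refine le_normalizer_of_forall (fun g hg y hy => ?_)
    have h4 : cj g (centralizer (V : Set G)) = centralizer (V : Set G) := by
      ext x
      rw [mem_cj]
      constructor
      · intro hx
        have := conj_mem_centralizer hg hx
        have e : g * (g⁻¹ * x * g) * g⁻¹ = x := by group
        rwa [e] at this
      · intro hx
        have := conj_mem_centralizer (inv_mem hg) hx
        rwa [inv_inv] at this
    have h5 := conj_mem_cj (g := g) hy
    rw [cj_o2, h4] at h5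
    exact h5
  have h6 : o2 (centralizer (V : Set G)) ≤ o2 (normalizer (V : Set G)) :=
    Block.le_o2 (Block.o2_isPGroup _) ((Block.o2_le _).trans (Subgroup.centralizer_le_normalizer _)) h3
  exact h1.trans (h6.trans (o2_le_of_sylow h.T_norm h.two h.T_syl'))

/-- the numerical data -/
theorem cards (h : BTwo T V z) : ∃ c m : ℕ, 1 ≤ c ∧ m ≤ c ∧ Nat.card (dd V) = 2 ^ (m + 2) ∧
    Nat.card (us V z) = 2 ^ c * Nat.card (dd V) ∧ Nat.card (ws V z) = 2 ^ (c + m + 3) := by
  have hle := h.dd_le_us h.z_mem h.z_ne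
  have hT : us V z ≤ T := (us_le_ws V z).trans h.ws_le_T
  have hu2 : IsPGroup 2 (us V z) := h.two.to_le hT
  have hd2 : IsPGroup 2 (dd V) := hu2.to_le hle
  have he2 : IsPGroup 2 (es V z) := hu2.to_le (es_le_us V z)
  have : Fact (Nat.Prime 2) := ⟨Nat.prime_two⟩
  obtain ⟨a, ha⟩ := hu2.exists_card_eq
  obtain ⟨b, hb⟩ := hd2.exists_card_eq
  obtain ⟨e, he⟩ := he2.exists_card_eq
  have hb2 : 2 ≤ b := by
    have h1 : Nat.card V ∣ Nat.card (dd V) := Subgroup.card_dvd_of_le h.V_le_dd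
    rw [h.card_V, hb, show (4 : ℕ) = 2 ^ 2 by norm_num] at h1
    exact (Nat.pow_dvd_pow_iff_le_right (by norm_num)).1 h1
  have hab : b ≤ a := by
    have h1 := Subgroup.card_dvd_of_le hle
    rw [ha, hb] at h1
    exact (Nat.pow_dvd_pow_iff_le_right (by norm_num)).1 h1
  have hab' : b ≠ a := by
    rintro rfl
    apply us_ne_dd h
    symm
    refine SetLike.coe_injective (Set.eq_of_subset_of_ncard_le hle ?_ (Set.toFinite _))
    have h3 : (us V z : Set G).ncard = Nat.card (us V z) := rfl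
    have h4 : (dd V : Set G).ncard = Nat.card (dd V) := rfl
    rw [h3, h4, ha, hb]
  have hbe : b ≤ e := by
    have h1 := Subgroup.card_dvd_of_le (dd_le_es h)
    rw [he, hb] at h1
    exact (Nat.pow_dvd_pow_iff_le_right (by norm_num)).1 h1
  have hsum : e + b = a + 2 := by
    have h1 := card_es h
    rw [ha, hb, he, show (4 : ℕ) = 2 ^ 2 by norm_num, ← pow_add, ← pow_add] at h1
    exact Nat.pow_right_injective (le_refl 2) h1
  refine ⟨a - b, b - 2, by omega, by omega, ?_, ?_, ?_⟩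
  · rw [hb]; congr 1; omega
  · rw [ha, hb, ← pow_add]; congr 1; omega
  · rw [card_ws h, ha]
    have : a - b + (b - 2) + 3 = a + 1 := by omega
    rw [this, pow_succ]; ring

/-- **The abstract situation attached to `BTwo T V z`.** -/
theorem lin1 (h : BTwo T V z) (hK : KZeroCongr.KS G) {q : G} (hq : q ∈ V) (hq1 : q ≠ 1) (hqz : q ≠ z) {c m : ℕ}
    (hm : m ≤ c) (hdd : Nat.card (dd V) = 2 ^ (m + 2)) (hus : Nat.card (us V z) = 2 ^ c * Nat.card (dd V)) :
    Lin1 (rho (sec h)) (ff (sec h)) (qq (sec h)) (ims (sec h) (us V q)) (ims (sec h) T) (cls (sec h) (dd V))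
      (cl (sec h) q (h.V_le_ws hq)) c m where
  form := form (sec h) h.z_ne
  faith := faith
  cyc := oddCyc_of_surj (CompBasic.oddCyc_subgroup h.cyc (centralizer ({z} : Set G))) (imh (sec h)) imh_surj
  comps := fun J hJ => hK.comps (centralizer_ne_top h) (imh (sec h)) imh_surj hJ
  o2 := core_eq_bot h
  sylS := sylS h
  A_le := by
    intro x hx
    obtain ⟨u, hu, huC, rfl⟩ := mem_ims.1 hx
    exact mem_ims.2 ⟨u, us_le_T h hq hq1 hu, huC, rfl⟩
  A_norm := A_norm h hq hq1 hqz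
  A_sq := by
    intro a ha
    obtain ⟨u, hu, huC, rfl⟩ := mem_ims.1 ha
    obtain ⟨Tq, hBq⟩ := h.point hq hq1
    rw [← im_mul, im_eq_one_iff h]
    rcases hBq.sq_cases hu.1 with e | e
    · rw [e]; exact one_mem _
    · rw [e]; exact BTwoRep.V_le_kq h hq
  card_A := by
    have h1 := card_A h hq hq1 hqz
    rw [hus] at h1
    exact Nat.eq_of_mul_eq_mul_right Nat.card_pos h1
  l_ne := by
    rw [Ne, cl_eq_one, mem_zpowers_iff_of_mul_self h.zz]
    rintro (e | e)
    · exact hq1 e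
    · exact hqz e
  l_mem := (mem_cls (h.V_le_dd h.z_mem) _).2 (h.V_le_dd hq)
  l_fix := fun g hg => l_fix h hq hq1 hqz g hg
  gen := gen h hq hq1 hqz
  D_perp := by
    intro d hd
    obtain ⟨a, ha, rfl⟩ := cl_surj d
    rw [mem_cls (h.V_le_dd h.z_mem)] at hd
    exact (f_eq_zero h hq hq1 hqz ha).2 (h.dd_le_us h.z_mem h.z_ne hd)
  D_q := by
    intro d hd
    obtain ⟨a, ha, rfl⟩ := cl_surj d
    rw [mem_cls (h.V_le_dd h.z_mem)] at hd
    rw [qq_cl_eq_zero]
    exact h.dd_sq hd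
  D_norm := by
    intro g hg d hd
    obtain ⟨a, ha, rfl⟩ := cl_surj d
    rw [mem_cls (h.V_le_dd h.z_mem)] at hd
    obtain ⟨t, ht, htC, rfl⟩ := mem_ims.1 hg
    rw [rho_im, mem_cls (h.V_le_dd h.z_mem)]
    exact conj_mem_dd (h.T_norm ht) hd
  exists_not := by
    obtain ⟨w, hw, hwV⟩ := h.exists_w
    refine ⟨cl (sec h) w hw, fun h1 => hwV ?_⟩
    exact ((f_eq_zero h hq hq1 hqz hw).1 h1).2
  card_M := by
    have h1 := card_MM (s := sec h) h.z_ne
    rw [card_ws h, hus, hdd] at h1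
    have h2 : Nat.card (MM (sec h)) = 2 ^ c * 2 ^ (m + 2) := by omega
    rw [h2, ← pow_add]; congr 1
  card_D := by
    have h1 := card_cls (s := sec h) h.z_ne (h.V_le_dd h.z_mem) (h.dd_le_ws h.z_mem h.z_ne)
    rw [hdd, pow_succ] at h1
    omega
  m_le := hm
  out := by
    intro x hx a ha had
    obtain ⟨w, hw, rfl⟩ := cl_surj x
    obtain ⟨u, hu, huC, rfl⟩ := mem_ims.1 ha
    rw [Ne, f_eq_zero h hq hq1 hqz] at hx
    rw [rho_im, ← cl_inv, ← cl_mul, mem_cls (h.V_le_dd h.z_mem)] at had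
    have hwV : w ∉ centralizer (V : Set G) := fun h1 => hx ⟨hw, h1⟩
    have h1 : w * u * w⁻¹ * u⁻¹ ∈ dd V := by
      have e : w * u * w⁻¹ * u⁻¹ = (u * w * u⁻¹ * w⁻¹)⁻¹ := by group
      rw [e]; exact inv_mem had
    have h2 := h.mem_dd_of_comm hq hq1 hqz hw hwV hu h1
    exact (im_eq_one_iff h huC).2 (dd_le_kq h h2)
  perp := by
    intro x hx a ha
    obtain ⟨w, hw, rfl⟩ := cl_surj x
    obtain ⟨u, hu, huC, rfl⟩ := mem_ims.1 ha
    rw [f_eq_zero h hq hq1 hqz] at hx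
    rw [rho_im, ← cl_inv, ← cl_mul, mem_cls (h.V_le_dd h.z_mem)]
    have e : u * w * u⁻¹ * w⁻¹ = (w * u * w⁻¹ * u⁻¹)⁻¹ := by group
    rw [e]; exact inv_mem (h.comm_us hq hq1 hqz hx hu)
  dfix := by
    intro d hd a ha
    obtain ⟨w, hw, rfl⟩ := cl_surj d
    obtain ⟨u, hu, huC, rfl⟩ := mem_ims.1 ha
    rw [mem_cls (h.V_le_dd h.z_mem)] at hd
    obtain ⟨Tq, hBq⟩ := h.point hq hq1
    rw [rho_im, ← cl_mul (h.V_le_ws hq) hw, cl_eq, cl_eq]
    rcases hBq.dd_ws hd hu.1 with e | e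
    · left; rw [e, inv_mul_cancel]; exact one_mem _
    · right; rw [e, inv_mul_cancel]; exact one_mem _
  dcen := by
    intro d hd hfix
    obtain ⟨a, ha, rfl⟩ := cl_surj d
    rw [mem_cls (h.V_le_dd h.z_mem)] at hd
    have h1 : a ∈ V := by
      refine mem_V_of_comm_zpowers h hq hq1 hqz hd fun u hu => ?_
      have h2 := hfix _ (mem_ims.2 ⟨u, hu, us_le_C h q hu, rfl⟩)
      rw [rho_im, cl_eq] at h2
      have e : u * a * u⁻¹ * a⁻¹ = a⁻¹⁻¹ * (((u * a * u⁻¹)⁻¹ * a)⁻¹) * a⁻¹ := by group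
      rw [e]
      have h4 := (sec h).conj_z ((sec h).NC ha) (inv_mem h2)
      rw [inv_inv, h4]
      exact inv_mem h2
    rcases h.four h.z_mem hq h.z_ne hq1 (Ne.symm hqz) h1 with e | e | e | e
    · left; rw [cl_eq_one, e]; exact one_mem _
    · left; rw [cl_eq_one, e]; exact mem_zpowers z
    · right; rw [cl_eq, e, inv_mul_cancel]; exact one_mem _
    · right
      rw [cl_eq, e]
      have : (z * q)⁻¹ * q = q⁻¹ * z⁻¹ * q := by group
      rw [this, h.inv_eq hq, h.inv_eq h.z_mem, ← h.comm h.z_mem hq, mul_assoc, h.sq q hq, mul_one]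
      exact mem_zpowers z
  rad_D := by
    intro d hd hf
    obtain ⟨a, ha, rfl⟩ := cl_surj d
    rw [mem_cls (h.V_le_dd h.z_mem)] at hd
    rw [cl_eq_one]
    refine mem_zpowers_of_comm h hd fun w hw => ?_
    exact ((ff_cl_eq_zero ha hw).1 (hf (cl (sec h) w hw))).symm
  rad_A := by
    intro r hr a ha
    obtain ⟨w, hw, rfl⟩ := cl_surj r
    obtain ⟨u, hu, huC, rfl⟩ := mem_ims.1 ha
    rw [rho_im, cl_eq]
    have h1 := center_comm h hq hq1 hqz hw (fun x hx => ((ff_cl_eq_zero hw hx).1 (hr (cl (sec h) x hx))).symm) hu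
    have e : (u * w * u⁻¹)⁻¹ * w = w⁻¹ * (w * u * w⁻¹ * u⁻¹)⁻¹⁻¹ * w⁻¹⁻¹ := by group
    rw [e, (sec h).conj_z (inv_mem ((sec h).NC hw)) (inv_mem (inv_mem h1))]
    exact inv_mem (inv_mem h1)
  three := fun g hg => three h hq hq1 hqz g hg

end Cfsg.Agent.OddCyclic.BTwoLin.Build
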