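import Cfsg.Agent.OddCyclic.BTwoLin.Basic
import Mathlib.GroupTheory.GroupAction.CardCommute

/-!
# `c = 1` implies `m = 0`

(f6) of blueprints/S0342-Ba-helper208.md.
-/

set_option autoImplicit false

namespace Cfsg.Agent.OddCyclic.BTwoLin.CaseOne

open Cfsg.Agent.LieExceptional.CITDefs Cfsg.Agent.OddCyclic.T1Defs Cfsg.Agent.OddCyclic.FFBasic
open Cfsg.Agent.OddCyclic.BTwoLin
open Cfsg.Agent.OddCyclic.FFSl2 (stb mem_stb)

variable {X M : Type*} [Group X] [CommGroup M] {ρ : X →* MulAut M}

section general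

variable [Finite M]

/-- fixed points of an element of prime power order on an invariant set -/
theorem card_mod {g : X} {p n : ℕ} (hp : p.Prime) (hg : g ^ p ^ n = 1) (Z : Set M) (hZ : ∀ x ∈ Z, ρ g x ∈ Z) :
    Nat.card Z ≡ Nat.card {x : M // x ∈ Z ∧ ρ g x = x} [MOD p] := by
  classical
  have : Fact p.Prime := ⟨hp⟩
  have : Fintype Z := Fintype.ofFinite Z
  let f : Function.End Z := fun x => ⟨ρ g x, hZ _ x.2⟩
  have hf : f ^ p ^ n = 1 := by
    have key : ∀ k : ℕ, ∀ x : Z, ((f ^ k) x : M) = ρ (g ^ k) x := by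
      intro k
      induction k with
      | zero => intro x; rw [pow_zero, pow_zero, map_one]; rfl
      | succ k ih =>
        intro x
        rw [pow_succ', pow_succ', map_mul, MulAut.mul_apply, ← ih x]
        rfl
    funext x
    apply Subtype.ext
    rw [key, hg, map_one]; rfl
  have h1 := Equiv.Perm.card_fixedPoints_modEq hf
  rw [Nat.card_eq_fintype_card]
  have h2 : Nat.card {x : M // x ∈ Z ∧ ρ g x = x} = Fintype.card f.fixedPoints := by
    rw [← Nat.card_eq_fintype_card]
    refine Nat.card_congr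
      { toFun := fun x => ⟨⟨x.1, x.2.1⟩, Subtype.ext x.2.2⟩
        invFun := fun x => ⟨x.1.1, x.1.2, congrArg Subtype.val x.2⟩
        left_inv := fun x => rfl
        right_inv := fun x => rfl }
  rw [h2]
  exact h1

theorem card_fx_mod {g : X} {p n : ℕ} (hp : p.Prime) (hg : g ^ p ^ n = 1) :
    Nat.card M ≡ Nat.card (fx ρ g) [MOD p] := by
  have h1 := card_mod (ρ := ρ) hp hg Set.univ (fun x _ => trivial)
  rw [Nat.card_congr (Equiv.Set.univ M)] at h1
  have h2 : Nat.card {x : M // x ∈ (Set.univ : Set M) ∧ ρ g x = x} = Nat.card (fx ρ g) :=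
    Nat.card_congr
      { toFun := fun x => ⟨x.1, x.2.2⟩
        invFun := fun x => ⟨x.1, trivial, x.2⟩
        left_inv := fun x => rfl
        right_inv := fun x => rfl }
  rwa [h2] at h1

theorem card_split (g : X) : Nat.card {x : M // ρ g x ≠ x} + Nat.card (fx ρ g) = Nat.card M := by
  classical
  have e : M ≃ {x : M // ρ g x ≠ x} ⊕ fx ρ g :=
    { toFun := fun x => if hx : ρ g x = x then Sum.inr ⟨x, hx⟩ else Sum.inl ⟨x, hx⟩
      invFun := fun s => match s with
        | Sum.inl s => s.1
        | Sum.inr s => s.1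
      left_inv := fun x => by
        by_cases hx : ρ g x = x
        · simp [hx]
        · simp [hx]
      right_inv := fun s => by
        rcases s with ⟨s, h1⟩ | ⟨s, h1⟩
        · simp [h1]
        · have h1' : ρ g s = s := h1
          simp [h1'] }
  rw [Nat.card_congr e, Nat.card_sum]

/-- an element of order 9 acting faithfully -/
theorem nine {g : X} (hg : orderOf g = 9) : 9 ∣ Nat.card {x : M // ρ (g ^ 3) x ≠ x} := by
  classical
  let α := {x : M // ρ (g ^ 3) x ≠ x}
  have hcomm : ∀ h : Subgroup.zpowers g, (h : X) * g ^ 3 = g ^ 3 * h := by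
    rintro ⟨_, k, rfl⟩
    change g ^ k * g ^ 3 = g ^ 3 * g ^ k
    rw [← zpow_natCast g 3, ← zpow_add, ← zpow_add, add_comm]
  have hact : ∀ (h : Subgroup.zpowers g) (x : α), ρ (g ^ 3) (ρ h x) ≠ ρ h x := by
    intro h x hx
    apply x.2
    have h1 : ρ (h : X) (ρ (g ^ 3) x) = ρ (h : X) x := by
      rw [← MulAut.mul_apply, ← map_mul, hcomm h, map_mul, MulAut.mul_apply]
      exact hx
    exact (ρ (h : X)).injective h1
  letI : MulAction (Subgroup.zpowers g) α :=
    { smul := fun h x => ⟨ρ h x, hact h x⟩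
      one_smul := fun x => Subtype.ext (by
        change ρ ((1 : Subgroup.zpowers g) : X) x = x
        rw [Subgroup.coe_one, map_one]; rfl)
      mul_smul := fun h k x => Subtype.ext (by
        change ρ ((h * k : Subgroup.zpowers g) : X) x = ρ h (ρ k x)
        rw [Subgroup.coe_mul, map_mul, MulAut.mul_apply]) }
  have hfree : ∀ x : α, MulAction.stabilizer (Subgroup.zpowers g) x = ⊥ := by
    intro x
    rw [eq_bot_iff]
    rintro ⟨_, k, rfl⟩ hk
    have hk' : ρ (g ^ k) x = x := congrArg Subtype.val hk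
    rw [Subgroup.mem_bot]
    by_contra hne
    have h9 : ¬ (9 : ℤ) ∣ k := by
      intro h9
      apply hne
      apply Subtype.ext
      change g ^ k = 1
      rw [← orderOf_dvd_iff_zpow_eq_one, hg]
      exact_mod_cast h9
    -- some multiple of `k` is `3` modulo `9`
    have h3 : ∃ j : ℤ, (9 : ℤ) ∣ k * j - 3 := by
      have h1 : k % 9 = 1 ∨ k % 9 = 2 ∨ k % 9 = 3 ∨ k % 9 = 4 ∨ k % 9 = 5 ∨ k % 9 = 6 ∨ k % 9 = 7 ∨ k % 9 = 8 := by
        omega
      rcases h1 with e | e | e | e | e | e | e | e
      · exact ⟨3, by omega⟩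
      · exact ⟨6, by omega⟩
      · exact ⟨1, by omega⟩
      · exact ⟨3, by omega⟩
      · exact ⟨6, by omega⟩
      · exact ⟨2, by omega⟩
      · exact ⟨3, by omega⟩
      · exact ⟨6, by omega⟩
    obtain ⟨j, hj⟩ := h3
    have h4 : g ^ (3 : ℕ) = (g ^ k) ^ j := by
      rw [← zpow_mul, ← zpow_natCast g 3]
      have h5 : g ^ (k * j - 3) = 1 := by
        rw [← orderOf_dvd_iff_zpow_eq_one, hg]
        exact_mod_cast hj
      rw [zpow_sub, mul_inv_eq_one] at h5
      exact_mod_cast h5.symm
    apply x.2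
    have h5 : ∀ j : ℤ, ρ ((g ^ k) ^ j) x = x := by
      intro j
      have h6 : (g ^ k) ^ j ∈ stb ρ (x : M) := Subgroup.zpow_mem _ (mem_stb.2 hk') j
      exact mem_stb.1 h6
    have h6 := h5 j
    rw [← h4] at h6
    exact h6
  have : Fintype α := Fintype.ofFinite α
  have : Finite (Subgroup.zpowers g) := by
    have : Nat.card (Subgroup.zpowers g) ≠ 0 := by rw [Nat.card_zpowers, hg]; norm_num
    exact Nat.finite_of_card_ne_zero this
  have : Fintype (Subgroup.zpowers g) := Fintype.ofFinite _
  have h1 := MulAction.card_eq_sum_card_group_div_card_stabilizer (Subgroup.zpowers g) α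
  rw [Nat.card_eq_fintype_card, h1]
  refine Finset.dvd_sum fun ω _ => ?_
  have h2 : Fintype.card (MulAction.stabilizer (Subgroup.zpowers g) (Quotient.out ω)) = 1 := by
    rw [← Nat.card_eq_fintype_card, hfree, Subgroup.card_bot]
  rw [h2, Nat.div_one, ← Nat.card_eq_fintype_card, Nat.card_zpowers, hg]

/-- if `M` is generated by the orbit of `l`, then `|M| ≤ 2 ^ |X : X_l|` -/
theorem card_le [Finite X] (hsq : ∀ x : M, x * x = 1) {l : M}
    (gen : ∀ N : Subgroup M, (∀ g, ρ g l ∈ N) → N = ⊤) : Nat.card M ≤ 2 ^ (stb ρ l).index := by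
  classical
  let Ω := X ⧸ stb ρ l
  have : Fintype Ω := Fintype.ofFinite Ω
  let e : Ω → M := fun i => Quotient.liftOn' i (fun g => ρ g l) (by
    intro a b hab
    rw [QuotientGroup.leftRel_apply, mem_stb] at hab
    change ρ a l = ρ b l
    rw [map_mul, MulAut.mul_apply, map_inv] at hab
    have h1 : ρ a ((ρ a)⁻¹ (ρ b l)) = ρ a l := by rw [hab]
    rw [← h1, ← MulAut.mul_apply, mul_inv_cancel]; rfl)
  have step : ∀ (u : Finset Ω) (i : Ω), ∃ v : Finset Ω, (∏ j ∈ u, e j) * e i = ∏ j ∈ v, e j := by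
    intro u i
    by_cases hi : i ∈ u
    · refine ⟨u.erase i, ?_⟩
      rw [← Finset.prod_erase_mul u e hi, mul_assoc, hsq, mul_one]
    · refine ⟨insert i u, ?_⟩
      rw [Finset.prod_insert hi, mul_comm]
  have hmul : ∀ (w u : Finset Ω), ∃ v : Finset Ω, (∏ j ∈ u, e j) * (∏ j ∈ w, e j) = ∏ j ∈ v, e j := by
    intro w
    induction w using Finset.induction_on with
    | empty => intro u; exact ⟨u, by simp⟩
    | insert i w hi ih =>
      intro u
      obtain ⟨v, hv⟩ := ih u
      obtain ⟨v', hv'⟩ := step v i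
      refine ⟨v', ?_⟩
      rw [Finset.prod_insert hi, ← hv', ← hv, mul_assoc, mul_comm (e i)]
  let N : Subgroup M :=
    { carrier := {x | ∃ v : Finset Ω, x = ∏ j ∈ v, e j}
      one_mem' := ⟨∅, by simp⟩
      mul_mem' := by
        rintro x y ⟨u, rfl⟩ ⟨w, rfl⟩
        exact hmul w u
      inv_mem' := by
        rintro x ⟨u, rfl⟩
        exact ⟨u, inv_eq_of_mul_eq_one_right (hsq _)⟩ }
  have hN : N = ⊤ := gen N fun g => ⟨{(QuotientGroup.mk g : Ω)}, by rw [Finset.prod_singleton]; rfl⟩
  have hsurj : Function.Surjective (fun v : Finset Ω => ∏ j ∈ v, e j) := by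
    intro x
    have hx : x ∈ N := by rw [hN]; trivial
    obtain ⟨v, hv⟩ := hx
    exact ⟨v, hv.symm⟩
  have h1 := Nat.card_le_card_of_surjective _ hsurj
  rw [Nat.card_eq_fintype_card (α := Finset Ω), Fintype.card_finset, ← Nat.card_eq_fintype_card] at h1
  exact h1

end general

section count

variable {f : M → M → ZMod 2} {q : M → ZMod 2}

theorem half [Finite M] (P : Set M) (t : M) (ht : t * t = 1) (hP : ∀ x ∈ P, x * t ∈ P)
    (hq : ∀ x ∈ P, q (x * t) ≠ q x) : 2 * Nat.card {x : M // x ∈ P ∧ q x = 0} = Nat.card P := by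
  classical
  have e1 : {x : M // x ∈ P ∧ q x = 0} ≃ {x : M // x ∈ P ∧ q x ≠ 0} :=
    { toFun := fun x => ⟨x.1 * t, hP _ x.2.1, by
        have := hq _ x.2.1
        rw [x.2.2] at this; exact this⟩
      invFun := fun x => ⟨x.1 * t, hP _ x.2.1, by
        have := hq _ x.2.1
        rw [zmod_ne_zero.1 x.2.2] at this
        rcases zmod_cases (q (x.1 * t)) with h | h
        · exact h
        · exact absurd h this⟩
      left_inv := fun x => Subtype.ext (by change x.1 * t * t = x.1; rw [mul_assoc, ht, mul_one])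
      right_inv := fun x => Subtype.ext (by change x.1 * t * t = x.1; rw [mul_assoc, ht, mul_one]) }
  have e2 : P ≃ {x : M // x ∈ P ∧ q x = 0} ⊕ {x : M // x ∈ P ∧ q x ≠ 0} :=
    { toFun := fun x => if h : q x = 0 then Sum.inl ⟨x, x.2, h⟩ else Sum.inr ⟨x, x.2, h⟩
      invFun := fun s => match s with
        | Sum.inl s => ⟨s.1, s.2.1⟩
        | Sum.inr s => ⟨s.1, s.2.1⟩
      left_inv := fun x => by
        by_cases h : q x = 0
        · simp [h]
        · simp [h]
      right_inv := fun s => by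
        rcases s with ⟨s, h1, h2⟩ | ⟨s, h1, h2⟩
        · simp [h2]
        · simp [h2] }
  rw [Nat.card_congr e2, Nat.card_sum, ← Nat.card_congr e1]
  ring

variable {A S : Subgroup X} {D : Subgroup M} {l : M}

theorem mem_D_of_perp [Finite M] (h : Lin1 ρ f q A S D l 1 1) {d x : M} (hd : d ∈ D) (hd1 : d ≠ 1) (hdl : d ≠ l)
    (hx : f l x = 0) (hdx : f d x = 0) : x ∈ D := by
  have hcM : Nat.card M = 16 := h.card_M
  have hcD : Nat.card D = 4 := h.card_D
  have hcP : Nat.card (h.form.perp l) = 8 := by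
    have := h.card_l_perp
    rw [hcM] at this; omega
  -- an element of `perp l` not in `perp d`
  obtain ⟨y, hy, hdy⟩ : ∃ y, f l y = 0 ∧ f d y ≠ 0 := by
    by_contra hcon
    push Not at hcon
    obtain ⟨y, hy⟩ : ∃ y, f d y ≠ 0 := by
      by_contra h1
      push Not at h1
      exact hd1 (h.rad_D d hd h1)
    have hly : f l y ≠ 0 := fun e => hy (hcon y e)
    have h2 : l * d = 1 := by
      refine h.rad_D _ (mul_mem h.l_mem hd) fun w => ?_
      rw [h.form.f_mul]
      by_cases hw : f l w = 0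
      · rw [hw, hcon w hw, add_zero]
      · have h3 : f d (y * w) = 0 := hcon _ (h.form.mul_mem_perp hly hw)
        rw [h.form.mul_right, zmod_ne_zero.1 hy] at h3
        rw [zmod_ne_zero.1 hw]
        exact h3
    apply hdl
    rw [← h.form.inv_eq l]
    exact (inv_eq_of_mul_eq_one_right h2).symm
  have hrel : (h.form.perp d).relIndex (h.form.perp l) = 2 := by
    rw [Subgroup.relIndex_eq_two_iff]
    refine ⟨y, hy, fun w hw => ?_⟩
    by_cases hw' : f d w = 0
    · right
      refine ⟨hw', fun h1 => hdy ?_⟩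
      have h2 : f d (w * y) = 0 := h1
      rwa [h.form.mul_right, hw', zero_add] at h2
    · left
      exact ⟨h.form.mul_mem_perp hw' hdy, hw'⟩
  have hE : Nat.card (h.form.perp d ⊓ h.form.perp l : Subgroup M) = 4 := by
    have h1 := Subgroup.card_mul_index ((h.form.perp d).subgroupOf (h.form.perp l))
    rw [← Subgroup.relIndex, hrel, hcP] at h1
    have h2 : Nat.card ((h.form.perp d).subgroupOf (h.form.perp l)) =
        Nat.card (h.form.perp d ⊓ h.form.perp l : Subgroup M) := by
      rw [← Subgroup.inf_subgroupOf_right]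
      exact Nat.card_congr (Subgroup.subgroupOfEquivOfLe inf_le_right).toEquiv
    omega
  have hDE : D ≤ h.form.perp d ⊓ h.form.perp l := le_inf (fun e he => h.D_iso hd he) h.D_le
  have heq : D = h.form.perp d ⊓ h.form.perp l := by
    refine SetLike.coe_injective (Set.eq_of_subset_of_ncard_le hDE ?_ (Set.toFinite _))
    have h3 : (D : Set M).ncard = Nat.card D := rfl
    have h4 : ((h.form.perp d ⊓ h.form.perp l : Subgroup M) : Set M).ncard =
      Nat.card (h.form.perp d ⊓ h.form.perp l : Subgroup M) := rfl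
    rw [h3, h4, hcD, hE]
  rw [heq]
  exact ⟨hdx, hx⟩

theorem count [Finite M] (h : Lin1 ρ f q A S D l 1 1) : Nat.card {x : M // q x = 0} = 10 := by
  classical
  have hcM : Nat.card M = 16 := h.card_M
  have hcD : Nat.card D = 4 := h.card_D
  have hcP : Nat.card (h.form.perp l) = 8 := by
    have := h.card_l_perp
    rw [hcM] at this; omega
  obtain ⟨d, hd, hd1, hdl⟩ : ∃ d ∈ D, d ≠ 1 ∧ d ≠ l := by
    by_contra hcon
    push Not at hcon
    have h1 : (D : Set M) ⊆ {1, l} := by
      intro x hx
      by_cases hx1 : x = 1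
      · left; exact hx1
      · right; exact hcon x hx hx1
    have h2 := Set.ncard_le_ncard h1 (Set.toFinite _)
    have h3 : (D : Set M).ncard = Nat.card D := rfl
    have h4 : ({1, l} : Set M).ncard ≤ 2 := by
      have := Set.ncard_insert_le (1 : M) {l}
      rwa [Set.ncard_singleton] at this
    omega
  let P1 : Set M := {x | f l x ≠ 0}
  let P2 : Set M := {x | f l x = 0 ∧ x ∉ D}
  have hsplit1 : M ≃ P1 ⊕ h.form.perp l :=
    { toFun := fun x => if hx : f l x = 0 then Sum.inr ⟨x, hx⟩ else Sum.inl ⟨x, hx⟩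
      invFun := fun s => match s with
        | Sum.inl s => s.1
        | Sum.inr s => s.1
      left_inv := fun x => by
        by_cases hx : f l x = 0
        · simp [hx]
        · simp [hx]
      right_inv := fun s => by
        rcases s with ⟨s, h1⟩ | ⟨s, h1⟩
        · have h1' : ¬ f l s = 0 := h1
          simp [h1']
        · have h1' : f l s = 0 := h1
          simp [h1'] }
  have hP1 : Nat.card P1 = 8 := by
    have := Nat.card_congr hsplit1
    rw [Nat.card_sum, hcM, hcP] at this
    omega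
  have hsplit2 : h.form.perp l ≃ P2 ⊕ D :=
    { toFun := fun x => if hx : (x : M) ∈ D then Sum.inr ⟨x, hx⟩ else Sum.inl ⟨x, x.2, hx⟩
      invFun := fun s => match s with
        | Sum.inl s => ⟨s.1, s.2.1⟩
        | Sum.inr s => ⟨s.1, h.D_le s.2⟩
      left_inv := fun x => by
        by_cases hx : (x : M) ∈ D
        · simp [hx]
        · simp [hx]
      right_inv := fun s => by
        rcases s with ⟨s, h1, h2⟩ | ⟨s, h1⟩
        · simp [h2]
        · simp [h1] }
  have hP2 : Nat.card P2 = 4 := by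
    have := Nat.card_congr hsplit2
    rw [Nat.card_sum, hcD, hcP] at this
    omega
  have h1 := half (q := q) P1 l (h.form.sq l)
    (fun x hx => by
      change f l (x * l) ≠ 0
      rw [h.form.mul_right, h.form.self, add_zero]; exact hx)
    (fun x hx => by
      have hx' : f l x ≠ 0 := hx
      rw [h.form.q_mul, h.D_q l h.l_mem, h.form.f_symm x l, zmod_ne_zero.1 hx', add_zero]
      intro e
      have h2 : (1 : ZMod 2) = 0 := by
        have := e
        rwa [add_eq_left] at this
      exact absurd h2 (by decide))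
  have h2 := half (q := q) P2 d (h.form.sq d)
    (fun x hx => by
      refine ⟨?_, fun hxd => hx.2 ?_⟩
      · rw [h.form.mul_right, hx.1, h.D_perp d hd, add_zero]
      · have := mul_mem hxd hd
        rwa [mul_assoc, h.form.sq, mul_one] at this)
    (fun x hx => by
      have hx' : f d x ≠ 0 := fun e => hx.2 (mem_D_of_perp h hd hd1 hdl hx.1 e)
      rw [h.form.q_mul, h.D_q d hd, h.form.f_symm x d, zmod_ne_zero.1 hx', add_zero]
      intro e
      have h2 : (1 : ZMod 2) = 0 := by
        have := e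
        rwa [add_eq_left] at this
      exact absurd h2 (by decide))
  have hsplit : {x : M // q x = 0} ≃ {x : M // x ∈ P1 ∧ q x = 0} ⊕ ({x : M // x ∈ P2 ∧ q x = 0} ⊕ D) :=
    { toFun := fun x => if hx : f l x = 0 then
          (if hx2 : (x : M) ∈ D then Sum.inr (Sum.inr ⟨x, hx2⟩) else Sum.inr (Sum.inl ⟨x, ⟨hx, hx2⟩, x.2⟩))
        else Sum.inl ⟨x, hx, x.2⟩
      invFun := fun s => match s with
        | Sum.inl s => ⟨s.1, s.2.2⟩
        | Sum.inr (Sum.inl s) => ⟨s.1, s.2.2⟩
        | Sum.inr (Sum.inr s) => ⟨s.1, h.D_q _ s.2⟩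
      left_inv := fun x => by
        by_cases hx : f l x = 0
        · by_cases hx2 : (x : M) ∈ D
          · simp [hx, hx2]
          · simp [hx, hx2]
        · simp [hx]
      right_inv := fun s => by
        rcases s with ⟨s, h1, h2⟩ | ⟨s, ⟨h1, h3⟩, h2⟩ | ⟨s, h1⟩
        · have h1' : ¬ f l s = 0 := h1
          simp [h1']
        · simp [h1, h3]
        · simp [h1, h.D_perp s h1] }
  rw [Nat.card_congr hsplit, Nat.card_sum, Nat.card_sum, hcD]
  omega

end count

section final

variable [Finite X] [Finite M] {f : M → M → ZMod 2} {q : M → ZMod 2} {A S : Subgroup X} {D : Subgroup M} {l : M}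

theorem card_fx_cases (h : Lin1 ρ f q A S D l 1 1) {g : X} (hg : g ≠ 1) :
    Nat.card (fx ρ g) = 1 ∨ Nat.card (fx ρ g) = 2 ∨ Nat.card (fx ρ g) = 4 ∨ Nat.card (fx ρ g) = 8 := by
  have hcM : Nat.card M = 16 := h.card_M
  have h1 : Nat.card (fx ρ g) ∣ 2 ^ 4 := by
    have := Subgroup.card_subgroup_dvd_card (fx ρ g)
    rw [hcM] at this
    exact this
  obtain ⟨k, hk, e⟩ := (Nat.dvd_prime_pow Nat.prime_two).1 h1
  have h2 : Nat.card (fx ρ g) ≠ 16 := by
    intro h3
    apply hg
    apply h.faith
    intro x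
    have h4 : fx ρ g = ⊤ := Subgroup.eq_top_of_card_eq _ (by rw [h3, hcM])
    have : x ∈ fx ρ g := by rw [h4]; trivial
    exact this
  interval_cases k
  · left; exact e
  · right; left; exact e
  · right; right; left; exact e
  · right; right; right; exact e
  · exact absurd e h2

theorem prime_eq (h : Lin1 ρ f q A S D l 1 1) {p : ℕ} (hp : p.Prime) (hp2 : p ≠ 2) (hd : p ∣ Nat.card X) : p = 3 := by
  have hcM : Nat.card M = 16 := h.card_M
  have : Fact p.Prime := ⟨hp⟩
  obtain ⟨g, hg⟩ := exists_prime_orderOf_dvd_card' p hd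
  have hg1 : g ≠ 1 := by
    rintro rfl
    rw [orderOf_one] at hg
    exact hp.one_lt.ne hg
  have hgp : g ^ p ^ 1 = 1 := by rw [pow_one, ← hg]; exact pow_orderOf_eq_one g
  have h1 := card_fx_mod (ρ := ρ) hp hgp
  rw [hcM] at h1
  have h2 : p ∣ 16 - Nat.card (fx ρ g) := by
    refine (Nat.modEq_iff_dvd' ?_).1 h1.symm
    rcases card_fx_cases h hg1 with e | e | e | e <;> omega
  have hZ := card_mod (ρ := ρ) hp hgp {x : M | q x = 0} (fun x hx => by
    change q (ρ g x) = 0
    rw [h.form.q_inv]; exact hx)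
  have hZ0 : Nat.card {x : M | q x = 0} = 10 := count h
  rw [hZ0] at hZ
  have hle : Nat.card {x : M // x ∈ {x : M | q x = 0} ∧ ρ g x = x} ≤ Nat.card (fx ρ g) := by
    refine Nat.card_le_card_of_injective (fun x => (⟨x.1, x.2.2⟩ : fx ρ g)) ?_
    intro a b hab
    have h0 : (a : M) = b := congrArg (fun t : fx ρ g => (t : M)) hab
    exact Subtype.ext h0
  have hpos : 0 < Nat.card {x : M // x ∈ {x : M | q x = 0} ∧ ρ g x = x} := by
    have : Nonempty {x : M // x ∈ {x : M | q x = 0} ∧ ρ g x = x} := ⟨⟨1, h.form.q_one, map_one _⟩⟩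
    exact Nat.card_pos
  set w := Nat.card {x : M // x ∈ {x : M | q x = 0} ∧ ρ g x = x} with hw
  have hpdvd : p ∣ 15 ∨ p ∣ 14 ∨ p ∣ 12 ∨ p ∣ 8 := by
    rcases card_fx_cases h hg1 with e | e | e | e
    · rw [e] at h2; left; exact h2
    · rw [e] at h2; right; left; exact h2
    · rw [e] at h2; right; right; left; exact h2
    · rw [e] at h2; right; right; right; exact h2
  have hp15 : p = 3 ∨ p = 5 ∨ p = 7 := by
    have hle : p ≤ 15 := by
      rcases hpdvd with e | e | e | e
      · exact Nat.le_of_dvd (by norm_num) e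
      · exact (Nat.le_of_dvd (by norm_num) e).trans (by norm_num)
      · exact (Nat.le_of_dvd (by norm_num) e).trans (by norm_num)
      · exact (Nat.le_of_dvd (by norm_num) e).trans (by norm_num)
    interval_cases p
    all_goals first
      | omega
      | (exfalso; revert hp; decide)
      | (exfalso; rcases hpdvd with e | e | e | e <;> revert e <;> decide)
  rcases hp15 with e | e | e
  · exact e
  · exfalso
    subst e
    rcases card_fx_cases h hg1 with e | e | e | e
    · rw [e] at hle
      have : w = 1 := by omega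
      rw [this] at hZ
      revert hZ; decide
    · rw [e] at h2; revert h2; decide
    · rw [e] at h2; revert h2; decide
    · rw [e] at h2; revert h2; decide
  · exfalso
    subst e
    rcases card_fx_cases h hg1 with e | e | e | e
    · rw [e] at h2; revert h2; decide
    · rw [e] at hle
      have : w = 1 ∨ w = 2 := by omega
      rcases this with e' | e'
      · rw [e'] at hZ; revert hZ; decide
      · rw [e'] at hZ; revert hZ; decide
    · rw [e] at h2; revert h2; decide
    · rw [e] at h2; revert h2; decide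

theorem not_nine (h : Lin1 ρ f q A S D l 1 1) : ¬ 9 ∣ Nat.card X := by
  intro h9
  have hcM : Nat.card M = 16 := h.card_M
  have : Fact (Nat.Prime 3) := ⟨Nat.prime_three⟩
  obtain ⟨P⟩ : Nonempty (Sylow 3 X) := inferInstance
  have hcyc := h.cyc 3 P Nat.prime_three (by norm_num)
  have h1 : 3 ^ 2 ∣ Nat.card P := by
    exact P.pow_dvd_card_of_pow_dvd_card (by norm_num; exact h9)
  obtain ⟨y, hy⟩ := hcyc.exists_generator
  have hord : orderOf y = Nat.card P := by
    rw [← Nat.card_zpowers]
    have : Subgroup.zpowers y = ⊤ := by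
      rw [Subgroup.eq_top_iff']; exact hy
    rw [this, Subgroup.card_top]
  obtain ⟨k, hk⟩ := h1
  have hk0 : k ≠ 0 := by
    rintro rfl
    rw [mul_zero] at hk
    exact Nat.card_pos.ne' hk
  have h3 : orderOf (y ^ k) = 9 := by
    rw [orderOf_pow' _ hk0, hord, hk, Nat.gcd_eq_right (dvd_mul_left k _)]
    rw [Nat.mul_div_cancel _ (Nat.pos_of_ne_zero hk0)]
    norm_num
  set g : X := ((y ^ k : P) : X) with hg
  have hg9 : orderOf g = 9 := by
    rw [hg]
    rw [Subgroup.orderOf_coe]; exact h3
  have h4 := nine (ρ := ρ) hg9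
  have hg3 : g ^ 3 ≠ 1 := by
    intro e
    have := orderOf_dvd_of_pow_eq_one e
    rw [hg9] at this
    omega
  have hg33 : (g ^ 3) ^ 3 ^ 1 = 1 := by
    rw [pow_one, ← pow_mul]
    change g ^ 9 = 1
    rw [← hg9]; exact pow_orderOf_eq_one g
  have h5 := card_fx_mod (ρ := ρ) Nat.prime_three hg33
  rw [hcM] at h5
  have h6 := card_split (ρ := ρ) (g ^ 3)
  rw [hcM] at h6
  rcases card_fx_cases h hg3 with e | e | e | e
  · rw [e] at h6
    have : Nat.card {x : M // ρ (g ^ 3) x ≠ x} = 15 := by omega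
    rw [this] at h4; omega
  · rw [e] at h5; revert h5; decide
  · rw [e] at h6
    have : Nat.card {x : M // ρ (g ^ 3) x ≠ x} = 12 := by omega
    rw [this] at h4; omega
  · rw [e] at h5; revert h5; decide

/-- **(f6)** -/
theorem false_of_one_one (h : Lin1 ρ f q A S D l 1 1) : False := by
  have hcM : Nat.card M = 16 := h.card_M
  have : Fact (Nat.Prime 2) := ⟨Nat.prime_two⟩
  have hSl : S ≤ stb ρ l := fun g hg => mem_stb.2 (h.S_fix hg)
  have hodd : ¬ 2 ∣ (stb ρ l).index := by
    intro h2
    have h3 : (stb ρ l).index ∣ S.index := Subgroup.index_dvd_of_le hSl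
    have h4 : ¬ 2 ∣ S.index := by
      let P : Sylow 2 X := ⟨S, h.sylS.two, fun {Q} hQ hSQ => h.sylS.max Q le_top hQ hSQ⟩
      exact Sylow.not_dvd_index P
    exact h4 (h2.trans h3)
  have hdvd : (stb ρ l).index ∣ Nat.card X := Subgroup.index_dvd_card _
  have hne : (stb ρ l).index ≠ 0 := Subgroup.index_ne_zero_of_finite
  have h3 : (stb ρ l).index = 3 ^ (stb ρ l).index.primeFactorsList.length := by
    refine Nat.eq_prime_pow_of_unique_prime_dvd hne fun {p} hp hpd => ?_
    refine prime_eq h hp ?_ (hpd.trans hdvd)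
    rintro rfl
    exact hodd hpd
  set k := (stb ρ l).index.primeFactorsList.length with hk
  have hk1 : k ≤ 1 := by
    by_contra hcon
    push Not at hcon
    apply not_nine h
    refine dvd_trans ?_ hdvd
    rw [h3]
    exact pow_dvd_pow 3 hcon
  have h4 : (stb ρ l).index ≤ 3 := by
    rw [h3]
    calc 3 ^ k ≤ 3 ^ 1 := Nat.pow_le_pow_right (by norm_num) hk1
      _ = 3 := by norm_num
  have h5 := card_le (ρ := ρ) h.form.sq h.gen
  rw [hcM] at h5
  have h6 : 2 ^ (stb ρ l).index ≤ 2 ^ 3 := Nat.pow_le_pow_right (by norm_num) h4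
  omega

end final

end Cfsg.Agent.OddCyclic.BTwoLin.CaseOne
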