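import Cfsg.Agent.OddCyclic.BTwoLin.SlEightB
import Cfsg.Agent.OddCyclic.BTwoLin.Build
import Cfsg.Agent.OddCyclic.BTwoEight

/-!
# (E1), `b = 2`: the case `X = SL(2,8)` is the `³D₄(2)`-shape

`false_of_eight`: it is impossible (`BTwoEight.Eight.false`).
-/

set_option autoImplicit false
set_option linter.dupNamespace false

namespace Cfsg.Agent.OddCyclic.BTwoLin.ConvEight

open Subgroup Cfsg Cfsg.Agent.ZN Cfsg.Agent.MinSimple.Geo Cfsg.Agent.OddCyclic.GeoC
  Cfsg.Agent.OddCyclic.BTwoA Cfsg.Agent.OddCyclic.BTwoB Cfsg.Agent.OddCyclic.BTwoC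
  Cfsg.Agent.OddCyclic.BTwoD Cfsg.Agent.OddCyclic.BTwoK
open Cfsg.Agent.OddCyclic.BTwoLin Cfsg.Agent.OddCyclic.BTwoLin.Rep Cfsg.Agent.OddCyclic.BTwoLin.Build
open Cfsg.Agent.OddCyclic.BTwoLin.SlBase
open Cfsg.Agent.MinSimple.Sec (Sec)

universe u

variable {G : Type u} [Group G]

section gen

variable {N C : Subgroup G} {z : G} (s : Sec N C z)

/-- the preimage in `G` of the subgroup generated by an element of `MM` -/
def Ph (y : MM s) : Subgroup G := ((zpowers y).comap (clh s)).map N.subtype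

variable {s}

theorem mem_Ph {y : MM s} {a : G} : a ∈ Ph s y ↔ ∃ ha : a ∈ N, cl s a ha = 1 ∨ cl s a ha = y := by
  constructor
  · rintro ⟨b, hb, rfl⟩
    refine ⟨b.2, ?_⟩
    have h1 : cl s b b.2 ∈ zpowers y := hb
    rwa [mem_zpowers_iff_of_mul_self (mul_self y)] at h1
  · rintro ⟨ha, h1⟩
    refine ⟨⟨a, ha⟩, ?_, rfl⟩
    change cl s a ha ∈ zpowers y
    rwa [mem_zpowers_iff_of_mul_self (mul_self y)]

theorem Ph_inj {y y' : MM s} (hy : y ≠ 1) (h : Ph s y = Ph s y') : y = y' := by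
  obtain ⟨a, ha, rfl⟩ := cl_surj y
  have h1 : a ∈ Ph s (cl s a ha) := mem_Ph.2 ⟨ha, Or.inr rfl⟩
  rw [h] at h1
  obtain ⟨ha', h2 | h2⟩ := mem_Ph.1 h1
  · exact absurd h2 hy
  · exact h2

theorem cj_Ph {y : MM s} {c : G} (hc : c ∈ C) : cj c (Ph s y) = Ph s (rho s (im s c hc) y) := by
  ext a
  rw [mem_cj, mem_Ph, mem_Ph]
  have key : ∀ b (hb : b ∈ N) (y : MM s), cl s (c * b * c⁻¹) (s.CN c hc b hb) = rho s (im s c hc) y ↔
      cl s b hb = y := by
    intro b hb y
    rw [← rho_im hc hb]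
    exact (rho s (im s c hc)).injective.eq_iff
  constructor
  · rintro ⟨hb, h1⟩
    have e1 : c * (c⁻¹ * a * c) * c⁻¹ = a := by group
    have ha : a ∈ N := by rw [← e1]; exact s.CN c hc _ hb
    refine ⟨ha, ?_⟩
    have h2 := key _ hb
    simp only [e1] at h2
    rcases h1 with h1 | h1
    · left
      have := (h2 1).2 h1
      rwa [map_one] at this
    · right
      exact (h2 y).2 h1
  · rintro ⟨ha, h1⟩
    have e1 : c * (c⁻¹ * a * c) * c⁻¹ = a := by group
    have hb : c⁻¹ * a * c ∈ N := by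
      have := s.CN c⁻¹ (inv_mem hc) a ha
      rwa [inv_inv] at this
    refine ⟨hb, ?_⟩
    have h2 := key _ hb
    simp only [e1] at h2
    rcases h1 with h1 | h1
    · left
      refine (h2 1).1 ?_
      rwa [map_one]
    · right
      exact (h2 y).1 h1

end gen

variable [Finite G] {T V : Subgroup G} {z : G} (h : BTwo T V z) {q : G} (hq : q ∈ V) (hq1 : q ≠ 1) (hqz : q ≠ z)

include hq1 hqz

theorem Ph_q : Ph (sec h) (cl (sec h) q (h.V_le_ws hq)) = V := by
  ext a
  rw [mem_Ph]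
  constructor
  · rintro ⟨ha, h1 | h1⟩
    · rw [cl_eq_one] at h1
      rw [mem_zpowers_iff_of_mul_self h.zz] at h1
      rcases h1 with rfl | rfl
      · exact one_mem _
      · exact h.z_mem
    · rcases eq_or_of_cl (h.V_le_ws hq) ha h1.symm with e | e
      · rw [e]; exact hq
      · rw [e]; exact mul_mem h.z_mem hq
  · intro ha
    refine ⟨h.V_le_ws ha, ?_⟩
    rcases h.four h.z_mem hq h.z_ne hq1 (Ne.symm hqz) ha with e | e | e | e
    · left; rw [cl_eq_one, e]; exact one_mem _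
    · left; rw [cl_eq_one, e]; exact mem_zpowers z
    · right; rw [cl_eq, e, inv_mul_cancel]; exact one_mem _
    · right
      rw [cl_eq, e]
      have : (z * q)⁻¹ * q = q⁻¹ * z⁻¹ * q := by group
      rw [this, h.inv_eq hq, h.inv_eq h.z_mem, ← h.comm h.z_mem hq, mul_assoc, h.sq q hq, mul_one]
      exact mem_zpowers z

/-- the lines through `z` and the conjugates of `l` -/
theorem lines_eq : lines V z = Ph (sec h) '' {y | ∃ x, y = rho (sec h) x (cl (sec h) q (h.V_le_ws hq))} := by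
  ext L
  constructor
  · intro hL
    obtain ⟨c, hc, rfl⟩ := h.exists_of_mem_lines hL
    refine ⟨_, ⟨im (sec h) c hc, rfl⟩, ?_⟩
    rw [← cj_Ph hc, Ph_q h hq hq1 hqz]
  · rintro ⟨_, ⟨x, rfl⟩, rfl⟩
    obtain ⟨c, hc, rfl⟩ := im_surj x
    rw [← cj_Ph hc, Ph_q h hq hq1 hqz]
    refine ⟨⟨c, rfl⟩, ?_⟩
    rw [mem_cj]
    have : c⁻¹ * z * c = z := by rw [mul_assoc, ← h.z_comm hc, inv_mul_cancel_left]
    rw [this]; exact h.z_mem

theorem ncard_lines : (lines V z).ncard =
    {y | ∃ x, y = rho (sec h) x (cl (sec h) q (h.V_le_ws hq))}.ncard := by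
  rw [lines_eq h hq hq1 hqz]
  refine Set.ncard_image_of_injOn ?_
  rintro _ ⟨x, rfl⟩ _ ⟨y, rfl⟩ hxy
  refine Ph_inj ?_ hxy
  intro h1
  rw [map_eq_one_iff _ (rho (sec h) x).injective, cl_eq_one, mem_zpowers_iff_of_mul_self h.zz] at h1
  rcases h1 with e | e
  · exact hq1 e
  · exact hqz e

/-- an element of a line outside `⟨z⟩` -/
theorem cl_line {L : Subgroup G} (hL : L ∈ lines V z) {a : G} (ha : a ∈ L) (ha1 : a ≠ 1) (haz : a ≠ z) :
    ∃ ha' : a ∈ ws V z, L = Ph (sec h) (cl (sec h) a ha') ∧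
      ∃ x, cl (sec h) a ha' = rho (sec h) x (cl (sec h) q (h.V_le_ws hq)) := by
  rw [lines_eq h hq hq1 hqz] at hL
  obtain ⟨_, ⟨x, rfl⟩, rfl⟩ := hL
  obtain ⟨ha', h1 | h1⟩ := mem_Ph.1 ha
  · exfalso
    rw [cl_eq_one, mem_zpowers_iff_of_mul_self h.zz] at h1
    rcases h1 with e | e
    · exact ha1 e
    · exact haz e
  · exact ⟨ha', by rw [h1], x, h1⟩

omit hq1 hqz in
/-- the elements of order three in `C_G(z)` act nontrivially -/
theorem im_ne_one {x : G} (hx : x ∈ centralizer ({z} : Set G)) (hx3 : orderOf x = 3) :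
    im (sec h) x hx ≠ 1 := by
  intro h1
  rw [im_eq_one] at h1
  have h3 : x ^ 3 = 1 := by rw [← hx3]; exact pow_orderOf_eq_one x
  refine Three.not_three h (x := x) ?_ hx3
  rw [mem_centralizer_iff]
  intro v hv
  have h2 := h1 v (h.V_le_ws hv)
  rw [mem_zpowers_iff_of_mul_self h.zz] at h2
  rcases h2 with e | e
  · rw [mul_inv_eq_one, mul_inv_eq_iff_eq_mul] at e
    exact e.symm
  · exfalso
    rw [mul_inv_eq_iff_eq_mul] at e
    have hxz : x * z * x⁻¹ = z := by rw [h.z_comm hx, mul_inv_cancel_right]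
    have e2 : x * (x * v * x⁻¹) * x⁻¹ = v := by
      rw [e]
      calc x * (z * v) * x⁻¹ = (x * z * x⁻¹) * (x * v * x⁻¹) := by group
        _ = v := by rw [hxz, e, ← mul_assoc, h.zz, one_mul]
    have e3 : x * (x * (x * v * x⁻¹) * x⁻¹) * x⁻¹ = v := by
      calc x * (x * (x * v * x⁻¹) * x⁻¹) * x⁻¹ = x ^ 3 * v * (x ^ 3)⁻¹ := by
            simp only [pow_succ, pow_zero, one_mul]; group
        _ = v := by rw [h3]; group
    rw [e2, e] at e3
    exact h.z_ne (by simpa using e3)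

omit hq1 hqz in
theorem orderOf_im {x : G} (hx : x ∈ centralizer ({z} : Set G)) (hx3 : orderOf x = 3) :
    orderOf (im (sec h) x hx) = 3 := by
  refine orderOf_eq_prime ?_ (im_ne_one h hx hx3)
  have h3 : x ^ 3 = 1 := by rw [← hx3]; exact pow_orderOf_eq_one x
  have h4 : (imh (sec h) ⟨x, hx⟩) ^ 3 = 1 := by
    rw [← map_pow]
    have : (⟨x, hx⟩ : centralizer ({z} : Set G)) ^ 3 = 1 := Subtype.ext h3
    rw [this, map_one]
  exact h4

/-- **the `³D₄(2)`-shape is impossible** -/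
theorem false_of_eight {F : Type*} [Field F] [Finite F] [CharP F 2] {A S : Subgroup (XX (sec h))}
    {D : Subgroup (MM (sec h))} {c m : ℕ} {K : Subgroup (XX (sec h))}
    {e : K ≃* Matrix.SpecialLinearGroup (Fin 2) F}
    (hS : Sl (rho (sec h)) (ff (sec h)) (qq (sec h)) A S D (cl (sec h) q (h.V_le_ws hq)) c m K e)
    (hAK : A ≤ K) (hdd : Nat.card (dd V) = 2 ^ (m + 2)) (hws : Nat.card (ws V z) = 2 ^ (c + m + 3)) : False := by
  obtain ⟨h8, rfl, rfl, hF1⟩ := SlOne.main hS hAK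
  have hrad : ∀ r, (∀ x, ff (sec h) r x = 0) → r = 1 := fun r hr => SlEight.rad_one hS hF1 (by rw [h8]) hr
  have hE : BTwoEight.Eight T V z :=
    { toBTwo := h
      card_ws := hws
      card_dd := hdd
      card_lines := by
        rw [ncard_lines h hq hq1 hqz, SlEight.ncard_conj hS hrad hF1, h8]
      nc := by
        intro L hL L' hL' hLL a ha ha1 haz b hb hb1 hbz hab
        obtain ⟨ha', hLa, x, hx⟩ := cl_line h hq hq1 hqz hL ha ha1 haz
        obtain ⟨hb', hLb, y, hy⟩ := cl_line h hq hq1 hqz hL' hb hb1 hbz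
        have hne : cl (sec h) a ha' ≠ cl (sec h) b hb' := by
          intro h1
          apply hLL
          rw [hLa, hLb, h1]
        rw [hx, hy] at hne
        have h1 := SlEight.f_conj hS hrad hF1 hne
        rw [← hx, ← hy, (ff_cl_eq_zero ha' hb').2 hab] at h1
        exact absurd h1 (by decide)
      inv := by
        intro x hx hx3 t ht ht2 htx
        rw [← im_eq_one_iff h ht]
        refine SlEightB.not_comm hS h8 (orderOf_im h hx hx3) ?_ ?_
        · rw [← im_mul, im_eq_one_iff h, ht2]; exact one_mem _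
        · rw [← im_mul, ← im_mul]
          congr 1 }
  exact hE.false

end Cfsg.Agent.OddCyclic.BTwoLin.ConvEight
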