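import Cfsg.Agent.OddCyclic.BTwoLin.SlPerm
import Cfsg.Agent.OddCyclic.BTwoLin.ConvEight
import Cfsg.Agent.OddCyclic.GamNEnd

/-!
# (E1), `b = 2`: the case `|F| = 4` is the `HS`-shape

`false_of_four`: it is impossible (`GamNBase.HS.false`).
-/

set_option autoImplicit false
set_option linter.dupNamespace false

namespace Cfsg.Agent.OddCyclic.BTwoLin.ConvHS

open Subgroup Cfsg Cfsg.Agent.ZN Cfsg.Agent.MinSimple.Geo Cfsg.Agent.OddCyclic.GeoC
  Cfsg.Agent.OddCyclic.BTwoA Cfsg.Agent.OddCyclic.BTwoB Cfsg.Agent.OddCyclic.BTwoC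
  Cfsg.Agent.OddCyclic.BTwoD Cfsg.Agent.OddCyclic.BTwoK
open Cfsg.Agent.OddCyclic.BTwoLin Cfsg.Agent.OddCyclic.BTwoLin.Rep Cfsg.Agent.OddCyclic.BTwoLin.Build
open Cfsg.Agent.OddCyclic.BTwoLin.SlBase Cfsg.Agent.OddCyclic.BTwoLin.SlHS
open Cfsg.Agent.OddCyclic.GamNLoc (zz mem_zz)
open Cfsg.Agent.OddCyclic.GamPerm (O3)
open Cfsg.Agent.MinSimple.Sec (Sec)

universe u

variable {G : Type u} [Group G] [Finite G] {T V : Subgroup G} {z : G} (h : BTwo T V z) {q : G} (hq : q ∈ V)
  (hq1 : q ≠ 1) (hqz : q ≠ z)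

include hq1 hqz

omit hq1 hqz in
/-- the centre of `ws V z` and the radical -/
theorem cls_zz : cls (sec h) (zz (ws V z)) = Rad (form (sec h) h.z_ne) := by
  have hz : z ∈ zz (ws V z) := by
    rw [mem_zz]
    exact ⟨h.V_le_ws h.z_mem, fun w hw => h.z_comm (h.ws_le_centralizer hw)⟩
  ext x
  obtain ⟨a, ha, rfl⟩ := cl_surj x
  rw [mem_cls hz, mem_zz, mem_Rad]
  constructor
  · rintro ⟨-, h2⟩ y
    obtain ⟨b, hb, rfl⟩ := cl_surj y
    rw [ff_cl_eq_zero]
    exact (h2 b hb).symm
  · intro h1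
    refine ⟨ha, fun w hw => ?_⟩
    have h2 := h1 (cl (sec h) w hw)
    rw [ff_cl_eq_zero] at h2
    exact h2.symm

/-- **the `HS`-shape is impossible** -/
theorem false_of_four {F : Type*} [Field F] [Finite F] [CharP F 2] {A S : Subgroup (XX (sec h))}
    {D : Subgroup (MM (sec h))} {c m : ℕ} {K : Subgroup (XX (sec h))}
    {e : K ≃* Matrix.SpecialLinearGroup (Fin 2) F}
    (hS : Sl (rho (sec h)) (ff (sec h)) (qq (sec h)) A S D (cl (sec h) q (h.V_le_ws hq)) c m K e)
    (hAK : ¬ A ≤ K) (hdd : Nat.card (dd V) = 2 ^ (m + 2)) (hws : Nat.card (ws V z) = 2 ^ (c + m + 3)) : False := by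
  obtain ⟨h4, rfl, s, hs0, -, hFs, hF1⟩ := SlTwo.main hS hAK
  have hSit : Sit (rho (sec h)) (ff (sec h)) (qq (sec h)) A S D (cl (sec h) q (h.V_le_ws hq)) m K e s :=
    { toSl := hS, four' := h4, s_ne := hs0, Fs := hFs, F1 := hF1 }
  have hm := hSit.m_eq
  have hz : z ∈ zz (ws V z) := by
    rw [mem_zz]
    exact ⟨h.V_le_ws h.z_mem, fun w hw => h.z_comm (h.ws_le_centralizer hw)⟩
  have hRad : Nat.card (Rad (form (sec h) h.z_ne)) = 2 := by
    exact hSit.card_Rad.trans (by rw [hm, pow_one])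
  have hmem : ∀ {a : G} (ha : a ∈ ws V z), cl (sec h) a ha ∈ Rad (form (sec h) h.z_ne) ↔ a ∈ zz (ws V z) := by
    intro a ha
    rw [← cls_zz h, mem_cls hz]
  obtain ⟨φ, hφ, hφA⟩ := SlPerm.exists_perm hS h4
  have hHS : GamNBase.HS T V z :=
    { toBTwo := h
      c64 := by rw [hws, hm]; norm_num
      c8 := by rw [hdd, hm]; norm_num
      c4 := by
        have h1 := card_cls (s := sec h) h.z_ne hz inf_le_left
        rw [cls_zz h, hRad] at h1
        omega
      nat := by
        refine ⟨φ.comp (imh (sec h)), ?_, ?_, ?_⟩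
        · intro g hg
          obtain ⟨x, rfl⟩ := hφA g hg
          obtain ⟨c, rfl⟩ := imh_surj x
          exact ⟨c, rfl⟩
        · intro c
          rw [MonoidHom.comp_apply, map_eq_one_iff φ hφ]
          exact im_eq_one_iff h c.2
        · intro c hc w hw hcw
          have h3 : orderOf (im (sec h) c c.2) = 3 := by
            refine orderOf_eq_prime ?_ ?_
            · apply hφ
              rw [map_one, ← hc.1]
              change φ ((imh (sec h) c) ^ 3) = _
              rw [pow_succ, pow_two, map_mul, map_mul]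
              rfl
            · intro h1
              apply hc.2
              change φ (im (sec h) c c.2) = 1
              rw [h1, map_one]
          rw [← hmem hw]
          refine hSit.fpf h3 ?_
          rw [rho_im, ← cl_inv, ← cl_mul]
          exact (hmem _).2 hcw
      three := fun g hg => Three.not_three h hg }
  exact hHS.false

end Cfsg.Agent.OddCyclic.BTwoLin.ConvHS
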