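import Cfsg.Agent.OddCyclic.PumpMain
import Cfsg.Agent.OddCyclic.T1Defs

/-!
# S0342, (E1), case `b = 2`: the abstract module situation

blueprints/S0342-Ba-helper208.md. `X = C_G(z)/C_{C_G(z)}(M)` acts faithfully on `M = V_1/⟨z⟩` (written multiplicatively),
`f`, `q` are the commutator form and the squaring map with values in `ZMod 2`, `l` is the image of `V`, `D` the image of
`V_1 ∩ V_2`, `A` the image of `C_{V_2}(V)`, `S` a Sylow 2-subgroup of `X`; `|A| = 2 ^ c`, `|D| = 2 ^ (m + 1)`,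
`|M| = 2 ^ (c + m + 2)`.
-/

set_option autoImplicit false

namespace Cfsg.Agent.OddCyclic.BTwoLin

open Cfsg.Agent.LieExceptional.CITDefs Cfsg.Agent.OddCyclic.T1Defs Cfsg.Agent.OddCyclic.PumpMain

/-- The form part: `f` is an `X`-invariant symmetric bilinear form, `q` an `X`-invariant quadratic form with polar form
`f`. -/
structure Form {X M : Type*} [Group X] [CommGroup M] (ρ : X →* MulAut M) (f : M → M → ZMod 2) (q : M → ZMod 2) :
    Prop where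
  sq : ∀ x : M, x * x = 1
  f_mul : ∀ x y w, f (x * y) w = f x w + f y w
  f_symm : ∀ x y, f x y = f y x
  q_mul : ∀ x y, q (x * y) = q x + q y + f x y
  f_inv : ∀ g x y, f (ρ g x) (ρ g y) = f x y
  q_inv : ∀ g x, q (ρ g x) = q x

/-- The abstract situation, `c` arbitrary. -/
structure Lin1 {X M : Type*} [Group X] [CommGroup M] (ρ : X →* MulAut M) (f : M → M → ZMod 2) (q : M → ZMod 2)
    (A S : Subgroup X) (D : Subgroup M) (l : M) (c m : ℕ) : Prop where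
  form : Form ρ f q
  faith : ∀ g : X, (∀ x, ρ g x = x) → g = 1
  cyc : OddCyc X
  comps : ∀ J : Subgroup X, IsQuasisimple J → KZero (J ⧸ Subgroup.center J)
  o2 : ∀ N : Subgroup X, N.Normal → IsPGroup 2 N → N = ⊥
  sylS : IsSyl2 ⊤ S
  A_le : A ≤ S
  A_norm : S ≤ Subgroup.normalizer (A : Set X)
  A_sq : ∀ a ∈ A, a * a = 1
  card_A : Nat.card A = 2 ^ c
  l_ne : l ≠ 1
  l_mem : l ∈ D
  /-- (f4) -/
  l_fix : ∀ g ∈ Subgroup.normalizer (S : Set X), ρ g l = l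
  /-- `M` is generated by the orbit of `l` -/
  gen : ∀ N : Subgroup M, (∀ g, ρ g l ∈ N) → N = ⊤
  D_perp : ∀ d ∈ D, f l d = 0
  D_q : ∀ d ∈ D, q d = 0
  D_norm : ∀ g ∈ S, ∀ d ∈ D, ρ g d ∈ D
  exists_not : ∃ x, f l x ≠ 0
  card_M : Nat.card M = 2 ^ (c + m + 2)
  card_D : Nat.card D = 2 ^ (m + 1)
  m_le : m ≤ c
  /-- (f1) -/
  out : ∀ x, f l x ≠ 0 → ∀ a ∈ A, ρ a x * x⁻¹ ∈ D → a = 1
  perp : ∀ x, f l x = 0 → ∀ a ∈ A, ρ a x * x⁻¹ ∈ D
  dfix : ∀ d ∈ D, ∀ a ∈ A, ρ a d = d ∨ ρ a d = l * d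
  dcen : ∀ d ∈ D, (∀ a ∈ A, ρ a d = d) → d = 1 ∨ d = l
  /-- (f2) -/
  rad_D : ∀ d ∈ D, (∀ x, f d x = 0) → d = 1
  rad_A : ∀ r, (∀ x, f r x = 0) → ∀ a ∈ A, ρ a r = r
  /-- (f3) -/
  three : ∀ g : X, orderOf g = 3 → ρ g l ≠ l

/-- The abstract situation, `c ≥ 2`. -/
structure Lin {X M : Type*} [Group X] [CommGroup M] (ρ : X →* MulAut M) (f : M → M → ZMod 2) (q : M → ZMod 2)
    (A S : Subgroup X) (D : Subgroup M) (l : M) (c m : ℕ) : Prop extends Lin1 ρ f q A S D l c m where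
  two_le : 2 ≤ c

end Cfsg.Agent.OddCyclic.BTwoLin
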