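import Cfsg.Agent.OddCyclic.BTwoLin.Flags
import Cfsg.Agent.LieClassical.PSLTwoSeven
import Cfsg.Agent.SmallSimple.S1000.PSLFacts

/-!
# `PSL₂(7) ≅ SL₃(2)`
-/

set_option autoImplicit false

namespace Cfsg.Agent.OddCyclic.BTwoLin

open Matrix

theorem center_S3 (g : S3) (hg : g ∈ Subgroup.center S3) : g = 1 := by
  rw [Matrix.SpecialLinearGroup.mem_center_iff] at hg
  obtain ⟨r, hr, h⟩ := hg
  have h1 : ∀ r : ZMod 2, r ^ 3 = 1 → r = 1 := by decide
  have h2 : r = 1 := h1 r hr
  apply Subtype.ext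
  rw [← h, h2]
  simp

theorem nonempty_psl_two_seven {F : Type*} [Field F] [Finite F] (hF : Nat.card F = 7) :
    Nonempty (ProjectiveSpecialLinearGroup (Fin 2) F ≃* S3) := by
  have : Fintype F := Fintype.ofFinite F
  rw [Nat.card_eq_fintype_card] at hF
  have hf : Fact (Nat.Prime 2) := ⟨Nat.prime_two⟩
  obtain ⟨f, hf⟩ := Cfsg.Agent.LieClassical.PSLTwoSeven.exists_injective (K := ZMod 2) hF (ZMod.card 2)
  -- the quotient by the trivial centre
  have hc : Subgroup.center S3 = ⊥ := (Subgroup.eq_bot_iff_forall _).2 center_S3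
  let q : S3 ≃* ProjectiveSpecialLinearGroup (Fin 3) (ZMod 2) :=
    MulEquiv.ofBijective (QuotientGroup.mk' (Subgroup.center S3))
      ⟨by rw [← MonoidHom.ker_eq_bot_iff, QuotientGroup.ker_mk', hc], QuotientGroup.mk'_surjective _⟩
  let φ : ProjectiveSpecialLinearGroup (Fin 2) F →* S3 := q.symm.toMonoidHom.comp f
  have hφ : Function.Injective φ := q.symm.injective.comp hf
  have hcard : Nat.card (ProjectiveSpecialLinearGroup (Fin 2) F) = Nat.card S3 := by
    rw [card_S3, Cfsg.Agent.SmallSimple.PSLFacts.card_psl_two_seven hF]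
  have hb : Function.Bijective φ := (Nat.bijective_iff_injective_and_card φ).2 ⟨hφ, hcard⟩
  exact ⟨MulEquiv.ofBijective φ hb⟩

end Cfsg.Agent.OddCyclic.BTwoLin
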