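import Cfsg.Agent.OddCyclic.BTwoLin.FitAdd
import Cfsg.Agent.OddCyclic.BTwoLin.SevenIso
import Cfsg.Agent.OddCyclic.CompPslTwo
import Cfsg.Agent.OddCyclic.CompSL2Tools

/-!
# Section 3 of blueprints/S0342-Ba-helper208.md: `X` has no normal subgroup `L₂(7)` with trivial centralizer
-/

set_option autoImplicit false

namespace Cfsg.Agent.OddCyclic.BTwoLin

open Subgroup Cfsg Cfsg.Agent.OddCyclic.T1Defs Cfsg.Agent.LieExceptional.CITDefs Cfsg.Agent.OddCyclic.PumpMain
open Cfsg.Agent.OddCyclic.CompPsl Cfsg.Agent.OddCyclic.PGLTorus Cfsg.Agent.OddCyclic.CompStandard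

variable {X M : Type*} [Group X] [CommGroup M]

variable {ρ : X →* MulAut M} {f : M → M → ZMod 2} {q : M → ZMod 2} {A S : Subgroup X} {D : Subgroup M} {l : M}
  {c m : ℕ}

section norm

variable {K : Subgroup X} [K.Normal]

theorem mem_of_inn (hK : centralizer (K : Set X) = ⊥) {x : X}
    (hx : (MulAut.conjNormal x : MulAut K) ∈ (MulAut.conj : K →* MulAut K).range) : x ∈ K := by
  obtain ⟨k, hk⟩ := hx
  have h1 : (k : X)⁻¹ * x ∈ centralizer (K : Set X) := by
    rw [mem_centralizer_iff]
    intro y hy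
    have h2 := congrArg (fun α : MulAut K => ((α ⟨y, hy⟩ : K) : X)) hk
    have h3 : (k : X) * y * (k : X)⁻¹ = x * y * x⁻¹ := by simpa [MulAut.conjNormal_apply] using h2
    calc y * ((k : X)⁻¹ * x) = (k : X)⁻¹ * ((k : X) * y * (k : X)⁻¹) * x := by group
      _ = (k : X)⁻¹ * (x * y * x⁻¹) * x := by rw [h3]
      _ = (k : X)⁻¹ * x * y := by group
  rw [hK, mem_bot] at h1
  have h2 : x = k := by
    have := congrArg (fun z => (k : X) * z) h1
    simpa using this
  rw [h2]
  exact k.2

theorem inn_of_mem {x : X} (hx : x ∈ K) :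
    (MulAut.conjNormal x : MulAut K) ∈ (MulAut.conj : K →* MulAut K).range := by
  refine ⟨⟨x, hx⟩, ?_⟩
  ext y
  simp [MulAut.conjNormal_apply]

variable {F : Type*} [Field F] [Finite F]

theorem mul_mem_of_not (E : Data K F) (hK : centralizer (K : Set X) = ⊥) {x y : X} (hx : x ∉ K) (hy : y ∉ K) :
    x * y ∈ K := by
  apply mem_of_inn hK
  rw [map_mul]
  exact mul_mem_inn E.R (E.mem_PGL _) (E.mem_PGL _) (fun h => hx (mem_of_inn hK h)) (fun h => hy (mem_of_inn hK h))

end norm

theorem bit_ne : ¬ ((0 : ZMod 2) + 0 + 1 * 1 = 0) := by decide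

/-- **Section 3**: no normal subgroup `L₂(7)` with trivial centralizer -/
theorem Lin.false_of_seven [Finite X] [Finite M] (h : Lin ρ f q A S D l c m) {K : Subgroup X} (hKn : K.Normal)
    (hK : centralizer (K : Set X) = ⊥) {F : Type*} [Field F] [Finite F] (hF : Nat.card F = 7)
    (e : K ≃* Matrix.ProjectiveSpecialLinearGroup (Fin 2) F) : False := by
  classical
  have : Fact (Nat.Prime 2) := ⟨Nat.prime_two⟩
  have E : Data K F := ⟨e, by rw [hF]; norm_num, by rw [hF]; norm_num⟩
  obtain ⟨e₁⟩ := nonempty_psl_two_seven hF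
  have e₂ : K ≃* S3 := e.trans e₁
  have hcardK : Nat.card K = 168 := by rw [Nat.card_congr e₂.toEquiv, card_S3]
  -- `T₀ = S ∩ K`
  set T₀ := S ⊓ K with hT₀
  have hsyl : IsSyl2 K T₀ := isSyl2_inf h.sylS le_top (fun d _ w hw => hKn.conj_mem w hw d)
  have hcT₀ : Nat.card T₀ = 8 := by
    have := CompSL2Amb.card_isSyl2 hsyl (a := 3) (b := 21) (by rw [hcardK]; norm_num) (by decide)
    rw [this]; norm_num
  have hAcomm : ∀ a ∈ A, ∀ b ∈ A, a * b = b * a := by
    intro a ha b hb
    have h1 := h.A_sq _ (mul_mem ha hb)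
    have e1 : a⁻¹ = a := inv_eq_of_mul_eq_one_left (h.A_sq a ha)
    have e2 : b⁻¹ = b := inv_eq_of_mul_eq_one_left (h.A_sq b hb)
    have e3 : (a * b)⁻¹ = a * b := inv_eq_of_mul_eq_one_left h1
    rw [mul_inv_rev, e1, e2] at e3
    exact e3.symm
  have hAn : ∀ s ∈ S, ∀ a ∈ A, s * a * s⁻¹ ∈ A := fun s hs a ha => (mem_normalizer_iff.1 (h.A_norm hs) a).1 ha
  -- `A ≤ K`
  have hAK : A ≤ K := by
    intro a ha
    by_contra haK
    have hni : (MulAut.conjNormal a : MulAut K) ∉ (MulAut.conj : K →* MulAut K).range :=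
      fun h1 => haK (mem_of_inn hK h1)
    have hne : (MulAut.conjNormal a : MulAut K) ≠ 1 := fun h1 => hni (by rw [h1]; exact one_mem _)
    have hsq : (MulAut.conjNormal a : MulAut K) * MulAut.conjNormal a = 1 := by
      rw [← map_mul, h.A_sq a ha, map_one]
    obtain ⟨γ, hγ, hγe⟩ := E.exists_gl_of_sq hne hsq
    set Q := T₀ ⊓ centralizer ({a} : Set X) with hQ
    have hQc : Nat.card Q ≤ 2 := by
      have h2 : Nat.card (Q.subgroupOf K) = Nat.card Q :=
        Nat.card_congr (subgroupOfEquivOfLe (inf_le_left.trans inf_le_right)).toEquiv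
      rw [← h2]
      refine card_fix_le_two E hγ (by rw [hγe]; exact hni) ?_ ?_
      · exact (hsyl.two.to_le inf_le_left).comap_of_injective K.subtype K.subtype_injective
      · intro y hy
        rw [hγe]
        apply Subtype.ext
        rw [MulAut.conjNormal_apply]
        have h3 := mem_centralizer_singleton_iff.1 (mem_subgroupOf.1 hy).2
        rw [← h3, mul_inv_cancel_right]
    have hA₀ : Nat.card (A ⊓ K : Subgroup X) ≤ 2 := by
      refine (Subgroup.card_le_of_le ?_).trans hQc
      rintro b ⟨hb, hbK⟩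
      exact ⟨⟨h.A_le hb, hbK⟩, mem_centralizer_singleton_iff.2 (hAcomm b hb a ha)⟩
    -- commutators
    let φ : T₀ → (A ⊓ K : Subgroup X) := fun t => ⟨t * a * (t : X)⁻¹ * a⁻¹,
      A.mul_mem (hAn t t.2.1 a ha) (A.inv_mem ha), by
        have h3 : (t : X) * a * (t : X)⁻¹ * a⁻¹ = t * (a * (t : X)⁻¹ * a⁻¹) := by group
        rw [h3]
        exact K.mul_mem t.2.2 (hKn.conj_mem _ (K.inv_mem t.2.2) a)⟩
    have hφ : ∀ s t : T₀, φ s = φ t → s⁻¹ * t ∈ Q.subgroupOf T₀ := by
      intro s t hst
      have h3 : (s : X) * a * (s : X)⁻¹ * a⁻¹ = t * a * (t : X)⁻¹ * a⁻¹ := congrArg Subtype.val hst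
      have h4 : (s : X) * a * (s : X)⁻¹ = t * a * (t : X)⁻¹ := mul_right_cancel h3
      rw [mem_subgroupOf]
      refine ⟨(s⁻¹ * t).2, mem_centralizer_singleton_iff.2 ?_⟩
      change (s : X)⁻¹ * t * a = a * ((s : X)⁻¹ * t)
      calc (s : X)⁻¹ * t * a = (s : X)⁻¹ * (t * a * (t : X)⁻¹) * t := by group
        _ = (s : X)⁻¹ * (s * a * (s : X)⁻¹) * t := by rw [h4]
        _ = a * ((s : X)⁻¹ * t) := by group
    have hidx : (Q.subgroupOf T₀).index ≤ 2 := by
      rw [Subgroup.index_eq_card]
      refine le_trans ?_ hA₀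
      refine Nat.card_le_card_of_injective (fun x : T₀ ⧸ Q.subgroupOf T₀ => φ x.out) ?_
      intro x y hxy
      have h3 := hφ _ _ hxy
      rw [← QuotientGroup.eq, QuotientGroup.out_eq', QuotientGroup.out_eq'] at h3
      exact h3
    have h5 := (Q.subgroupOf T₀).card_mul_index
    have h6 : Nat.card (Q.subgroupOf T₀) = Nat.card Q := Nat.card_congr (subgroupOfEquivOfLe inf_le_left).toEquiv
    rw [h6, hcT₀] at h5
    have h7 : Nat.card Q * (Q.subgroupOf T₀).index ≤ 2 * 2 := Nat.mul_le_mul hQc hidx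
    omega
  have hAT : A ≤ T₀ := fun a ha => ⟨h.A_le ha, hAK ha⟩
  -- transport to `K`
  have hAK' : Nat.card (A.subgroupOf K) = Nat.card A := Nat.card_congr (subgroupOfEquivOfLe hAK).toEquiv
  have hTK' : Nat.card (T₀.subgroupOf K) = 8 := by
    rw [Nat.card_congr (subgroupOfEquivOfLe (inf_le_right : T₀ ≤ K)).toEquiv, hcT₀]
  -- `|A| = 4`
  have hA4 : Nat.card A = 4 := by
    have h1 : Nat.card A ∣ 8 := by rw [← hcT₀]; exact Subgroup.card_dvd_of_le hAT
    have h2 := h.four
    have h3 : Nat.card A = 4 ∨ Nat.card A = 8 := by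
      have h4 := Nat.le_of_dvd (by norm_num) h1
      interval_cases (Nat.card A) <;> omega
    rcases h3 with h4 | h4
    · exact h4
    · exfalso
      have h5 : A = T₀ := Subgroup.eq_of_le_of_card_ge hAT (by rw [h4, hcT₀])
      obtain ⟨e', he'⟩ := exists_equiv_us e₂ hTK'
      have h6 : ∀ g : S3, IsUp g → g * g = 1 := by
        intro g hg
        have h7 : e'.symm g ∈ T₀.subgroupOf K := by rw [he', e'.apply_symm_apply]; exact hg
        rw [mem_subgroupOf, ← h5] at h7
        have h8 : (e'.symm g) * (e'.symm g) = 1 := Subtype.ext (h.A_sq _ h7)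
        have h9 := congrArg e' h8
        rwa [map_mul, map_one, e'.apply_symm_apply] at h9
      have h7 := h6 (up 1 0 1) (isUp_up _ _ _)
      rw [up_mul, ← up_zero] at h7
      have h8 := (up_inj h7).2.1
      exact bit_ne h8
  have hc : c = 2 := by
    have h1 := h.card_A
    rw [hA4, show 4 = 2 ^ 2 by norm_num] at h1
    exact (Nat.pow_right_injective le_rfl h1).symm
  -- the orbit
  have horb : ∀ x : X, ∃ k ∈ K, ρ x l = ρ k l := by
    intro x
    by_cases hx : x ∈ K
    · exact ⟨x, hx, rfl⟩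
    · obtain ⟨s, hs, hsK⟩ : ∃ s ∈ S, s ∉ K := by
        by_contra hcon
        push Not at hcon
        have h1 : K.index = 2 := by
          rw [Subgroup.index_eq_two_iff]
          refine ⟨x, fun b => ?_⟩
          by_cases hb : b ∈ K
          · right
            exact ⟨hb, fun h3 => hx ((Subgroup.mul_mem_cancel_left K hb).1 h3)⟩
          · left
            exact ⟨mul_mem_of_not E hK hb hx, hb⟩
        have h2 : Nat.card (⊤ : Subgroup X) = 2 ^ 4 * 21 := by
          rw [Subgroup.card_top, ← Subgroup.card_mul_index K, h1, hcardK]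
          norm_num
        have h3 := CompSL2Amb.card_isSyl2 h.sylS h2 (by decide)
        have h4 : T₀ = S := inf_eq_left.2 hcon
        rw [← h4, hcT₀] at h3
        norm_num at h3
      refine ⟨x * s⁻¹, mul_mem_of_not E hK hx (fun h1 => hsK (by simpa using inv_mem h1)), ?_⟩
      have h1 : ρ s l = l := h.l_fix s (le_normalizer hs)
      conv_lhs => rw [show x = x * s⁻¹ * s by group, map_mul, MulAut.mul_apply, h1]
  have hneK : ∃ g : K, f l (ρ g l) ≠ 0 := by
    by_contra hcon
    push Not at hcon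
    obtain ⟨x, hx⟩ := h.exists_not
    apply hx
    let N : Subgroup M :=
      { carrier := {v | f l v = 0}
        one_mem' := by
          change f l 1 = 0
          rw [h.form.f_symm, h.toLin1.f_one_left]
        mul_mem' := fun {a b} ha hb => by
          change f l (a * b) = 0
          rw [h.form.f_symm, h.form.f_mul, h.form.f_symm a, h.form.f_symm b, show f l a = 0 from ha,
            show f l b = 0 from hb, add_zero]
        inv_mem' := fun {a} ha => by
          change f l a⁻¹ = 0
          rw [h.toLin1.inv_eq]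
          exact ha }
    have h1 := h.gen N fun g => by
      obtain ⟨k, hk, hgk⟩ := horb g
      change f l (ρ g l) = 0
      rw [hgk]
      exact hcon ⟨k, hk⟩
    have h2 : x ∈ N := by rw [h1]; trivial
    exact h2
  -- the count
  let _ : DistribMulAction K (Additive M) := act (ρ.comp K.subtype)
  have hbig : 2 ^ 8 ≤ Nat.card (Additive M) := by
    refine card_ge_of_sl3 (Γ := K) e₂ (M := Additive M) (fun x => h.form.sq x.toMul)
      (fun x y => f x.toMul y.toMul) ?_ (fun x y => h.form.f_symm _ _) (fun g x y => h.form.f_inv _ _ _)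
      (Additive.ofMul l) hTK' ?_ (A := A.subgroupOf K) ?_ (by rw [hAK', hA4]) ?_ ?_ ?_
    · intro w x y
      change f w.toMul (x.toMul * y.toMul) = _
      rw [h.form.f_symm, h.form.f_mul, h.form.f_symm _ w.toMul, h.form.f_symm _ w.toMul]
    · intro t ht
      exact h.l_fix _ (le_normalizer (mem_subgroupOf.1 ht).1)
    · intro a ha
      rw [mem_subgroupOf] at ha ⊢
      exact hAT ha
    · intro a ha
      exact Subtype.ext (h.A_sq _ (mem_subgroupOf.1 ha))
    · intro a ha ha1 x hx
      change f x.toMul l = 0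
      rw [h.form.f_symm]
      by_contra hne
      apply ha1
      apply Subtype.ext
      refine h.out _ hne _ (mem_subgroupOf.1 ha) ?_
      have h1 : ρ (a : X) x.toMul = x.toMul := hx
      rw [h1, mul_inv_cancel]
      exact one_mem _
    · obtain ⟨g, hg⟩ := hneK
      exact ⟨g, hg⟩
  have hM : Nat.card (Additive M) = Nat.card M := rfl
  rw [hM, h.card_M, hc] at hbig
  have h1 := (Nat.pow_le_pow_iff_right (by norm_num)).1 hbig
  have h2 := h.m_le
  omega

end Cfsg.Agent.OddCyclic.BTwoLin
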