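import Cfsg.Agent.OddCyclic.BTwoLin.Build
import Cfsg.Agent.OddCyclic.BTwoLin.CaseOne
import Cfsg.Agent.OddCyclic.BTwoOne

/-!
# (E1), `b = 2`: reduction to `c ≥ 2`

`main`: in the situation `BTwo T V z` either `G` has 2-rank at most two, or a normal subgroup of index two, or the
abstract situation `Lin` (with `c ≥ 2`) occurs.
-/

set_option autoImplicit false
set_option linter.dupNamespace false

namespace Cfsg.Agent.OddCyclic.BTwoLin.ResultOne

open Subgroup Cfsg Cfsg.Agent.ZN Cfsg.Agent.MinSimple.Geo Cfsg.Agent.OddCyclic.GeoC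
  Cfsg.Agent.OddCyclic.BTwoA Cfsg.Agent.OddCyclic.BTwoB Cfsg.Agent.OddCyclic.BTwoC
  Cfsg.Agent.OddCyclic.BTwoD Cfsg.Agent.OddCyclic.BTwoK
open Cfsg.Agent.OddCyclic.BTwoLin Cfsg.Agent.OddCyclic.BTwoLin.Rep Cfsg.Agent.OddCyclic.BTwoLin.Build

universe u

variable {G : Type u} [Group G] [Finite G] {T V : Subgroup G} {z : G}

theorem main (h : BTwo T V z) (hK : KZeroCongr.KS G) :
    (PRankLE 2 2 G ∨ ∃ M : Subgroup G, M.Normal ∧ M.index = 2) ∨
      ∃ q, ∃ hq : q ∈ V, ∃ c m : ℕ, q ≠ 1 ∧ q ≠ z ∧ Nat.card (dd V) = 2 ^ (m + 2) ∧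
        Nat.card (us V z) = 2 ^ c * Nat.card (dd V) ∧ Nat.card (ws V z) = 2 ^ (c + m + 3) ∧
        Lin (rho (sec h)) (ff (sec h)) (qq (sec h)) (ims (sec h) (us V q)) (ims (sec h) T) (cls (sec h) (dd V))
          (cl (sec h) q (h.V_le_ws hq)) c m := by
  obtain ⟨c, m, hc, hm, hdd, hus, hws⟩ := cards h
  obtain ⟨q, hq, hq1, hqz⟩ := h.exists_y
  have hl := lin1 h hK hq hq1 hqz hm hdd hus
  rcases Nat.lt_or_ge 1 c with hc2 | hc1
  · exact Or.inr ⟨q, hq, c, m, hq1, hqz, hdd, hus, hws, hl, hc2⟩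
  · left
    have hc1' : c = 1 := le_antisymm hc1 hc
    subst hc1'
    have hm0 : m = 0 := by
      by_contra hm0
      have hm1 : m = 1 := by omega
      subst hm1
      exact CaseOne.false_of_one_one hl
    subst hm0
    have hle : V ≤ dd V := h.V_le_dd
    have h1 : dd V = V := by
      symm
      refine SetLike.coe_injective (Set.eq_of_subset_of_ncard_le hle ?_ (Set.toFinite _))
      have h3 : (V : Set G).ncard = Nat.card V := rfl
      have h4 : (dd V : Set G).ncard = Nat.card (dd V) := rfl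
      rw [h3, h4, h.card_V, hdd]
      norm_num
    refine BTwoOne.main h ?_ h1.le
    have h5 := Block.card_mul_relIndex' (h.dd_le_us h.z_mem h.z_ne)
    rw [hus, pow_one, mul_comm] at h5
    exact Nat.eq_of_mul_eq_mul_right Nat.card_pos h5

end Cfsg.Agent.OddCyclic.BTwoLin.ResultOne
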