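import Cfsg.Agent.OddCyclic.FFMain
import Cfsg.Agent.OddCyclic.FFSec
import Cfsg.Agent.OddCyclic.CaseESz
import Cfsg.Agent.Lib.Zsigmondy

/-!
# Section 2 of blueprints/S0342-Ba-helper208.md: general tools

* `card_inv`: `y` of prime order `r`, `r` a primitive prime divisor of `2 ^ k - 1`: `y`-invariant subgroups of `[V, y]`
  have order `2 ^ d`, `k ∣ d`;
* `all_of_one`: kernels of actions on sections, for simple groups;
* `card_faithful`: elementary abelian 2-groups acting faithfully on a simple group in `KZero`;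
* `exists_sz`, `exists_sl2`: elements of primitive prime order.
-/

set_option autoImplicit false
set_option linter.unusedSectionVars false

namespace Cfsg.Agent.OddCyclic.BTwoLin.SocleGen

open Subgroup Cfsg.Agent.OddCyclic.T1Module Cfsg.Agent.OddCyclic.T1Defs Cfsg.Agent.LieExceptional.CITDefs
  Cfsg.Agent.OddCyclic.PumpMain Cfsg.Agent.OddCyclic.FFBasic Cfsg.Agent.OddCyclic.FFStruct
  Cfsg.Agent.OddCyclic.FFRed Cfsg.Agent.OddCyclic.FFSl2

/-- `r` is an odd prime, dividing `2 ^ d - 1` exactly for the multiples `d` of `k` -/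
structure Prim (r k : ℕ) : Prop where
  prime : r.Prime
  ne_two : r ≠ 2
  iff : ∀ d, r ∣ 2 ^ d - 1 ↔ k ∣ d

theorem exists_prim {k : ℕ} (hk : 7 ≤ k) : ∃ r, Prim r k := by
  obtain ⟨r, hr, h1, -, h3⟩ := Lib.Zsigmondy.exists_primitive (a := 2) (n := k) le_rfl (by omega)
    (fun h => by omega) (fun h => by omega)
  exact ⟨r, hr, fun h => h3 (by rw [h]), h1⟩

section module

variable {X V : Type*} [Group X] [CommGroup V] {ρ : X →* MulAut V}

theorem ne_one_of_orderOf {r k : ℕ} (h : Prim r k) {y : X} (hy : orderOf y = r) : y ≠ 1 := by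
  rintro rfl
  rw [orderOf_one] at hy
  exact h.prime.one_lt.ne hy

theorem odd_of_orderOf {r k : ℕ} (h : Prim r k) {y : X} (hy : orderOf y = r) : Odd (orderOf y) := by
  rw [hy]; exact h.prime.odd_of_ne_two h.ne_two

/-- `y`-invariant subgroups of `[V, y]` -/
theorem card_inv [Finite V] (hV : ∀ v : V, v * v = 1) {r k : ℕ} (h : Prim r k) {y : X} (hy : orderOf y = r)
    {W : Subgroup V} (hW : W ≤ (cm ρ y).range) (hst : ∀ w ∈ W, ρ y w ∈ W) : ∃ d, Nat.card W = 2 ^ d ∧ k ∣ d := by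
  have hfin : Finite (Subgroup.zpowers y) :=
    Nat.finite_of_card_ne_zero (by rw [Nat.card_zpowers, hy]; exact h.prime.ne_zero)
  have : Fact (Nat.Prime 2) := ⟨Nat.prime_two⟩
  obtain ⟨d, hd⟩ := (IsPGroup.iff_card (p := 2)).1 ((isPGroup_two hV).to_subgroup W)
  refine ⟨d, hd, (h.iff d).1 ?_⟩
  have hodd : Odd (orderOf y) := odd_of_orderOf h hy
  have hstn : ∀ n : ℕ, ∀ w ∈ W, ρ (y ^ n) w ∈ W := by
    intro n
    induction n with
    | zero => intro w hw; rw [pow_zero, map_one]; exact hw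
    | succ n ih => intro w hw; rw [pow_succ, map_mul, MulAut.mul_apply]; exact ih _ (hst w hw)
  have h1 := card_dvd_sub_one (K := V) (D := Subgroup.zpowers y)
    (ρ.comp (Subgroup.zpowers y).subtype) W ?_ ?_
  · rwa [Nat.card_zpowers, hy, hd] at h1
  · rintro ⟨z, hz⟩ c hc
    have hfo : IsOfFinOrder y := orderOf_pos_iff.1 (by rw [hy]; exact h.prime.pos)
    obtain ⟨n, hn⟩ := hfo.mem_powers_iff_mem_zpowers.2 hz
    change ρ z c ∈ W
    rw [← show y ^ n = z from hn]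
    exact hstn n c hc
  · rintro ⟨z, hz⟩ c hc hc1 hfix
    by_contra hne
    have hz1 : z ≠ 1 := fun h => hne (Subtype.ext h)
    have hzo : orderOf z = r := by
      have h2 : orderOf z ∣ r := by rw [← hy]; exact orderOf_dvd_of_mem_zpowers hz
      rcases (Nat.dvd_prime h.prime).1 h2 with h3 | h3
      · exact absurd (orderOf_eq_one_iff.1 h3) hz1
      · exact h3
    have hyz : y ∈ Subgroup.zpowers z := by
      have h2 : Subgroup.zpowers z ≤ Subgroup.zpowers y := by rwa [Subgroup.zpowers_le]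
      have h3 : Subgroup.zpowers z = Subgroup.zpowers y :=
        Subgroup.eq_of_le_of_card_ge h2 (by rw [Nat.card_zpowers, Nat.card_zpowers, hzo, hy])
      rw [h3]; exact Subgroup.mem_zpowers y
    apply hc1
    apply eq_one_of_fix hV hodd (hW hc)
    have h4 : c ∈ fx ρ z := hfix
    obtain ⟨n, rfl⟩ := hyz
    exact FFPsl.fx_zpow ρ h4 n

/-- `y`-invariant subgroups of order less than `2 ^ k` are centralised -/
theorem fix_of_card_lt [Finite V] (hV : ∀ v : V, v * v = 1) {r k : ℕ} (h : Prim r k) {y : X} (hy : orderOf y = r)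
    {W : Subgroup V} (hst : ∀ w ∈ W, ρ y w ∈ W) (hlt : Nat.card W < 2 ^ k) : ∀ w ∈ W, ρ y w = w := by
  have h1 : W.map (cm ρ y) ≤ (cm ρ y).range := Subgroup.map_le_range _ _
  have h2 : ∀ w ∈ W.map (cm ρ y), ρ y w ∈ W.map (cm ρ y) := by
    rintro _ ⟨w, hw, rfl⟩
    refine ⟨ρ y w, hst w hw, ?_⟩
    rw [cm_apply, cm_apply, map_mul, map_inv]
  obtain ⟨d, hd, hkd⟩ := card_inv hV h hy h1 h2
  have h3 : Nat.card (W.map (cm ρ y)) ≤ Nat.card W := by
    refine Nat.card_le_card_of_surjective (fun w : W => (⟨cm ρ y w, w, w.2, rfl⟩ : W.map (cm ρ y))) ?_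
    rintro ⟨_, w, hw, rfl⟩
    exact ⟨⟨w, hw⟩, rfl⟩
  have h4 : d < k := by
    rw [hd] at h3
    exact (Nat.pow_lt_pow_iff_right (by norm_num)).1 (h3.trans_lt hlt)
  have h5 : d = 0 := Nat.eq_zero_of_dvd_of_lt hkd h4
  rw [h5, pow_zero, Subgroup.card_eq_one] at hd
  intro w hw
  have h6 : cm ρ y w ∈ W.map (cm ρ y) := ⟨w, hw, rfl⟩
  rw [hd, Subgroup.mem_bot, cm_apply, mul_inv_eq_one] at h6
  exact h6

/-- if `y` acts nontrivially on `W` then `|[W, y]| = 2 ^ d`, `0 < d`, `k ∣ d` -/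
theorem card_comm [Finite V] (hV : ∀ v : V, v * v = 1) {r k : ℕ} (h : Prim r k) {y : X} (hy : orderOf y = r)
    {W : Subgroup V} (hst : ∀ w ∈ W, ρ y w ∈ W) (hne : ∃ w ∈ W, ρ y w ≠ w) :
    ∃ d, 0 < d ∧ Nat.card (W.map (cm ρ y)) = 2 ^ d ∧ k ∣ d := by
  have h2 : ∀ w ∈ W.map (cm ρ y), ρ y w ∈ W.map (cm ρ y) := by
    rintro _ ⟨w, hw, rfl⟩
    refine ⟨ρ y w, hst w hw, ?_⟩
    rw [cm_apply, cm_apply, map_mul, map_inv]
  obtain ⟨d, hd, hkd⟩ := card_inv hV h hy (Subgroup.map_le_range _ _) h2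
  refine ⟨d, Nat.pos_of_ne_zero ?_, hd, hkd⟩
  rintro rfl
  rw [pow_zero, Subgroup.card_eq_one] at hd
  obtain ⟨w, hw, hw1⟩ := hne
  apply hw1
  have h6 : cm ρ y w ∈ W.map (cm ρ y) := ⟨w, hw, rfl⟩
  rw [hd, Subgroup.mem_bot, cm_apply, mul_inv_eq_one] at h6
  exact h6

theorem card_range [Finite V] (hV : ∀ v : V, v * v = 1) {r k : ℕ} (h : Prim r k) {y : X} (hy : orderOf y = r)
    (hne : ∃ w, ρ y w ≠ w) : ∃ d, 0 < d ∧ Nat.card (cm ρ y).range = 2 ^ d ∧ k ∣ d := by
  obtain ⟨w, hw⟩ := hne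
  have h1 := card_comm hV h hy (W := ⊤) (fun _ _ => Subgroup.mem_top _) ⟨w, Subgroup.mem_top _, hw⟩
  rwa [← MonoidHom.range_eq_map] at h1

theorem card_mul_le [Finite V] {A B C : Subgroup V} (hA : A ≤ C) (hB : B ≤ C) (h : ∀ v ∈ A, v ∈ B → v = 1) :
    Nat.card A * Nat.card B ≤ Nat.card C := by
  rw [← Nat.card_prod]
  apply Nat.card_le_card_of_injective (fun p : A × B => (⟨p.1 * p.2, mul_mem (hA p.1.2) (hB p.2.2)⟩ : C))
  rintro ⟨⟨c, hc⟩, ⟨d, hd⟩⟩ ⟨⟨c', hc'⟩, ⟨d', hd'⟩⟩ he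
  have he' : c * d = c' * d' := congrArg Subtype.val he
  have h6 : c'⁻¹ * c = d' * d⁻¹ := by
    rw [inv_mul_eq_iff_eq_mul, ← mul_assoc, ← he', mul_inv_cancel_right]
  have h7 := h _ (mul_mem (inv_mem hc') hc) (by rw [h6]; exact mul_mem hd' (inv_mem hd))
  have h8 : c = c' := by rw [inv_mul_eq_one] at h7; exact h7.symm
  have h9 : d = d' := by rw [h8] at he'; exact mul_left_cancel he'
  subst h8 h9; rfl

/-- `V = [V, y] × C_V(y)` -/
theorem eq_of_fix [Finite V] (hV : ∀ v : V, v * v = 1) {y : X} (hy : Odd (orderOf y)) {C : Subgroup V}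
    (h1 : (cm ρ y).range ≤ C) (h2 : fx ρ y ≤ C) : C = ⊤ := by
  have h3 := card_mul_le h1 h2 (fun v hv hf => eq_one_of_fix hV hy hv hf)
  have h4 := (fx ρ y).card_mul_index
  rw [← card_range_cm, mul_comm] at h4
  rw [h4] at h3
  exact Subgroup.eq_top_of_le_card _ h3

/-- kernels on sections are normal -/
theorem all_of_one {J : Subgroup X} (hs : IsSimpleGroup J) {W W' : Subgroup V}
    (hW : ∀ g ∈ J, ∀ w ∈ W, ρ g w ∈ W) (hW' : ∀ g ∈ J, ∀ w ∈ W', ρ g w ∈ W') {y : X} (hyJ : y ∈ J) (hy1 : y ≠ 1)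
    (h : ∀ w ∈ W, ρ y w * w⁻¹ ∈ W') : ∀ g ∈ J, ∀ w ∈ W, ρ g w * w⁻¹ ∈ W' := by
  have hmul : ∀ a b : X, ∀ w : V, ρ (a * b) w * w⁻¹ = ρ a (ρ b w * w⁻¹) * (ρ a w * w⁻¹) := by
    intro a b w
    rw [map_mul, MulAut.mul_apply, map_mul, map_inv]
    group
  let K : Subgroup J :=
    { carrier := {g | ∀ w ∈ W, ρ (g : X) w * w⁻¹ ∈ W'}
      mul_mem' := fun {a b} ha hb w hw => by
        change ρ ((a : X) * b) w * w⁻¹ ∈ W'
        rw [hmul]
        exact mul_mem (hW' a a.2 _ (hb w hw)) (ha w hw)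
      one_mem' := fun w _ => by
        change ρ 1 w * w⁻¹ ∈ W'
        rw [map_one, MulAut.one_apply, mul_inv_cancel]
        exact one_mem _
      inv_mem' := fun {a} ha w hw => by
        change ρ (a : X)⁻¹ w * w⁻¹ ∈ W'
        have h1 := hmul (a : X)⁻¹ a w
        rw [inv_mul_cancel, map_one, MulAut.one_apply, mul_inv_cancel] at h1
        have h2 : ρ (a : X)⁻¹ w * w⁻¹ = (ρ (a : X)⁻¹ (ρ (a : X) w * w⁻¹))⁻¹ :=
          eq_inv_of_mul_eq_one_right h1.symm
        rw [h2]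
        exact inv_mem (hW' _ (inv_mem a.2) _ (ha w hw)) }
  have hK : K.Normal := by
    refine ⟨fun a ha g w hw => ?_⟩
    change ρ ((g : X) * a * (g : X)⁻¹) w * w⁻¹ ∈ W'
    have h1 : ρ ((g : X) * a * (g : X)⁻¹) w * w⁻¹ = ρ (g : X) (ρ (a : X) (ρ (g : X)⁻¹ w) * (ρ (g : X)⁻¹ w)⁻¹) := by
      rw [map_mul (ρ (g : X)), map_inv (ρ (g : X)), ← MulAut.mul_apply, ← MulAut.mul_apply, ← MulAut.mul_apply,
        ← map_mul, ← map_mul, ← map_mul, mul_inv_cancel, map_one, MulAut.one_apply, mul_assoc]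
    rw [h1]
    exact hW' _ g.2 _ (ha _ (hW _ (inv_mem g.2) _ hw))
  rcases hs.eq_bot_or_eq_top_of_normal K hK with h1 | h1
  · exfalso
    have h2 : (⟨y, hyJ⟩ : J) ∈ K := h
    rw [h1, Subgroup.mem_bot] at h2
    exact hy1 (congrArg Subtype.val h2)
  · intro g hg
    have h2 : (⟨g, hg⟩ : J) ∈ K := by rw [h1]; trivial
    exact h2

/-- kernels are normal -/
theorem fix_of_one {J : Subgroup X} (hs : IsSimpleGroup J) {W : Subgroup V}
    (hW : ∀ g ∈ J, ∀ w ∈ W, ρ g w ∈ W) {y : X} (hyJ : y ∈ J) (hy1 : y ≠ 1)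
    (h : ∀ w ∈ W, ρ y w = w) : ∀ g ∈ J, ∀ w ∈ W, ρ g w = w := by
  intro g hg w hw
  have h1 := all_of_one hs (W' := ⊥) hW (fun g _ w hw => by
    rw [Subgroup.mem_bot] at hw ⊢; rw [hw, map_one]) hyJ hy1 (fun w hw => by
    rw [h w hw, mul_inv_cancel]; exact one_mem _) g hg w hw
  rw [Subgroup.mem_bot, mul_inv_eq_one] at h1
  exact h1

/-- a 2-element of order dividing 2 commuting with `y` of primitive order: `[V, y]` of order `2 ^ k` is centralised -/
theorem fix_range [Finite V] (hV : ∀ v : V, v * v = 1) {r k : ℕ} (h : Prim r k) {y : X} (hy : orderOf y = r)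
    (hc : Nat.card (cm ρ y).range = 2 ^ k) {t : X} (ht : t * t = 1) (hty : t * y = y * t) :
    ∀ v ∈ (cm ρ y).range, ρ t v = v := by
  set R := (cm ρ y).range with hR
  have hst : ∀ v ∈ R, ρ t v ∈ R := fun v hv => apply_mem_range ρ hty hv
  obtain ⟨d, hd, hkd⟩ := card_inv hV h hy (W := R ⊓ fx ρ t) inf_le_left (by
    rintro w ⟨hw1, hw2⟩
    refine ⟨apply_mem_range ρ rfl hw1, ?_⟩
    change ρ t w = w at hw2
    change ρ t (ρ y w) = ρ y w
    rw [← MulAut.mul_apply, ← map_mul, hty, map_mul, MulAut.mul_apply, hw2])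
  have hle : Nat.card (R ⊓ fx ρ t : Subgroup V) ≤ Nat.card R :=
    Nat.card_le_card_of_injective _ (Subgroup.inclusion_injective inf_le_left)
  rw [hd, hc] at hle
  have h1 := (Nat.pow_le_pow_iff_right (by norm_num)).1 hle
  rcases Nat.eq_zero_or_pos d with h0 | h0
  · -- no fixed points
    rw [h0, pow_zero, Subgroup.card_eq_one] at hd
    intro v hv
    have h2 : v * ρ t v ∈ R ⊓ fx ρ t := by
      refine ⟨mul_mem hv (hst v hv), ?_⟩
      change ρ t (v * ρ t v) = v * ρ t v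
      rw [map_mul, ← MulAut.mul_apply, ← map_mul, ht, map_one, MulAut.one_apply, mul_comm]
    rw [hd, Subgroup.mem_bot] at h2
    have h3 : v * v = 1 := hV v
    exact mul_left_cancel (h2.trans h3.symm)
  · have h2 : d = k := le_antisymm h1 (Nat.le_of_dvd h0 hkd)
    have h3 : R ⊓ fx ρ t = R := Subgroup.eq_of_le_of_card_ge inf_le_left (by rw [hd, hc, h2])
    intro v hv
    rw [← h3] at hv
    exact hv.2

end module

section faithful

variable {H : Type*} [Group H] [Finite H] {L A : Subgroup H} [L.Normal]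

/-- `A` is elementary abelian and acts faithfully on `L` -/
structure Fa (L A : Subgroup H) : Prop where
  sq : ∀ a ∈ A, a * a = 1
  faith : ∀ a ∈ A, (∀ l ∈ L, a * l = l * a) → a = 1

local notation "ψ" => (MulAut.conjNormal (H := L))

theorem psi_ne (h : Fa L A) {a : H} (ha : a ∈ A) (ha1 : a ≠ 1) : ψ a ≠ 1 := by
  intro h1
  apply ha1
  apply h.faith a ha
  intro l hl
  have h2 := congrArg (fun α : MulAut L => ((α ⟨l, hl⟩ : L) : H)) h1
  simp only [MulAut.conjNormal_apply, MulAut.one_apply] at h2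
  exact mul_inv_eq_iff_eq_mul.1 h2

theorem psi_sq (h : Fa L A) {a : H} (ha : a ∈ A) : ψ a * ψ a = 1 := by
  rw [← map_mul, h.sq a ha, map_one]

open Cfsg.Agent.OddCyclic.PGLTorus in
theorem card_le_four {F : Type*} [Field F] [Finite F] (R : Cfsg.Agent.GH.L2Aut.Rep F L) (h : Fa L A)
    (hF : (Nat.card F).Prime) : Nat.card A ≤ 4 := by
  have exists_mat : ∀ {a : H}, a ∈ A → a ≠ 1 → ∃ γ : Matrix.GeneralLinearGroup (Fin 2) F, γ.1.trace = 0 ∧
      R.gl γ = ψ a := by
    intro a ha ha1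
    obtain ⟨γ, hγ⟩ := R.mem_PGL.1 (mem_PGL_of_prime R hF (ψ a))
    refine ⟨γ, ?_, hγ.symm⟩
    apply trace_of_sq R
    · rw [← hγ]; exact psi_ne h ha ha1
    · rw [← hγ]; exact psi_sq h ha
  have orth : ∀ {a b : H}, a ∈ A → b ∈ A → a * b ≠ 1 → ∀ {γ δ : Matrix.GeneralLinearGroup (Fin 2) F},
      R.gl γ = ψ a → R.gl δ = ψ b → (γ.1 * δ.1).trace = 0 := by
    intro a b ha hb hab γ δ hγ hδ
    have h1 : R.gl (γ * δ) = ψ (a * b) := by rw [map_mul, map_mul, hγ, hδ]
    have h2 := trace_of_sq R (g := γ * δ) (by rw [h1]; exact psi_ne h (mul_mem ha hb) hab)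
      (by rw [h1]; exact psi_sq h (mul_mem ha hb))
    exact h2
  by_contra hcon
  push Not at hcon
  obtain ⟨a, ha, ha1, -, -, -⟩ := JInner.exists_notin A hcon 1 1 1 1
  obtain ⟨b, hb, hb1, hba, -, -⟩ := JInner.exists_notin A hcon 1 a 1 1
  obtain ⟨c, hc, hc1, hca, hcb, hcab⟩ := JInner.exists_notin A hcon 1 a b (a * b)
  have hinv : ∀ x ∈ A, x⁻¹ = x := fun x hx => inv_eq_of_mul_eq_one_left (h.sq x hx)
  have hne : ∀ x ∈ A, ∀ y ∈ A, x ≠ y → x * y ≠ 1 := by
    intro x hx y hy hxy h1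
    apply hxy
    rw [← hinv x hx]
    exact (eq_inv_of_mul_eq_one_right h1).symm ▸ rfl
  obtain ⟨γ, hγ0, hγ⟩ := exists_mat ha ha1
  obtain ⟨δ, hδ0, hδ⟩ := exists_mat hb hb1
  obtain ⟨ε, hε0, hε⟩ := exists_mat hc hc1
  have h1 := orth ha hb (hne a ha b hb hba.symm) hγ hδ
  have h2 := orth ha hc (hne a ha c hc hca.symm) hγ hε
  have h3 := orth hb hc (hne b hb c hc hcb.symm) hδ hε
  have h4 := orth (mul_mem ha hb) hc (hne (a * b) (mul_mem ha hb) c hc hcab.symm)
    (γ := γ * δ) (δ := ε) (by rw [map_mul, map_mul, hγ, hδ]) hε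
  exact FFPslMat.no_three hγ0 hδ0 hε0 h1 h2 h3 h4 R.two

open Cfsg.Agent.SporRec.J1.Defs (Local) in
/-- the order of `A` for `J₁` -/
theorem card_le_eight (h : Fa L A) (hJ : Local L) {k : L} (hk : orderOf k = 2) : Nat.card A ≤ 8 := by
  have h2 : IsPGroup 2 A := fun a => ⟨1, by
    rw [pow_one, pow_two]; exact Subtype.ext (h.sq a a.2)⟩
  obtain ⟨n, hn⟩ := IsPGroup.iff_card.1 h2
  -- `A` embeds in `MulAut L`
  let f : A →* MulAut L := (ψ).comp A.subtype
  have hf : Function.Injective f := by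
    rw [injective_iff_map_eq_one]
    intro a ha
    by_contra hne
    exact psi_ne h a.2 (fun h => hne (Subtype.ext h)) ha
  have hfr : f.range ≤ (MulAut.conj : L →* MulAut L).range := by
    rintro _ ⟨a, rfl⟩
    obtain ⟨g, hg⟩ := JInner.inner hJ k hk (MulAut.conjNormal (a : H) : MulAut L)
    exact ⟨g, by ext1 l; rw [MulAut.conj_apply]; exact (hg l).symm⟩
  have h3 : Nat.card A ∣ Nat.card L := by
    rw [Nat.card_congr (MonoidHom.ofInjective hf).toEquiv]
    exact (Subgroup.card_dvd_of_le hfr).trans (Subgroup.card_range_dvd _)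
  have h4 : n ≤ 3 := by
    by_contra hlt
    apply hJ.two
    refine Dvd.dvd.trans ?_ h3
    rw [hn]
    exact pow_dvd_pow 2 (show 4 ≤ n by omega)
  rw [hn]
  exact Nat.pow_le_pow_right (by norm_num) h4

/-- the order of `A` for `SL₂(q)`, `q` even -/
theorem card_le_sl2 {F : Type*} [Field F] [Fintype F] [CharP F 2] (h4 : 4 ≤ Fintype.card F)
    (e : Matrix.SpecialLinearGroup (Fin 2) F ≃* L) (h : Fa L A) : Nat.card A ≤ 2 * Fintype.card F := by
  classical
  have hs := isSimpleGroup_sl2 h4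
  have : Fact (Nat.Prime 2) := ⟨Nat.prime_two⟩
  let f : A →* MulAut (Matrix.SpecialLinearGroup (Fin 2) F) := (FFOuter.ac e).comp A.subtype
  have hf : Function.Injective f := by
    rw [injective_iff_map_eq_one]
    intro a ha
    have h1 : FFOuter.ac e (a : H) = FFOuter.ac e 1 := by rw [map_one]; exact ha
    apply Subtype.ext
    apply h.faith a a.2
    intro l hl
    have h2 := (FFOuter.ac_eq_iff e _ _).1 h1 l hl
    rw [one_mul, inv_one, mul_one] at h2
    exact mul_inv_eq_iff_eq_mul.1 h2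
  have hfsq : ∀ a : A, f a * f a = 1 := by
    intro a
    rw [← map_mul, ← map_one f]
    congr 1
    exact Subtype.ext (h.sq a a.2)
  let τ : A →* (F ≃+* F) := Cfsg.Agent.Classification.QDW.TypeHom.typ.comp f
  have hτ : Nat.card τ.range ≤ 2 := by
    by_contra hcon
    push Not at hcon
    have h5 : ∀ σ ∈ τ.range, σ * σ = 1 := by
      rintro _ ⟨a, rfl⟩
      change Cfsg.Agent.Classification.QDW.TypeHom.typ (f a) * Cfsg.Agent.Classification.QDW.TypeHom.typ (f a) = 1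
      rw [← map_mul, hfsq, map_one]
    have h6 : ∀ σ ∈ τ.range, ∀ σ' ∈ τ.range, σ ≠ 1 → σ' ≠ 1 → σ = σ' := fun σ hσ σ' hσ' h1 h2 =>
      L2Borel.ringAut_invol (h5 σ hσ) (h5 σ' hσ') h1 h2
    let g : τ.range → Bool := fun σ => decide ((σ : F ≃+* F) = 1)
    have hg : Function.Injective g := by
      rintro ⟨σ, hσ⟩ ⟨σ', hσ'⟩ hgg
      apply Subtype.ext
      change σ = σ'
      have h7 : (σ = 1) ↔ (σ' = 1) := by
        change decide (σ = 1) = decide (σ' = 1) at hgg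
        exact decide_eq_decide.1 hgg
      by_cases h8 : σ = 1
      · rw [h8, h7.1 h8]
      · exact h6 σ hσ σ' hσ' h8 (fun h9 => h8 (h7.2 h9))
    have h7 := Nat.card_le_card_of_injective g hg
    rw [Nat.card_eq_fintype_card (α := Bool), Fintype.card_bool] at h7
    omega
  have hker : Nat.card τ.ker ≤ Fintype.card F := by
    let P : Subgroup (Matrix.SpecialLinearGroup (Fin 2) F) := (τ.ker.map f).comap MulAut.conj
    have hconj : Function.Injective (MulAut.conj : Matrix.SpecialLinearGroup (Fin 2) F →* _) := by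
      rw [← MonoidHom.ker_eq_bot_iff]
      rcases hs.eq_bot_or_eq_top_of_normal (MulAut.conj : Matrix.SpecialLinearGroup (Fin 2) F →* _).ker inferInstance
        with h1 | h1
      · exact h1
      · exfalso
        obtain ⟨a, ha⟩ := exists_ne (1 : Matrix.SpecialLinearGroup (Fin 2) F)
        have hall : ∀ x y : Matrix.SpecialLinearGroup (Fin 2) F, x * y = y * x := by
          intro x y
          have h2 : x ∈ (MulAut.conj : Matrix.SpecialLinearGroup (Fin 2) F →* _).ker := by rw [h1]; trivial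
          have h3 := DFunLike.congr_fun (MonoidHom.mem_ker.1 h2) y
          rw [MulAut.conj_apply, MulAut.one_apply] at h3
          exact mul_inv_eq_iff_eq_mul.1 h3
        have h2 := congrArg (fun z : Matrix.SpecialLinearGroup (Fin 2) F => z 0 0) (hall (T1Sl2.up 1) (T1Sl2.ww F))
        simp only [T1Sl2.mul00, T1Sl2.up00, T1Sl2.up01, T1Sl2.up10, T1Sl2.ww00, T1Sl2.ww01, T1Sl2.ww10] at h2
        simp at h2
    have hmap : P.map MulAut.conj = τ.ker.map f := by
      rw [Subgroup.map_comap_eq, inf_eq_right]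
      rintro _ ⟨a, ha, rfl⟩
      obtain ⟨s, hs'⟩ := (L2Model.inner_iff (f a)).1 ha
      exact ⟨s, hs'.symm⟩
    have hcard : Nat.card P = Nat.card τ.ker := by
      rw [← Subgroup.card_map_of_injective hconj, hmap, Subgroup.card_map_of_injective hf]
    have hP : IsPGroup 2 P := by
      intro p
      refine ⟨1, ?_⟩
      apply Subtype.ext
      apply hconj
      obtain ⟨a, ha, hfa⟩ := p.2
      rw [pow_one, pow_two]
      change MulAut.conj ((p : Matrix.SpecialLinearGroup (Fin 2) F) * p) = MulAut.conj 1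
      rw [map_mul, ← hfa, hfsq, map_one]
    obtain ⟨U, hU⟩ := hP.exists_le_sylow
    rw [← hcard, ← T1Sl2.card_sylow U]
    exact Nat.card_le_card_of_injective _ (Subgroup.inclusion_injective hU)
  have h1 := τ.ker.card_mul_index
  rw [Subgroup.index_ker] at h1
  rw [← h1, mul_comm]
  exact Nat.mul_le_mul hτ hker

/-- **the bound for `A`** -/
theorem card_faithful (hK : KZero L) (hns : ¬ Cfsg.Lie.IsoSuzuki L) (h : Fa L A) :
    Nat.card A ≤ 8 ∨ ∃ (F : Type) (_ : Field F) (_ : Fintype F) (_ : CharP F 2), 4 ≤ Fintype.card F ∧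
      Nonempty (Matrix.SpecialLinearGroup (Fin 2) F ≃* L) ∧ Nat.card A ≤ 2 * Fintype.card F := by
  rcases hK with ⟨F, _, _, hp, h5, ⟨e⟩⟩ | ⟨F, _, _, f, hf, hF, ⟨e⟩⟩ | hK | ⟨hJ, k, hk⟩
  · left
    have hodd : Odd (Fintype.card F) := hp.odd_of_ne_two (by omega)
    have R := Cfsg.Agent.GH.L2Aut.Rep.ofEquiv (Cfsg.Agent.GH.L2Aut.two_ne_zero_of_odd hodd) e
    have := card_le_four R h (by rw [Nat.card_eq_fintype_card]; exact hp)
    omega
  · right
    have h4 : 4 ≤ Fintype.card F := by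
      rw [hF]
      calc 4 = 2 ^ 2 := by norm_num
        _ ≤ 2 ^ f := Nat.pow_le_pow_right (by norm_num) hf
    have hch : CharP F 2 := by
      have hch := ringChar.charP F
      have h1 : ringChar F ∣ 2 ^ f := by
        rw [← hF, ← CharP.cast_eq_zero_iff F (ringChar F), Nat.cast_card_eq_zero]
      have h2 : (ringChar F).Prime := CharP.char_is_prime F (ringChar F)
      have h3 : ringChar F = 2 := (Nat.prime_dvd_prime_iff_eq h2 Nat.prime_two).1 (h2.dvd_of_dvd_pow h1)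
      rwa [h3] at hch
    obtain ⟨g⟩ := WeakTI.PslTwo.nonempty_equiv (F := F)
    exact ⟨F, inferInstance, inferInstance, hch, h4, ⟨g.trans e.symm⟩, card_le_sl2 h4 (g.trans e.symm) h⟩
  · exact absurd hK hns
  · exact Or.inl (card_le_eight h hJ hk)

end faithful

end Cfsg.Agent.OddCyclic.BTwoLin.SocleGen
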