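import Cfsg.Agent.OddCyclic.BTwoLin.Fitting
import Cfsg.Agent.OddCyclic.BTwoLin.Basic
import Cfsg.Agent.OddCyclic.BTwoLin.SocleGen

/-!
# Section 2 of blueprints/S0342-Ba-helper208.md: no component of `X` is a Suzuki group
-/

set_option autoImplicit false
set_option linter.unusedSectionVars false

namespace Cfsg.Agent.OddCyclic.BTwoLin.SocleSz

open Subgroup Cfsg Cfsg.Agent.OddCyclic.T1Defs Cfsg.Agent.LieExceptional.CITDefs Cfsg.Agent.OddCyclic.PumpMain
open Cfsg.Agent.OddCyclic.CompBasic Cfsg.Agent.OddCyclic.FFBasic Cfsg.Agent.OddCyclic.FFStruct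
open Cfsg.Agent.OddCyclic.FFRed
open Cfsg.Agent.SignalizersComponents.Components
open Cfsg.Agent.OddCyclic.BTwoLin.SocleGen

variable {X M : Type*} [Group X] [CommGroup M]

variable {ρ : X →* MulAut M} {f : M → M → ZMod 2} {q : M → ZMod 2} {A S : Subgroup X} {D : Subgroup M} {l : M}
  {c m : ℕ}

/-! ### elements of primitive prime order -/

theorem exists_sz [Finite X] {J : Subgroup X} {Q : ℕ} (hQ : CaseESz.SzK J Q) :
    ∃ e r, 3 ≤ e ∧ Q = 2 ^ e ∧ Prim r (4 * e) ∧ ∃ y ∈ J, orderOf y = r := by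
  obtain ⟨n, hn, hQn⟩ := hQ.pow
  obtain ⟨p, hp⟩ := exists_prim (k := 4 * (2 * n + 1)) (by omega)
  refine ⟨2 * n + 1, p, by omega, hQn, hp, ?_⟩
  have : Fact p.Prime := ⟨hp.prime⟩
  have hpK : p ∣ Nat.card J := by
    have h3 : p ∣ 2 ^ (4 * (2 * n + 1)) - 1 := (hp.iff _).2 dvd_rfl
    have h4 : ¬ p ∣ 2 ^ (2 * (2 * n + 1)) - 1 := fun h5 => by
      have := Nat.le_of_dvd (by omega) ((hp.iff _).1 h5)
      omega
    have h5 : 2 ^ (4 * (2 * n + 1)) - 1 = (2 ^ (2 * (2 * n + 1)) - 1) * (Q ^ 2 + 1) := by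
      have h6 : Q ^ 2 = 2 ^ (2 * (2 * n + 1)) := by rw [hQn, ← pow_mul, mul_comm]
      rw [h6]
      have h7 : 2 ^ (4 * (2 * n + 1)) = 2 ^ (2 * (2 * n + 1)) * 2 ^ (2 * (2 * n + 1)) := by
        rw [← pow_add]; congr 1; ring
      rw [h7]
      have h8 : 1 ≤ 2 ^ (2 * (2 * n + 1)) := Nat.one_le_two_pow
      obtain ⟨t, ht⟩ := Nat.exists_eq_add_of_le h8
      rw [ht]
      have h9 : (1 + t) * (1 + t) = t * (1 + t + 1) + 1 := by ring
      rw [h9]
      simp
    rw [h5] at h3
    rcases (Nat.Prime.dvd_mul hp.prime).1 h3 with h6 | h6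
    · exact absurd h6 h4
    · rw [hQ.card]
      exact Dvd.dvd.mul_right (Dvd.dvd.mul_right h6 _) _
  obtain ⟨g, hg⟩ := exists_prime_orderOf_dvd_card' (G := J) p hpK
  exact ⟨g, g.2, by rw [Subgroup.orderOf_coe]; exact hg⟩

theorem exists_sl2 [Finite X] {L : Subgroup X} {F : Type*} [Field F] [Fintype F] [CharP F 2]
    (e : Matrix.SpecialLinearGroup (Fin 2) F ≃* L) {k : ℕ} (hF : Fintype.card F = 2 ^ k) (hk : 4 ≤ k) :
    ∃ r, Prim r (2 * k) ∧ ∃ y ∈ L, orderOf y = r := by
  obtain ⟨p, hp⟩ := exists_prim (k := 2 * k) (by omega)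
  refine ⟨p, hp, ?_⟩
  have : Fact p.Prime := ⟨hp.prime⟩
  have hfin : Finite (Matrix.SpecialLinearGroup (Fin 2) F) := inferInstance
  obtain ⟨y₀, hy₀⟩ := exists_prime_orderOf_dvd_card' p (dvd_card_of (F := F) hF ((hp.iff _).2 dvd_rfl) hp.prime)
  refine ⟨e y₀, (e y₀).2, ?_⟩
  rw [Subgroup.orderOf_coe, ← hy₀]
  exact orderOf_injective e.toMonoidHom e.injective y₀

/-! ### the index of `C_A(J)` in `A` -/

theorem card_le_sz [Finite X] {J A : Subgroup X} [J.Normal] {Q : ℕ} (hQ : CaseESz.SzK J Q)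
    (hA : ∀ a ∈ A, a * a = 1) : Nat.card A ≤ Q * Nat.card (A ⊓ centralizer (J : Set X) : Subgroup X) := by
  have : Fact (Nat.Prime 2) := ⟨Nat.prime_two⟩
  have hJJ : ∀ z ∈ J, z ∈ centralizer (J : Set X) → z = 1 := by
    intro z h1 h2
    have : z ∈ J ⊓ centralizer (J : Set X) := ⟨h1, h2⟩
    rwa [hQ.inf, Subgroup.mem_bot] at this
  set P := FFInner.pr J A with hP
  have hPsq : ∀ g ∈ P, g * g = 1 := by
    rintro g ⟨c, hc, h⟩
    exact Subtype.ext (FFInner.sq_eq hJJ hA g.2 hc h).1
  have hP2 : IsPGroup 2 (P.map J.subtype) := by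
    rintro ⟨_, g, hg, rfl⟩
    refine ⟨1, Subtype.ext ?_⟩
    change (g : X) ^ 2 ^ 1 = 1
    rw [pow_one, pow_two]
    exact congrArg Subtype.val (hPsq g hg)
  obtain ⟨U, hU, hPU⟩ := Cfsg.Agent.LieExceptional.CITBasic.exists_isSyl2 J (P.map J.subtype)
    (Subgroup.map_subtype_le _) hP2
  obtain ⟨Z, H', hZ⟩ := hQ.borel U hU
  have hPZ : P.map J.subtype ≤ Z := by
    intro g hg
    refine (hZ.mem_Z g (hPU hg)).2 ?_
    obtain ⟨g', hg', rfl⟩ := hg
    exact congrArg Subtype.val (hPsq g' hg')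
  have hPcard : Nat.card P ≤ Q := by
    rw [← hZ.cardZ, ← Subgroup.card_map_of_injective J.subtype_injective]
    exact Nat.card_le_card_of_injective _ (Subgroup.inclusion_injective hPZ)
  -- the homomorphism
  let φ : A →* MulAut J := (MulAut.conjNormal (H := J)).comp A.subtype
  have hrange : φ.range ≤ P.map MulAut.conj := by
    rintro _ ⟨a, rfl⟩
    have h1 := hQ.inner (a : X) (by rw [normalizer_eq_top]; trivial) ⟨1, by rw [pow_one, pow_two]; exact hA a a.2⟩
    rw [mem_sup_of_normal_left] at h1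
    obtain ⟨k, hk, e, he, hke⟩ := h1
    refine ⟨⟨k, hk⟩, ⟨e, he, ?_⟩, ?_⟩
    · change k * e ∈ A
      rw [hke]; exact a.2
    · ext1 j
      apply Subtype.ext
      change k * j * k⁻¹ = ((MulAut.conjNormal (a : X) j : J) : X)
      rw [MulAut.conjNormal_apply, ← hke, mul_inv_rev]
      have h2 : (j : X) * e = e * j := (mem_centralizer_iff.mp he) j j.2
      calc k * j * k⁻¹ = k * (j * e) * e⁻¹ * k⁻¹ := by group
        _ = k * (e * j) * e⁻¹ * k⁻¹ := by rw [h2]
        _ = _ := by group
  have hcard1 : Nat.card φ.range ≤ Q := by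
    refine (Nat.card_le_card_of_injective _ (Subgroup.inclusion_injective hrange)).trans (le_trans ?_ hPcard)
    refine Nat.card_le_card_of_surjective (fun g : P => (⟨MulAut.conj (g : J), g, g.2, rfl⟩ : P.map MulAut.conj)) ?_
    rintro ⟨_, w, hw, rfl⟩
    exact ⟨⟨w, hw⟩, rfl⟩
  have hcard2 : Nat.card φ.ker ≤ Nat.card (A ⊓ centralizer (J : Set X) : Subgroup X) := by
    refine Nat.card_le_card_of_injective (fun a : φ.ker => (⟨(a : A), (a : A).2, ?_⟩ :
      (A ⊓ centralizer (J : Set X) : Subgroup X))) ?_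
    · change ((a : A) : X) ∈ centralizer (J : Set X)
      rw [mem_centralizer_iff]
      intro j hj
      have h1 := DFunLike.congr_fun (MonoidHom.mem_ker.1 a.2) ⟨j, hj⟩
      have h2 := congrArg (fun z : J => (z : X)) h1
      change ((MulAut.conjNormal ((a : A) : X) (⟨j, hj⟩ : J) : J) : X) = j at h2
      rw [MulAut.conjNormal_apply] at h2
      exact (mul_inv_eq_iff_eq_mul.1 h2).symm
    · intro a b hab
      apply Subtype.ext
      apply Subtype.ext
      exact congrArg (fun z : (A ⊓ centralizer (J : Set X) : Subgroup X) => (z : X)) hab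
  have h1 := φ.ker.card_mul_index
  rw [Subgroup.index_ker] at h1
  rw [← h1, mul_comm]
  exact Nat.mul_le_mul hcard1 hcard2

/-! ### the form -/

theorem f_inv' (h : Form ρ f q) (g : X) (x y : M) : f (ρ g x) y = f x (ρ g⁻¹ y) := by
  rw [← h.f_inv g x (ρ g⁻¹ y), ← MulAut.mul_apply, ← map_mul, mul_inv_cancel, map_one, MulAut.one_apply]

/-- the radical -/
def rad (h : Form ρ f q) : Subgroup M where
  carrier := {v | ∀ w, f v w = 0}
  mul_mem' := fun {a b} ha hb w => by rw [h.f_mul, ha w, hb w, add_zero]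
  one_mem' := fun w => h.one_left w
  inv_mem' := fun {a} ha w => by rw [h.inv_left]; exact ha w

theorem mem_rad {h : Form ρ f q} {v : M} : v ∈ rad h ↔ ∀ w, f v w = 0 := Iff.rfl

theorem rad_inv (h : Form ρ f q) (g : X) {v : M} (hv : v ∈ rad h) : ρ g v ∈ rad h := by
  intro w
  rw [f_inv' h]
  exact hv _

/-- `E^⊥` -/
def orth (h : Form ρ f q) (E : Subgroup M) : Subgroup M where
  carrier := {v | ∀ e ∈ E, f e v = 0}
  mul_mem' := fun {a b} ha hb e he => by rw [h.mul_right, ha e he, hb e he, add_zero]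
  one_mem' := fun e _ => h.one_right e
  inv_mem' := fun {a} ha e he => by rw [h.inv_eq]; exact ha e he

theorem mem_orth {h : Form ρ f q} {E : Subgroup M} {v : M} : v ∈ orth h E ↔ ∀ e ∈ E, f e v = 0 := Iff.rfl

theorem orth_inv (h : Form ρ f q) {J : Subgroup X} {E : Subgroup M} (hE : ∀ g ∈ J, ∀ e ∈ E, ρ g e ∈ E) :
    ∀ g ∈ J, ∀ v ∈ orth h E, ρ g v ∈ orth h E := by
  intro g hg v hv e he
  rw [h.f_symm, f_inv' h, h.f_symm]
  exact hv _ (hE _ (inv_mem hg) e he)

/-- the submodule generated by the `J`-orbit of `l` -/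
def orb (ρ : X →* MulAut M) (J : Subgroup X) (l : M) : Subgroup M := closure {v | ∃ g ∈ J, v = ρ g l}

theorem apply_mem_orb (ρ : X →* MulAut M) {J : Subgroup X} (l : M) {g : X} (hg : g ∈ J) : ρ g l ∈ orb ρ J l :=
  subset_closure ⟨g, hg, rfl⟩

theorem mem_orb_self (ρ : X →* MulAut M) (J : Subgroup X) (l : M) : l ∈ orb ρ J l := by
  have := apply_mem_orb ρ l (one_mem J)
  rwa [map_one, MulAut.one_apply] at this

theorem orb_inv (ρ : X →* MulAut M) {J : Subgroup X} (l : M) : ∀ g ∈ J, ∀ e ∈ orb ρ J l, ρ g e ∈ orb ρ J l := by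
  intro g hg e he
  have h1 : orb ρ J l ≤ (orb ρ J l).comap (ρ g : M ≃* M).toMonoidHom := by
    rw [orb, closure_le]
    rintro _ ⟨k, hk, rfl⟩
    change ρ g (ρ k l) ∈ orb ρ J l
    rw [← MulAut.mul_apply, ← map_mul]
    exact apply_mem_orb ρ l (mul_mem hg hk)
  exact h1 he

/-! ### consequences of `Lin` -/

/-- `M` is generated by the orbit of `l` -/
theorem all_of_l (h : Lin ρ f q A S D l c m) {J : Subgroup X} [hJ : J.Normal] {W : Subgroup M}
    (hW : ∀ x, ∀ w ∈ W, ρ x w ∈ W) (hl : ∀ g ∈ J, ρ g l * l⁻¹ ∈ W) : ∀ g ∈ J, ∀ v, ρ g v * v⁻¹ ∈ W := by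
  let N : Subgroup M :=
    { carrier := {v | ∀ g ∈ J, ρ g v * v⁻¹ ∈ W}
      mul_mem' := fun {a b} ha hb g hg => by
        have h1 : ρ g (a * b) * (a * b)⁻¹ = (ρ g a * a⁻¹) * (ρ g b * b⁻¹) := by
          rw [map_mul, mul_inv]; exact mul_mul_mul_comm _ _ _ _
        rw [h1]
        exact mul_mem (ha g hg) (hb g hg)
      one_mem' := fun g _ => by rw [map_one, inv_one, mul_one]; exact one_mem _
      inv_mem' := fun {a} ha g hg => by
        have h1 : ρ g a⁻¹ * a⁻¹⁻¹ = (ρ g a * a⁻¹)⁻¹ := by rw [map_inv, mul_inv]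
        rw [h1]
        exact inv_mem (ha g hg) }
  have hN : N = ⊤ := by
    refine h.gen N fun x g hg => ?_
    have h1 : ρ g (ρ x l) * (ρ x l)⁻¹ = ρ x (ρ (x⁻¹ * g * x) l * l⁻¹) := by
      rw [map_mul (ρ x), map_inv (ρ x), ← MulAut.mul_apply, ← MulAut.mul_apply, ← map_mul, ← map_mul]
      congr 3
      group
    rw [h1]
    refine hW x _ (hl _ ?_)
    have := hJ.conj_mem g hg x⁻¹
    rwa [inv_inv] at this
  intro g hg v
  have h1 : v ∈ N := by rw [hN]; trivial
  exact h1 g hg

theorem exists_ne (h : Lin ρ f q A S D l c m) {y : X} (hy : y ≠ 1) : ∃ v, ρ y v ≠ v := by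
  by_contra hcon
  push Not at hcon
  exact hy (h.faith y hcon)

/-- simple normal subgroups not commuting with `A` act trivially on the radical -/
theorem triv_rad (h : Lin ρ f q A S D l c m) {K : Subgroup X} [hK : K.Normal] (hs : IsSimpleGroup K) {a k : X}
    (ha : a ∈ A) (hk : k ∈ K) (hak : a * k ≠ k * a) : ∀ g ∈ K, ∀ v ∈ rad h.form, ρ g v = v := by
  refine fix_of_one hs (fun g _ w hw => rad_inv h.form g hw) (y := a * k * a⁻¹ * k⁻¹)
    (mul_mem (hK.conj_mem k hk a) (inv_mem hk)) ?_ ?_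
  · intro h1
    apply hak
    rw [mul_inv_eq_one] at h1
    exact mul_inv_eq_iff_eq_mul.1 h1
  · intro w hw
    have h1 : ρ (a * k * a⁻¹ * k⁻¹) w = ρ a (ρ k (ρ a⁻¹ (ρ k⁻¹ w))) := by
      rw [map_mul, map_mul, map_mul]; rfl
    have h3 : ρ k (ρ k⁻¹ w) = w := by
      rw [← MulAut.mul_apply, ← map_mul, mul_inv_cancel, map_one, MulAut.one_apply]
    rw [h1, h.rad_A _ (rad_inv h.form k⁻¹ hw) a⁻¹ (inv_mem ha), h3]
    exact h.rad_A _ hw a ha

variable [Finite X] [Finite M]

theorem kzero (h : Lin ρ f q A S D l c m) {K : Subgroup X} (hK : IsComponent K) : KZero K := by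
  have h1 := center_component h.cyc h.pCore_eq hK
  let e : K ⧸ center K ≃* K := (QuotientGroup.quotientMulEquivOfEq h1).trans QuotientGroup.quotientBot
  exact FFSec.kzero_congr e.symm (h.comps K hK.2)

/-- the component on which `C_A(J)` acts faithfully -/
theorem exists_L (h : Lin ρ f q A S D l c m) {J : Subgroup X} (hJ : IsComponent J) {Q : ℕ} (hQ : CaseESz.SzK J Q)
    {b : X} (hb : b ∈ A) (hbJ : b ∈ centralizer (J : Set X)) (hb1 : b ≠ 1) :
    ∃ L : Subgroup X, IsComponent L ∧ ¬ Cfsg.Lie.IsoSuzuki L ∧ (∀ j ∈ J, ∀ k ∈ L, j * k = k * j) ∧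
      ∀ a ∈ A, a ∈ centralizer (J : Set X) → (∀ k ∈ L, a * k = k * a) → a = 1 := by
  have h2 := h.pCore_eq
  have hfit := h.fitting_eq_bot
  have hF : ∀ a : X, ∀ x ∈ fittingSubgroup X, a * x = x * a := by
    intro a x hx
    rw [hfit, Subgroup.mem_bot] at hx
    rw [hx, mul_one, one_mul]
  have hne : ∀ a ∈ A, a ∈ centralizer (J : Set X) → a ≠ 1 → ∃ K : Subgroup X, IsComponent K ∧ K ≠ J ∧
      a ∉ centralizer (K : Set X) := by
    intro a ha haJ ha1
    by_contra hcon
    push Not at hcon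
    apply ha1
    refine eq_one_of_centralizes h2 (h.A_sq a ha) (hF a) fun K hK => ?_
    by_cases hKJ : K = J
    · rw [hKJ]; exact haJ
    · exact hcon K hK hKJ
  have hsz : ∀ K : Subgroup X, IsComponent K → K ≠ J → ¬ Cfsg.Lie.IsoSuzuki K := by
    intro K hK hKJ hs
    obtain ⟨Q', hQ'⟩ := CaseESz.szK hs
    exact hKJ (component_eq h.cyc h2 hK hJ (p := 5) (by norm_num) (by norm_num) hQ'.five hQ.five)
  obtain ⟨L, hL, hLJ, hbL⟩ := hne b hb hbJ hb1
  refine ⟨L, hL, hsz L hL hLJ, ?_, ?_⟩
  · intro j hj k hk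
    have h3 := component_commutator_eq_bot_of_ne hJ hL hLJ.symm
    rw [Subgroup.commutator_eq_bot_iff_le_centralizer] at h3
    exact ((mem_centralizer_iff.mp (h3 hj)) k hk).symm
  · intro a ha haJ hak
    by_contra ha1
    obtain ⟨K, hK, hKJ, haK⟩ := hne a ha haJ ha1
    have h3 : K = L := component_eq h.cyc h2 hK hL Nat.prime_three (by norm_num)
      (three_dvd_of_kZero (kzero h hK) (hsz K hK hKJ)) (three_dvd_of_kZero (kzero h hL) (hsz L hL hLJ))
    apply haK
    rw [h3, mem_centralizer_iff]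
    intro k hk
    exact (hak k hk).symm

/-- **no Suzuki components** -/
theorem no_suzuki (h : Lin ρ f q A S D l c m) {J : Subgroup X} (hJ : IsComponent J) : ¬ Cfsg.Lie.IsoSuzuki J := by
  intro hJs
  have hV := h.form.sq
  have h2 := h.pCore_eq
  have hJn := component_normal h.cyc hJ
  have hJsimple := simple_component h.cyc h2 hJ
  obtain ⟨Q, hQ⟩ := CaseESz.szK hJs
  obtain ⟨e, r, he, hQe, hr, y, hyJ, hy⟩ := exists_sz hQ
  have hy1 := ne_one_of_orderOf hr hy
  have hyodd := odd_of_orderOf hr hy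
  have hyne := exists_ne h hy1
  have hA0 := card_le_sz hQ h.A_sq
  rw [h.card_A, hQe] at hA0
  set A₀ := A ⊓ centralizer (J : Set X) with hA₀
  have hM := h.card_M
  have hm := h.m_le
  by_cases hbot : A₀ = ⊥
  · -- `C_A(J) = 1`
    rw [hbot, Subgroup.card_bot, mul_one] at hA0
    have hce := (Nat.pow_le_pow_iff_right (by norm_num)).1 hA0
    obtain ⟨v, hv⟩ := hyne
    apply hv
    refine fix_of_card_lt hV hr hy (W := ⊤) (fun _ _ => Subgroup.mem_top _) ?_ v (Subgroup.mem_top _)
    rw [Subgroup.card_top, hM]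
    exact Nat.pow_lt_pow_right (by norm_num) (by omega)
  · obtain ⟨⟨b, hbA₀⟩, hb1'⟩ := Subgroup.ne_bot_iff_exists_ne_one.1 hbot
    have hb1 : b ≠ 1 := fun h => hb1' (Subtype.ext h)
    obtain ⟨hbA, hbJ⟩ := hbA₀
    obtain ⟨L, hL, hLs, hJL, hfa⟩ := exists_L h hJ hQ hbA hbJ hb1
    have hLn := component_normal h.cyc hL
    have hLsimple := simple_component h.cyc h2 hL
    have hFa : Fa L A₀ := ⟨fun a ha => h.A_sq a ha.1, fun a ha => hfa a ha.1 ha.2⟩
    have hbound := card_faithful (kzero h hL) hLs hFa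
    -- the totally isotropic module `E`
    set E := orb ρ J l with hE
    have hEinv : ∀ g ∈ J, ∀ e ∈ E, ρ g e ∈ E := orb_inv ρ l
    have hEb : E ≤ fx ρ b := by
      rw [hE, orb, closure_le]
      rintro _ ⟨g, hg, rfl⟩
      change ρ b (ρ g l) = ρ g l
      have h3 : b * g = g * b := ((mem_centralizer_iff.mp hbJ) g hg).symm
      rw [← MulAut.mul_apply, ← map_mul, h3, map_mul, MulAut.mul_apply, h.toLin1.A_fix hbA]
    have hEl : ∀ e ∈ E, f l e = 0 := fun e he => h.toLin1.fix_perp hbA hb1 (hEb he)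
    have hEP : E ≤ orth h.form E := by
      intro v hv e he
      have h3 : E ≤ (h.form.perp v) := by
        rw [hE, orb, closure_le]
        rintro _ ⟨g, hg, rfl⟩
        change f v (ρ g l) = 0
        rw [h.form.f_symm, f_inv' h.form]
        exact hEl _ (hEinv _ (inv_mem hg) v hv)
      have h4 : f v e = 0 := h3 he
      rw [h.form.f_symm]; exact h4
    set P := orth h.form E with hP
    have hPinv : ∀ g ∈ J, ∀ v ∈ P, ρ g v ∈ P := orth_inv h.form hEinv
    have hEne : ∃ w ∈ E, ρ y w ≠ w := by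
      by_contra hcon
      push Not at hcon
      have h3 := fix_of_one hJsimple hEinv hyJ hy1 hcon
      have h4 := all_of_l h (J := J) (W := ⊥) (fun x w hw => by
        rw [Subgroup.mem_bot] at hw ⊢; rw [hw, map_one]) (fun g hg => by
        rw [Subgroup.mem_bot, h3 g hg l (mem_orb_self ρ J l), mul_inv_cancel]) y hyJ
      obtain ⟨v, hv⟩ := hyne
      apply hv
      have h5 := h4 v
      rw [Subgroup.mem_bot, mul_inv_eq_one] at h5
      exact h5
    obtain ⟨d₁, hd₁, hcE, hkE⟩ := card_comm hV hr hy (hEinv y hyJ) hEne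
    have hd₁' := Nat.le_of_dvd hd₁ hkE
    set R := (cm ρ y).range with hR
    have hRinv : ∀ w ∈ R, ρ y w ∈ R := fun w hw => apply_mem_range ρ rfl hw
    obtain ⟨d, hd, hcR, hkR⟩ := card_range hV hr hy hyne
    have hRM : Nat.card R ≤ Nat.card M := by
      rw [← Subgroup.card_top (G := M)]
      exact Nat.card_le_card_of_injective _ (Subgroup.inclusion_injective (le_top : R ≤ ⊤))
    rw [hcR, hM] at hRM
    have hdM := (Nat.pow_le_pow_iff_right (by norm_num)).1 hRM
    by_cases hRP : R ≤ P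
    · -- `[M, J] ≤ rad f`
      have h3 : ∀ g ∈ J, ∀ v, ρ g v * v⁻¹ ∈ P := by
        intro g hg v
        exact all_of_one hJsimple (W := ⊤) (W' := P) (fun _ _ _ _ => Subgroup.mem_top _) hPinv hyJ hy1
          (fun w _ => hRP ⟨w, rfl⟩) g hg v (Subgroup.mem_top _)
      have h4 : ∀ g ∈ J, ∀ v, ρ g v * v⁻¹ ∈ rad h.form := by
        refine all_of_l h (fun x w hw => rad_inv h.form x hw) ?_
        intro g hg w
        have h5 : f l (ρ g⁻¹ w * w⁻¹) = 0 := h3 g⁻¹ (inv_mem hg) w l (mem_orb_self ρ J l)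
        rw [h.form.f_mul, f_inv' h.form, h.form.inv_left]
        rw [h.form.mul_right, h.form.inv_eq] at h5
        exact h5
      have hRrad : R ≤ rad h.form := by
        rintro _ ⟨v, rfl⟩
        exact h4 y hyJ v
      by_cases hAJ : A ≤ centralizer (J : Set X)
      · -- `A` centralises `J`
        have hA₀A : A₀ = A := inf_eq_left.2 hAJ
        rw [hA₀A, h.card_A] at hbound
        -- `|rad f| ≤ 2 ^ c`
        have h5 : Nat.card D * Nat.card (rad h.form) ≤ Nat.card (h.form.perp l) := by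
          refine card_mul_le h.toLin1.D_le ?_ fun v hv hv' => h.rad_D v hv hv'
          intro v hv
          change f l v = 0
          rw [h.form.f_symm]; exact hv l
        have h6 := h.toLin1.card_l_perp
        rw [h.card_D] at h5
        rw [h.card_M, show c + m + 2 = (c + m + 1) + 1 by ring, pow_succ'] at h6
        have h7 : Nat.card (h.form.perp l) = 2 ^ (c + m + 1) := by omega
        rw [h7, show c + m + 1 = (m + 1) + c by ring, pow_add 2 (m + 1) c] at h5
        have h8 : Nat.card (rad h.form) ≤ 2 ^ c := Nat.le_of_mul_le_mul_left h5 (by positivity)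
        have h9 : Nat.card R ≤ Nat.card (rad h.form) :=
          Nat.card_le_card_of_injective _ (Subgroup.inclusion_injective hRrad)
        have h9' := h9
        rw [hcR] at h9
        have hdc := (Nat.pow_le_pow_iff_right (by norm_num)).1 (h9.trans h8)
        have hd' := Nat.le_of_dvd hd hkR
        rcases hbound with h10 | ⟨F, iF, iF', iC, h4F, ⟨eF⟩, h10⟩
        · have h11 : (2 : ℕ) ^ c ≤ 2 ^ 3 := h10
          have := (Nat.pow_le_pow_iff_right (by norm_num)).1 h11
          omega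
        · obtain ⟨k, hk, hFk⟩ := T1Sl2.card_pow F
          rw [hFk, ← pow_succ'] at h10
          have h11 := (Nat.pow_le_pow_iff_right (by norm_num)).1 h10
          obtain ⟨r', hr', y', hy'L, hy'⟩ := exists_sl2 eF hFk (by omega)
          have hy'1 := ne_one_of_orderOf hr' hy'
          have hy'odd := odd_of_orderOf hr' hy'
          obtain ⟨d', hd', hcR', hkR'⟩ := card_range hV hr' hy' (exists_ne h hy'1)
          have h12 := Nat.le_of_dvd hd' hkR'
          -- `L` acts trivially on the radical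
          have h13 : ∃ k ∈ L, b * k ≠ k * b := by
            by_contra hcon
            push Not at hcon
            exact hb1 (hfa b hbA hbJ hcon)
          obtain ⟨k', hk', hbk⟩ := h13
          have h14 := triv_rad h hLsimple hbA hk' hbk y' hy'L
          have h15 : Nat.card (cm ρ y').range * Nat.card (rad h.form) ≤ Nat.card (⊤ : Subgroup M) :=
            card_mul_le le_top le_top fun v hv hv' => eq_one_of_fix hV hy'odd hv (h14 v hv')
          rw [Subgroup.card_top, hcR', hM] at h15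
          have h16 : 2 ^ d' * 2 ^ d ≤ 2 ^ (c + m + 2) := (Nat.mul_le_mul_left _ h9).trans h15
          rw [← pow_add] at h16
          have h17 := (Nat.pow_le_pow_iff_right (by norm_num)).1 h16
          omega
      · -- `J` is trivial on the radical
        obtain ⟨a, ha, haJ⟩ := SetLike.not_le_iff_exists.1 hAJ
        rw [mem_centralizer_iff] at haJ
        push Not at haJ
        obtain ⟨k, hk, hak⟩ := haJ
        have h5 := triv_rad h hJsimple ha hk (fun h => hak h.symm) y hyJ
        obtain ⟨v, hv⟩ := hyne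
        apply hv
        have h6 : ρ y v * v⁻¹ ∈ R := ⟨v, rfl⟩
        have h7 := eq_one_of_fix hV hyodd h6 (h5 _ (hRrad h6))
        exact mul_inv_eq_one.1 h7
    · -- `|[M, y]| ≥ 2 ^ (8 e)`
      obtain ⟨d₂, hd₂, hk₂⟩ := card_inv hV hr hy (W := R ⊓ P) inf_le_left (by
        rintro w ⟨hw1, hw2⟩
        exact ⟨hRinv w hw1, hPinv y hyJ w hw2⟩)
      have h3 : E.map (cm ρ y) ≤ R ⊓ P := by
        rintro _ ⟨w, hw, rfl⟩
        refine ⟨⟨w, rfl⟩, hEP ?_⟩
        exact mul_mem (hEinv y hyJ w hw) (inv_mem hw)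
      have h4 : 2 ^ d₁ ≤ 2 ^ d₂ := by
        rw [← hcE, ← hd₂]
        exact Nat.card_le_card_of_injective _ (Subgroup.inclusion_injective h3)
      have h5 := (Nat.pow_le_pow_iff_right (by norm_num)).1 h4
      have h6 : d₂ < d := by
        rw [← Nat.pow_lt_pow_iff_right (a := 2) (by norm_num), ← hcR, ← hd₂]
        refine lt_of_le_of_ne (Nat.card_le_card_of_injective _ (Subgroup.inclusion_injective inf_le_left)) ?_
        intro h7
        apply hRP
        rw [← inf_eq_left]
        exact Subgroup.eq_of_le_of_card_ge inf_le_left h7.ge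
      obtain ⟨u₂, hu₂⟩ := hk₂
      obtain ⟨u, hu⟩ := hkR
      have h7 : 8 * e ≤ d := by
        have h8 : 1 ≤ u₂ := by
          by_contra hcon
          have : u₂ = 0 := by omega
          rw [this, mul_zero] at hu₂
          omega
        have h9 : u₂ < u := by
          rw [hu₂, hu] at h6
          exact Nat.lt_of_mul_lt_mul_left h6
        have h10 : 4 * e * 2 ≤ 4 * e * u := Nat.mul_le_mul_left _ (by omega)
        rw [hu]; linarith
      rcases hbound with h10 | ⟨F, iF, iF', iC, h4F, ⟨eF⟩, h10⟩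
      · have h11 : (2 : ℕ) ^ c ≤ 2 ^ (e + 3) := by
          rw [pow_add]
          exact hA0.trans (Nat.mul_le_mul_left _ h10)
        have := (Nat.pow_le_pow_iff_right (by norm_num)).1 h11
        omega
      · obtain ⟨k, hk, hFk⟩ := T1Sl2.card_pow F
        have h11 : (2 : ℕ) ^ c ≤ 2 ^ (e + (k + 1)) := by
          rw [pow_add, pow_succ' 2 k, ← hFk]
          exact hA0.trans (Nat.mul_le_mul_left _ h10)
        have h12 := (Nat.pow_le_pow_iff_right (by norm_num)).1 h11
        obtain ⟨r', hr', y', hy'L, hy'⟩ := exists_sl2 eF hFk (by omega)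
        have hy'1 := ne_one_of_orderOf hr' hy'
        have hy'odd := odd_of_orderOf hr' hy'
        obtain ⟨d', hd', hcR', hkR'⟩ := card_range hV hr' hy' (exists_ne h hy'1)
        have hd'k : d' = 2 * k := by
          have h13 : Nat.card (cm ρ y').range ≤ Nat.card M := by
            rw [← Subgroup.card_top (G := M)]
            exact Nat.card_le_card_of_injective _ (Subgroup.inclusion_injective le_top)
          rw [hcR', hM] at h13
          have h14 := (Nat.pow_le_pow_iff_right (by norm_num)).1 h13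
          obtain ⟨u', hu'⟩ := hkR'
          have h15 : u' < 2 := by
            by_contra hcon
            push Not at hcon
            have : 2 * k * 2 ≤ 2 * k * u' := Nat.mul_le_mul_left _ hcon
            omega
          have h16 : u' ≠ 0 := by
            rintro rfl
            rw [mul_zero] at hu'
            omega
          have h17 : u' = 1 := by omega
          rw [hu', h17, mul_one]
        rw [hd'k] at hcR'
        -- `J` centralises `[M, y']`
        have htwo : Even (Nat.card J) := by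
          rw [hQ.card, hQe]
          have : Even (2 ^ e) := (Nat.even_pow' (by omega)).2 even_two
          exact (((this.pow_of_ne_zero (by norm_num)).mul_left _)).mul_right _
        have : Fact (Nat.Prime 2) := ⟨Nat.prime_two⟩
        obtain ⟨t, ht⟩ := exists_prime_orderOf_dvd_card' (G := J) 2 htwo.two_dvd
        have ht2 : (t : X) * t = 1 := by
          have := pow_orderOf_eq_one t
          rw [ht, pow_two] at this
          exact congrArg Subtype.val this
        have ht1 : (t : X) ≠ 1 := by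
          intro h13
          have : t = 1 := Subtype.ext h13
          rw [this, orderOf_one] at ht
          omega
        have h13 := fix_range hV hr' hy' hcR' ht2 (hJL t t.2 y' hy'L)
        have h14 := fix_of_one hJsimple (W := (cm ρ y').range)
          (fun g hg w hw => apply_mem_range ρ (hJL g hg y' hy'L) hw) t.2 ht1 h13 y hyJ
        -- `y` centralises `C_M(y')`
        have h15 : ∀ w ∈ fx ρ y', ρ y w = w := by
          refine fix_of_card_lt hV hr hy ?_ ?_
          · intro w hw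
            change ρ y' w = w at hw
            change ρ y' (ρ y w) = ρ y w
            rw [← MulAut.mul_apply, ← map_mul, ← hJL y hyJ y' hy'L, map_mul, MulAut.mul_apply, hw]
          · have h16 := (fx ρ y').card_mul_index
            rw [← card_range_cm, hcR', hM] at h16
            have h17 : c + m + 2 < 4 * e + 2 * k := by omega
            have h18 : Nat.card (fx ρ y') * 2 ^ (2 * k) < 2 ^ (4 * e) * 2 ^ (2 * k) := by
              rw [h16, ← pow_add]
              exact Nat.pow_lt_pow_right (by norm_num) h17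
            exact Nat.lt_of_mul_lt_mul_right h18
        have h16 := eq_of_fix hV hy'odd (C := fx ρ y) h14 h15
        obtain ⟨v, hv⟩ := hyne
        apply hv
        have : v ∈ fx ρ y := by rw [h16]; trivial
        exact this

end Cfsg.Agent.OddCyclic.BTwoLin.SocleSz
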