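import Cfsg.Agent.OddCyclic.BTwoLin.Socle
import Cfsg.Agent.OddCyclic.BTwoLin.SocleSz

/-!
# Section 2 of blueprints/S0342-Ba-helper208.md: the socle of `X`
-/

set_option autoImplicit false

namespace Cfsg.Agent.OddCyclic.BTwoLin

open Subgroup Cfsg Cfsg.Agent.OddCyclic.T1Defs Cfsg.Agent.LieExceptional.CITDefs Cfsg.Agent.OddCyclic.PumpMain

/-- **Section 2**: `X` has a unique minimal normal subgroup `K`, and `K` is `SL₂(q)`, `q ≥ 4` even, or `L₂(7)` -/
theorem Socle.main {X M : Type*} [Group X] [CommGroup M] {ρ : X →* MulAut M} {f : M → M → ZMod 2} {q : M → ZMod 2}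
    {A S : Subgroup X} {D : Subgroup M} {l : M} {c m : ℕ} [Finite X] [Finite M] (h : Lin ρ f q A S D l c m) :
    ∃ K : Subgroup X, K.Normal ∧ centralizer (K : Set X) = ⊥ ∧
      ((∃ (F : Type) (_ : Field F) (_ : Fintype F) (_ : CharP F 2), 4 ≤ Fintype.card F ∧
        Nonempty (K ≃* Matrix.SpecialLinearGroup (Fin 2) F)) ∨
      (c = 2 ∧ ∃ (F : Type) (_ : Field F) (_ : Fintype F), Fintype.card F = 7 ∧
        Nonempty (K ≃* Matrix.ProjectiveSpecialLinearGroup (Fin 2) F))) :=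
  Socle.main' h (fun _ hy hn => h.false_of_prime hy rfl hn) (fun _ hJ => SocleSz.no_suzuki h hJ)

end Cfsg.Agent.OddCyclic.BTwoLin
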