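import Cfsg.Agent.OddCyclic.BTwoLin.ConvHS
import Cfsg.Agent.OddCyclic.BTwoLin.ResultOne
import Cfsg.Agent.OddCyclic.BTwoLin.SocleMain
import Cfsg.Agent.OddCyclic.BTwoLin.FlagMain

/-!
# (E1), `b = 2`, nonsolvable 2-locals allowed: the final theorem

`main`: in the situation `BTwo T V z` (`V` of order four, `ws V z` nonabelian) in a group with cyclic odd Sylow
subgroups all of whose proper simple sections are known, `G` has 2-rank at most two or a normal subgroup of index two.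
-/

set_option autoImplicit false
set_option linter.dupNamespace false

namespace Cfsg.Agent.OddCyclic.BTwoLin.Final

open Subgroup Cfsg Cfsg.Agent.ZN Cfsg.Agent.MinSimple.Geo Cfsg.Agent.OddCyclic.GeoC
  Cfsg.Agent.OddCyclic.BTwoA
open Cfsg.Agent.OddCyclic.BTwoLin Cfsg.Agent.OddCyclic.BTwoLin.Rep Cfsg.Agent.OddCyclic.BTwoLin.Build

universe u

variable {G : Type u} [Group G] [Finite G] {T V : Subgroup G} {z : G}

/-- **(B-a)** -/
theorem main (h : BTwo T V z) (hK : KZeroCongr.KS G) :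
    PRankLE 2 2 G ∨ ∃ M : Subgroup G, M.Normal ∧ M.index = 2 := by
  rcases ResultOne.main h hK with h1 | ⟨q, hq, c, m, hq1, hqz, hdd, -, hws, hL⟩
  · exact h1
  exfalso
  obtain ⟨K, hKn, hKc, ⟨F, _, _, _, h4, ⟨e₀⟩⟩ | ⟨-, F, _, _, h7, ⟨e⟩⟩⟩ := Socle.main hL
  · rw [← Nat.card_eq_fintype_card] at h4
    obtain ⟨e, hS⟩ := SlEight.exists_sl hL hKn hKc h4 e₀
    by_cases hA : ims (sec h) (us V q) ≤ K
    · exact ConvEight.false_of_eight h hq hq1 hqz hS hA hdd hws
    · exact ConvHS.false_of_four h hq hq1 hqz hS hA hdd hws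
  · rw [← Nat.card_eq_fintype_card] at h7
    exact hL.false_of_seven hKn hKc h7 e

end Cfsg.Agent.OddCyclic.BTwoLin.Final
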