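import Cfsg.Agent.OddCyclic.BTwoLin.Defs
import Cfsg.Agent.OddCyclic.BTwoAdd.Three

/-!
# From the multiplicative to the additive module
-/

set_option autoImplicit false

namespace Cfsg.Agent.OddCyclic.BTwoLin

open Subgroup Cfsg.Agent.OddCyclic.T1Defs Cfsg.Agent.LieExceptional.CITDefs Cfsg.Agent.OddCyclic.PumpMain

variable {X M : Type*} [Group X] [CommGroup M]

/-- the action on `Additive M` -/
@[instance_reducible]
def act (ρ : X →* MulAut M) : DistribMulAction X (Additive M) where
  smul g x := Additive.ofMul (ρ g x.toMul)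
  one_smul x := by
    change Additive.ofMul (ρ 1 x.toMul) = x
    rw [map_one]; rfl
  mul_smul g k x := by
    change Additive.ofMul (ρ (g * k) x.toMul) = Additive.ofMul (ρ g (ρ k x.toMul))
    rw [map_mul]; rfl
  smul_zero g := by
    change Additive.ofMul (ρ g 1) = 0
    rw [map_one]; rfl
  smul_add g x y := by
    change Additive.ofMul (ρ g (x.toMul * y.toMul)) = Additive.ofMul (ρ g x.toMul * ρ g y.toMul)
    rw [map_mul]

variable {ρ : X →* MulAut M} {f : M → M → ZMod 2} {q : M → ZMod 2} {A S : Subgroup X} {D : Subgroup M} {l : M}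
  {c m : ℕ}

/-- `l^⊥` -/
def perpA (f : M → M → ZMod 2) (l : M) (h : ∀ x y w, f (x * y) w = f x w + f y w) (h1 : ∀ x y, f x y = f y x) :
    AddSubgroup (Additive M) where
  carrier := {x | f l x.toMul = 0}
  zero_mem' := by
    change f l 1 = 0
    have h2 := h 1 1 l
    rw [one_mul] at h2
    rw [h1]
    exact left_eq_add.1 h2
  add_mem' := fun {a b} ha hb => by
    change f l (a.toMul * b.toMul) = 0
    rw [h1, h, h1 _ l, h1 _ l, show f l a.toMul = 0 from ha, show f l b.toMul = 0 from hb, add_zero]
  neg_mem' := fun {a} ha => by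
    change f l (a.toMul)⁻¹ = 0
    have h2 := h a.toMul (a.toMul)⁻¹ l
    have h3 := h 1 1 l
    rw [one_mul] at h3
    rw [mul_inv_cancel, left_eq_add.1 h3, h1 _ l, h1 _ l, show f l a.toMul = 0 from ha, zero_add] at h2
    exact h2.symm

theorem zadd : ∀ a b : ZMod 2, a ≠ 0 → b ≠ 0 → a + b = 0 := by decide

theorem Lin.four (h : Lin ρ f q A S D l c m) : 4 ≤ Nat.card A := by
  rw [h.card_A]
  calc 4 = 2 ^ 2 := by norm_num
    _ ≤ 2 ^ c := Nat.pow_le_pow_right (by norm_num) h.two_le

theorem Lin1.mul_self (h : Lin1 ρ f q A S D l c m) (x : M) : x * x = 1 := h.form.sq x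

theorem Lin1.inv_eq (h : Lin1 ρ f q A S D l c m) (x : M) : x⁻¹ = x := inv_eq_of_mul_eq_one_left (h.form.sq x)

theorem Lin1.f_one_left (h : Lin1 ρ f q A S D l c m) (w : M) : f 1 w = 0 := by
  have h2 := h.form.f_mul 1 1 w
  rw [one_mul] at h2
  exact left_eq_add.1 h2

theorem Lin1.q_one (h : Lin1 ρ f q A S D l c m) : q 1 = 0 := by
  have h2 := h.form.q_mul 1 1
  rw [one_mul, h.f_one_left, add_zero] at h2
  exact left_eq_add.1 h2

theorem Lin1.f_self (h : Lin1 ρ f q A S D l c m) (x : M) : f x x = 0 := by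
  have h2 := h.form.q_mul x x
  rw [h.form.sq, h.q_one] at h2
  have : ∀ a b : ZMod 2, 0 = a + a + b → b = 0 := by decide
  exact this _ _ h2

theorem Lin1.card_perp [Finite M] (h : Lin1 ρ f q A S D l c m) :
    Nat.card (perpA f l h.form.f_mul h.form.f_symm) = Nat.card D * Nat.card A := by
  classical
  obtain ⟨x, hx⟩ := h.exists_not
  set H := perpA f l h.form.f_mul h.form.f_symm with hH
  let F : Bool × H → M := fun p => (if p.1 then x else 1) * Additive.toMul p.2.1
  have hl : ∀ u v, f l (u * v) = f l u + f l v := fun u v => by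
    rw [h.form.f_symm, h.form.f_mul, h.form.f_symm u, h.form.f_symm v]
  have hF : Function.Bijective F := by
    constructor
    · rintro ⟨i, a⟩ ⟨j, b⟩ hab
      have ha : f l (Additive.toMul a.1) = 0 := a.2
      have hb : f l (Additive.toMul b.1) = 0 := b.2
      have hab' : (if i then x else 1) * Additive.toMul a.1 = (if j then x else 1) * Additive.toMul b.1 := hab
      have h1 := congrArg (f l) hab'
      rw [hl, hl, ha, hb, add_zero, add_zero] at h1
      have h0 : f l 1 = 0 := by rw [h.form.f_symm, h.f_one_left]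
      have hij : i = j := by
        cases i <;> cases j
        · rfl
        · simp only [Bool.false_eq_true, if_false, if_true] at h1
          exact absurd (h1.symm.trans h0) hx
        · simp only [Bool.false_eq_true, if_false, if_true] at h1
          exact absurd (h1.trans h0) hx
        · rfl
      subst hij
      have h2 : Additive.toMul a.1 = Additive.toMul b.1 := mul_left_cancel hab'
      exact Prod.ext rfl (Subtype.ext h2)
    · intro y
      by_cases hy : f l y = 0
      · exact ⟨(false, ⟨Additive.ofMul y, hy⟩), by simp [F]⟩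
      · refine ⟨(true, ⟨Additive.ofMul (x * y), ?_⟩), ?_⟩
        · change f l (x * y) = 0
          rw [hl]
          exact zadd _ _ hx hy
        · change x * (x * y) = y
          rw [← mul_assoc, h.form.sq, one_mul]
  have h1 := Nat.card_congr (Equiv.ofBijective F hF)
  rw [Nat.card_prod, Nat.card_eq_fintype_card (α := Bool), Fintype.card_bool, h.card_M] at h1
  rw [h.card_D, h.card_A, ← pow_add]
  have h2 : 2 * Nat.card H = 2 * 2 ^ (m + 1 + c) := by
    rw [h1, ← pow_succ']
    congr 1
    ring
  omega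

theorem Lin.toAdd [Finite X] [Finite M] (h : Lin ρ f q A S D l c m) :
    @BTwoAdd.Lin (Additive M) _ X _ (act ρ) (fun x y => f x.toMul y.toMul) S A
      (perpA f l h.form.f_mul h.form.f_symm) (Subgroup.toAddSubgroup D) (Additive.ofMul l) := by
  let _ : DistribMulAction X (Additive M) := act ρ
  have hsm : ∀ (g : X) (x : Additive M), g • x = Additive.ofMul (ρ g x.toMul) := fun _ _ => rfl
  have hadd : ∀ x y : Additive M, x + y = Additive.ofMul (x.toMul * y.toMul) := fun _ _ => rfl
  have hS : IsPGroup 2 S := h.sylS.two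
  have hlfix : ∀ a ∈ A, ρ a l = l := fun a ha => h.l_fix a (le_normalizer (h.A_le ha))
  have hinv : ∀ x : M, x⁻¹ = x := h.inv_eq
  have hcomm : ∀ (a : X) (x : M), Additive.toMul (a • Additive.ofMul x + Additive.ofMul x) = ρ a x * x⁻¹ := by
    intro a x
    rw [hinv]; rfl
  refine ⟨⟨?_, ?_, ?_, ?_, ?_, ?_, ?_, ?_, ?_, ?_, ?_, ?_, ?_, ?_⟩, ?_, ?_, ?_, ?_, ?_, ?_, ?_, ?_, ?_, ?_, ?_, ?_, ?_, ?_,
    ?_, ?_, ?_, ?_, ?_⟩
  · intro x; exact h.form.sq x.toMul
  · intro h1; exact h.l_ne h1
  · exact h.l_mem
  · intro d hd; exact h.D_perp _ hd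
  · intro x x' hx hx'
    change f l (x.toMul * x'.toMul) = 0
    rw [h.form.f_symm, h.form.f_mul, h.form.f_symm _ l, h.form.f_symm _ l]
    exact zadd _ _ hx hx'
  · obtain ⟨x, hx⟩ := h.exists_not
    exact ⟨Additive.ofMul x, hx⟩
  · exact h.A_sq
  · intro w hw w' hw'
    have h1 := h.A_sq _ (mul_mem hw hw')
    have h2 := h.A_sq _ hw
    have h3 := h.A_sq _ hw'
    calc w * w' = w * w' * (w' * w) * (w' * w)⁻¹ := by group
      _ = w * (w' * w') * w * (w' * w)⁻¹ := by group
      _ = (w' * w)⁻¹ := by rw [h3, mul_one, h2, one_mul]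
      _ = w⁻¹ * w'⁻¹ := by group
      _ = w' * w := by
        have e1 : w⁻¹ = w := inv_eq_of_mul_eq_one_left h2
        have e2 : w'⁻¹ = w' := inv_eq_of_mul_eq_one_left h3
        have e3 : (w * w')⁻¹ = w * w' := inv_eq_of_mul_eq_one_left h1
        rw [mul_inv_rev, e1, e2] at e3
        rw [e1, e2, e3]
  · intro w hw; exact hlfix w hw
  · intro x hx w hw hw1 hd
    exact hw1 (h.out _ hx w hw (by rw [← hcomm]; exact hd))
  · intro x w hw
    change f l (ρ w x.toMul * x.toMul) = 0
    rw [h.form.f_symm, h.form.f_mul, h.form.f_symm _ l, h.form.f_symm _ l]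
    have h1 := h.form.f_inv w l x.toMul
    rw [hlfix w hw] at h1
    rw [h1]
    have : ∀ a : ZMod 2, a + a = 0 := by decide
    exact this _
  · intro x hx w hw
    have h1 := h.perp _ hx w hw
    rw [← hcomm] at h1
    exact h1
  · intro d hd w hw
    rcases h.dfix (Additive.toMul d) hd w hw with h1 | h1
    · left
      change ρ w d.toMul * d.toMul = 1
      rw [h1, h.form.sq]
    · right
      change ρ w d.toMul * d.toMul = l
      rw [h1, mul_assoc, h.form.sq, mul_one]
  · intro d hd hfix
    rcases h.dcen (Additive.toMul d) hd (fun a ha => hfix a ha) with h1 | h1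
    · exact Or.inl h1
    · exact Or.inr h1
  · intro w x y
    change f w.toMul (x.toMul * y.toMul) = _
    rw [h.form.f_symm, h.form.f_mul, h.form.f_symm _ w.toMul, h.form.f_symm _ w.toMul]
  · intro x y; exact h.form.f_symm _ _
  · intro x; exact h.f_self _
  · intro g x y; exact h.form.f_inv _ _ _
  · intro x
    change f l x.toMul = 0 ↔ f x.toMul l = 0
    rw [h.form.f_symm]
  · exact hS
  · exact h.A_le
  · exact h.A_norm
  · intro g hg; exact h.l_fix g hg
  · intro g hg
    exact h.faith g fun x => hg (Additive.ofMul x)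
  · intro N hN hNg
    have h1 := h.gen (Subgroup.toAddSubgroup.symm N) fun g => hNg g _ hN
    rw [eq_top_iff]
    intro x _
    have h2 : (x.toMul : M) ∈ Subgroup.toAddSubgroup.symm N := by rw [h1]; trivial
    exact h2
  · exact h.o2
  · intro g hg; exact h.three g hg
  · intro d hd hdx
    exact h.rad_D _ hd fun x => hdx (Additive.ofMul x)
  · intro x hx a ha
    exact h.rad_A _ (fun x' => hx (Additive.ofMul x')) a ha
  · exact h.toLin1.card_perp
  · change Nat.card D ≤ _
    rw [h.card_D, h.card_A, ← pow_succ']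
    exact Nat.pow_le_pow_right (by norm_num) (by have := h.m_le; omega)
  · exact h.four
  · exact h.cyc

end Cfsg.Agent.OddCyclic.BTwoLin
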