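import Cfsg.Agent.OddCyclic.BTwoLin.FitAdd
import Cfsg.Agent.OddCyclic.FFStruct
import Cfsg.Agent.OddCyclic.CaseESz
import Cfsg.Agent.Lib.Zsigmondy

/-!
# Section 1 of blueprints/S0342-Ba-helper208.md: `X` has no normal subgroup of prime order
-/

set_option autoImplicit false

namespace Cfsg.Agent.OddCyclic.BTwoLin

open Subgroup Cfsg Cfsg.Agent.OddCyclic.T1Defs Cfsg.Agent.LieExceptional.CITDefs Cfsg.Agent.OddCyclic.PumpMain
open Cfsg.Agent.OddCyclic.CompBasic Cfsg.Agent.OddCyclic.FFBasic Cfsg.Agent.OddCyclic.FFStruct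
open Cfsg.Agent.SignalizersComponents.Components

variable {X M : Type*} [Group X] [CommGroup M]

variable {ρ : X →* MulAut M} {f : M → M → ZMod 2} {q : M → ZMod 2} {A S : Subgroup X} {D : Subgroup M} {l : M}
  {c m : ℕ}

theorem Lin1.pCore_eq [Finite X] (h : Lin1 ρ f q A S D l c m) : pCore 2 X = ⊥ :=
  h.o2 _ (Cfsg.Agent.Lib.Cores.pCore_normal 2) (by
    have : Fact (Nat.Prime 2) := ⟨Nat.prime_two⟩
    exact Cfsg.Agent.Lib.Cores.pCore_isPGroup 2)

theorem isoSuzuki_congr {K L : Type*} [Group K] [Group L] (e : K ≃* L) (h : Cfsg.Lie.IsoSuzuki L) :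
    Cfsg.Lie.IsoSuzuki K := by
  obtain ⟨F, i1, i2, n, hn, hF, ⟨e'⟩⟩ := h
  exact ⟨F, i1, i2, n, hn, hF, ⟨e.trans e'⟩⟩

/-- components of order prime to 3 are Suzuki groups -/
theorem Lin1.suzuki [Finite X] (h : Lin1 ρ f q A S D l c m) {K : Subgroup X} (hK : IsComponent K)
    (h3 : ¬ 3 ∣ Nat.card K) : Cfsg.Lie.IsoSuzuki K := by
  have h1 := center_component h.cyc h.pCore_eq hK
  have h2 := h.comps K hK.2
  let e : K ⧸ center K ≃* K := (QuotientGroup.quotientMulEquivOfEq h1).trans QuotientGroup.quotientBot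
  refine isoSuzuki_congr e.symm ?_
  by_contra hn
  apply h3
  rw [← Nat.card_congr e.toEquiv]
  exact three_dvd_of_kZero h2 hn

/-- normal subgroups of prime order have order 3 -/
theorem Lin.eq_three [Finite X] [Finite M] (h : Lin ρ f q A S D l c m) {y : X} {r : ℕ} (hr : r.Prime)
    (hyo : orderOf y = r) (hyn : (zpowers y).Normal) : r = 3 ∧ ∃ a ∈ A, a * y ≠ y * a := by
  let _ : DistribMulAction X (Additive M) := act ρ
  have H := h.toAdd
  have hr2 : r ≠ 2 := by
    rintro rfl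
    have h1 := h.o2 _ hyn (IsPGroup.of_card (n := 1) (by rw [Nat.card_zpowers, hyo, pow_one]))
    rw [zpowers_eq_bot] at h1
    rw [h1, orderOf_one] at hyo
    omega
  have hN : BTwoAdd.Nrm y r := ⟨hr, hr2, hyo, fun g => hyn.conj_mem y (mem_zpowers y) g⟩
  exact ⟨H.r_eq_three hN, H.not_comm hN⟩

/-- **Section 1**: no normal subgroup of prime order -/
theorem Lin.false_of_prime [Finite X] [Finite M] (h : Lin ρ f q A S D l c m) {y : X} {r : ℕ} (hr : r.Prime)
    (hyo : orderOf y = r) (hyn : (zpowers y).Normal) : False := by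
  have hc := h.cyc
  have h2 := h.toLin1.pCore_eq
  obtain ⟨hr3, a, ha, hay⟩ := h.eq_three hr hyo hyn
  subst hr3
  have hy1 : y ≠ 1 := by
    rintro rfl
    rw [orderOf_one] at hyo
    omega
  have hyF : y ∈ fittingSubgroup X := by
    refine Cfsg.Agent.Lib.Cores.le_fittingSubgroup hyn ?_ (mem_zpowers y)
    let _ : CommGroup (zpowers y) := IsCyclic.commGroup
    infer_instance
  have hcyc := isCyclic_fitting hc h2
  -- `B = C_A(y)`
  set B := A ⊓ centralizer ({y} : Set X) with hBdef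
  have hBm : ∀ b, b ∈ B ↔ b ∈ A ∧ b * y = y * b := by
    intro b
    rw [hBdef, mem_inf, mem_centralizer_singleton_iff]
  have hinv : ∀ w ∈ A, w * y ≠ y * w → w * y * w⁻¹ = y⁻¹ := by
    intro w hw hne
    rcases FFRed.eq_or_inv Nat.prime_three hyo (h.A_sq w hw) (hyn.conj_mem y (mem_zpowers y) w) with h1 | h1
    · exact absurd h1 hne
    · exact h1
  have hprod : ∀ w ∈ A, w ∉ B → a * w ∈ B := by
    intro w hw hwB
    have h1 : w * y ≠ y * w := fun h3 => hwB ((hBm w).2 ⟨hw, h3⟩)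
    have h3 := hinv w hw h1
    have h4 := hinv a ha hay
    refine (hBm _).2 ⟨mul_mem ha hw, ?_⟩
    have h5 : (a * w) * y * (a * w)⁻¹ = y := by
      have : (a * w) * y * (a * w)⁻¹ = a * (w * y * w⁻¹) * a⁻¹ := by group
      rw [this, h3]
      have : a * y⁻¹ * a⁻¹ = (a * y * a⁻¹)⁻¹ := by group
      rw [this, h4, inv_inv]
    exact mul_inv_eq_iff_eq_mul.1 h5
  have hcardA : Nat.card A ≤ 2 * Nat.card B := by
    have hs : Function.Surjective (fun p : Bool × B => (⟨(if p.1 then a else 1) * p.2.1, by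
        refine mul_mem ?_ ((hBm _).1 p.2.2).1
        split
        · exact ha
        · exact one_mem _⟩ : A)) := by
      rintro ⟨w, hw⟩
      by_cases hwB : w ∈ B
      · exact ⟨(false, ⟨w, hwB⟩), by simp⟩
      · refine ⟨(true, ⟨a * w, hprod w hw hwB⟩), ?_⟩
        apply Subtype.ext
        change a * (a * w) = w
        rw [← mul_assoc, h.A_sq a ha, one_mul]
    have h1 := Nat.card_le_card_of_surjective _ hs
    rwa [Nat.card_prod, Nat.card_eq_fintype_card (α := Bool), Fintype.card_bool] at h1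
  have hB2 : 2 ≤ Nat.card B := by
    have := h.four
    omega
  -- `B` centralizes the Fitting subgroup
  have hBF : ∀ b ∈ B, ∀ x ∈ fittingSubgroup X, b * x = x * b := by
    intro b hb x hx
    by_contra hbx
    obtain ⟨r', y', hr', -, hyF', hyo', hyn', -, hay''⟩ := exists_inverted hc h2 (h.A_sq b ((hBm b).1 hb).1) hx hbx
    obtain ⟨h3', -⟩ := h.eq_three hr' hyo' hyn'
    subst h3'
    have h7 : orderOf (⟨y', hyF'⟩ : fittingSubgroup X) = orderOf (⟨y, hyF⟩ : fittingSubgroup X) := by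
      rw [Subgroup.orderOf_mk, Subgroup.orderOf_mk, hyo, hyo']
    have h8 := zpowers_eq_of_cyclic h7
    have h9 : (⟨y', hyF'⟩ : fittingSubgroup X) ∈ zpowers (⟨y, hyF⟩ : fittingSubgroup X) := by
      rw [← h8]; exact mem_zpowers _
    obtain ⟨k, hk'⟩ := h9
    have h10 : y ^ k = y' := congrArg Subtype.val hk'
    apply hay''
    rw [← h10]
    exact (Commute.zpow_right (show Commute b y from ((hBm b).1 hb).2) k).eq
  -- components are Suzuki groups
  have hsz : ∀ K : Subgroup X, IsComponent K → Cfsg.Lie.IsoSuzuki K := by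
    intro K hK
    refine h.suzuki hK fun h7 => ?_
    have h8 := mem_of_orderOf hc Nat.prime_three (by norm_num) (component_normal hc hK) h7 hyo
    have h9 : y ∈ centralizer (K : Set X) := by
      rw [mem_centralizer_iff]
      intro k hk'
      have h10 := layer_le_centralizer_fitting (component_le_layer hK hk')
      exact ((mem_centralizer_iff.mp h10) y hyF).symm
    exact hy1 (inter_centralizer hc h2 hK y h8 h9)
  -- the component `K`
  obtain ⟨b₀, hb₀, hb₀1⟩ : ∃ b ∈ B, b ≠ 1 := by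
    by_contra hcon
    push Not at hcon
    have : B = ⊥ := (eq_bot_iff_forall B).2 hcon
    rw [this, card_bot] at hB2
    omega
  obtain ⟨K, hK, hb₀K⟩ : ∃ K : Subgroup X, IsComponent K ∧ b₀ ∉ centralizer (K : Set X) := by
    by_contra hcon
    push Not at hcon
    exact hb₀1 (eq_one_of_centralizes h2 (h.A_sq b₀ ((hBm _).1 hb₀).1) (hBF b₀ hb₀) hcon)
  have hKn := component_normal hc hK
  obtain ⟨Q, hQ⟩ := CaseESz.szK (hsz K hK)
  have hBK : B ≤ K := by
    intro b hb
    have hbb := h.A_sq b ((hBm b).1 hb).1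
    have h3 := hQ.inner b (by rw [normalizer_eq_top]; trivial) ⟨1, by rw [pow_one, pow_two]; exact hbb⟩
    rw [mem_sup_of_normal_left] at h3
    obtain ⟨e, he, k, hk, hek⟩ := h3
    have hcomm : e * k = k * e := (mem_centralizer_iff.mp hk) e he
    have hkk : k * k = 1 := by
      have h4 : e * e * (k * k) = 1 := by
        calc e * e * (k * k) = e * (e * k) * k := by group
          _ = e * (k * e) * k := by rw [hcomm]
          _ = (e * k) * (e * k) := by group
          _ = 1 := by rw [hek, hbb]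
      have h5 : k * k = (e * e)⁻¹ := (inv_eq_of_mul_eq_one_right h4).symm
      refine inter_centralizer hc h2 hK (k * k) ?_ (mul_mem hk hk)
      rw [h5]
      exact inv_mem (mul_mem he he)
    have hk1 : k = 1 := by
      have hke : k = e⁻¹ * b := by rw [← hek]; group
      refine eq_one_of_centralizes h2 hkk ?_ ?_
      · intro x hx
        have h10 := layer_le_centralizer_fitting (component_le_layer hK he)
        have h11 : e * x = x * e := ((mem_centralizer_iff.mp h10) x hx).symm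
        have h12 : e⁻¹ * x = x * e⁻¹ := (Commute.inv_left (show Commute e x from h11)).eq
        rw [hke, mul_assoc, hBF b hb x hx, ← mul_assoc, h12, mul_assoc]
      · intro K' hK'
        obtain ⟨Q', hQ'⟩ := CaseESz.szK (hsz K' hK')
        have : K' = K := component_eq hc h2 hK' hK (p := 5) (by norm_num) (by norm_num) hQ'.five hQ.five
        rw [this]
        exact hk
    rw [← hek, hk1, mul_one]
    exact he
  -- `|B| ≤ Q`
  have hB2p : IsPGroup 2 B := by
    rintro ⟨b, hb⟩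
    refine ⟨1, Subtype.ext ?_⟩
    change b ^ 2 ^ 1 = 1
    rw [pow_one, pow_two]
    exact h.A_sq b ((hBm b).1 hb).1
  obtain ⟨P, hP, hBP⟩ := Cfsg.Agent.LieExceptional.CITBasic.exists_isSyl2 K B hBK hB2p
  obtain ⟨Z, H', hZ⟩ := hQ.borel P hP
  have hBZ : B ≤ Z := fun b hb => (hZ.mem_Z b (hBP hb)).2 (h.A_sq b ((hBm b).1 hb).1)
  have hBQ : Nat.card B ≤ Q := by
    rw [← hZ.cardZ]
    exact Nat.card_le_card_of_injective _ (Subgroup.inclusion_injective hBZ)
  obtain ⟨n, hn, hQn⟩ := hQ.pow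
  -- the bound for `|M|`
  have hMle : Nat.card M ≤ 2 ^ (2 * (2 * n + 1) + 4) := by
    rw [h.card_M]
    have h3 : 2 ^ c ≤ 2 * 2 ^ (2 * n + 1) := by
      rw [← h.card_A, ← hQn]
      omega
    rw [← pow_succ'] at h3
    have h4 : c ≤ 2 * n + 1 + 1 := (Nat.pow_le_pow_iff_right (by norm_num)).1 h3
    exact Nat.pow_le_pow_right (by norm_num) (by have := h.m_le; omega)
  -- a primitive prime
  obtain ⟨p, hp, hp1, -, hp3⟩ := Lib.Zsigmondy.exists_primitive (a := 2) (n := 4 * (2 * n + 1)) le_rfl (by omega)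
    (fun h => by omega) (fun h => by omega)
  have hpne : p ≠ 2 := fun h => hp3 (by rw [h])
  have : Fact p.Prime := ⟨hp⟩
  have hpK : p ∣ Nat.card K := by
    have h3 : p ∣ 2 ^ (4 * (2 * n + 1)) - 1 := (hp1 _).2 dvd_rfl
    have h4 : ¬ p ∣ 2 ^ (2 * (2 * n + 1)) - 1 := fun h5 => by
      have := Nat.le_of_dvd (by omega) ((hp1 _).1 h5)
      omega
    have h5 : 2 ^ (4 * (2 * n + 1)) - 1 = (2 ^ (2 * (2 * n + 1)) - 1) * (Q ^ 2 + 1) := by
      have h6 : Q ^ 2 = 2 ^ (2 * (2 * n + 1)) := by rw [hQn, ← pow_mul, mul_comm]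
      rw [h6]
      have h7 : 2 ^ (4 * (2 * n + 1)) = 2 ^ (2 * (2 * n + 1)) * 2 ^ (2 * (2 * n + 1)) := by
        rw [← pow_add]; congr 1; ring
      rw [h7]
      have h8 : 1 ≤ 2 ^ (2 * (2 * n + 1)) := Nat.one_le_two_pow
      obtain ⟨t, ht⟩ := Nat.exists_eq_add_of_le h8
      rw [ht]
      have h9 : (1 + t) * (1 + t) = t * (1 + t + 1) + 1 := by ring
      rw [h9]
      simp
    rw [h5] at h3
    rcases (Nat.Prime.dvd_mul hp).1 h3 with h6 | h6
    · exact absurd h6 h4
    · rw [hQ.card]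
      exact Dvd.dvd.mul_right (Dvd.dvd.mul_right h6 _) _
  obtain ⟨g, hg⟩ := exists_prime_orderOf_dvd_card' (G := K) p hpK
  have hg' : orderOf (g : X) = p := by rw [Subgroup.orderOf_coe]; exact hg
  have hne : ∃ v, ρ (g : X) v ≠ v := by
    by_contra hcon
    push Not at hcon
    have h3 := h.faith _ hcon
    rw [h3, orderOf_one] at hg'
    exact hp.one_lt.ne hg'
  obtain ⟨d, hd, h5, h6⟩ := prim (ρ := ρ) h.form.sq hp hpne hg' hne
  have h7 : 4 * (2 * n + 1) ≤ d := Nat.le_of_dvd hd ((hp1 d).1 h6)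
  have h8 : (fx ρ (g : X)).index ≤ Nat.card M := Nat.le_of_dvd Nat.card_pos (fx ρ (g : X)).index_dvd_card
  rw [h5] at h8
  have h9 := (Nat.pow_le_pow_iff_right (by norm_num)).1 (h8.trans hMle)
  omega

/-- **Section 1**: the Fitting subgroup of `X` is trivial -/
theorem Lin.fitting_eq_bot [Finite X] [Finite M] (h : Lin ρ f q A S D l c m) : fittingSubgroup X = ⊥ := by
  by_contra hne
  have hcyc := isCyclic_fitting h.cyc h.toLin1.pCore_eq
  have hcard : Nat.card (fittingSubgroup X) ≠ 1 := fun h1 => hne ((Subgroup.card_eq_one).1 h1)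
  obtain ⟨p, hp, hpd⟩ := Nat.exists_prime_and_dvd hcard
  have : Fact p.Prime := ⟨hp⟩
  obtain ⟨⟨y, hyF⟩, hy⟩ := exists_prime_orderOf_dvd_card' (G := fittingSubgroup X) p hpd
  have hn : (fittingSubgroup X).Normal := Cfsg.Agent.Lib.Cores.fittingSubgroup_normal
  have hyo : orderOf y = p := by rw [← hy, Subgroup.orderOf_mk]
  refine h.false_of_prime hp hyo ⟨fun n hn' g => ?_⟩
  have h1 : g * y * g⁻¹ ∈ fittingSubgroup X := hn.conj_mem y hyF g
  have h3 : orderOf (⟨g * y * g⁻¹, h1⟩ : fittingSubgroup X) = orderOf (⟨y, hyF⟩ : fittingSubgroup X) := by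
    rw [Subgroup.orderOf_mk, Subgroup.orderOf_mk]
    exact (MulAut.conj g).orderOf_eq y
  have h4 := zpowers_eq_of_cyclic h3
  have h5 : g * y * g⁻¹ ∈ zpowers y := by
    have h6 : (⟨g * y * g⁻¹, h1⟩ : fittingSubgroup X) ∈ zpowers (⟨y, hyF⟩ : fittingSubgroup X) := by
      rw [← h4]; exact mem_zpowers _
    obtain ⟨k, hk⟩ := h6
    exact ⟨k, congrArg Subtype.val hk⟩
  obtain ⟨k, rfl⟩ := hn'
  show g * y ^ k * g⁻¹ ∈ zpowers y
  rw [← conj_zpow]
  exact zpow_mem h5 k

end Cfsg.Agent.OddCyclic.BTwoLin
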