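import Mathlib.LinearAlgebra.Matrix.SpecialLinearGroup
import Mathlib.LinearAlgebra.Matrix.Adjugate
import Mathlib.Data.ZMod.Basic
import Mathlib.Tactic

/-!
# `SL₃(2)`: unitriangular matrices, the two normal four-groups, the big cell
-/

set_option autoImplicit false

namespace Cfsg.Agent.OddCyclic.BTwoLin

open Matrix

/-- `SL₃(2)` -/
abbrev S3 : Type := SpecialLinearGroup (Fin 3) (ZMod 2)

/-- upper unitriangular matrices -/
def up (x y z : ZMod 2) : S3 := ⟨!![1, x, y; 0, 1, z; 0, 0, 1], by simp [det_fin_three]⟩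

/-- the longest element -/
def w0 : S3 := ⟨!![0, 0, 1; 0, 1, 0; 1, 0, 0], by simp [det_fin_three]⟩

/-- the predicate `upper unitriangular` -/
def IsUp (g : S3) : Prop := g.1 1 0 = 0 ∧ g.1 2 0 = 0 ∧ g.1 2 1 = 0

/-- the big cell -/
def IsBig (g : S3) : Prop := g.1 2 0 = 1 ∧ g.1 1 0 * g.1 2 1 - g.1 1 1 * g.1 2 0 = 1

theorem up_mul (x y z x' y' z' : ZMod 2) : up x y z * up x' y' z' = up (x + x') (y + y' + x * z') (z + z') := by
  apply Subtype.ext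
  change !![1, x, y; 0, 1, z; 0, 0, 1] * !![1, x', y'; 0, 1, z'; 0, 0, 1] =
    !![1, x + x', y + y' + x * z'; 0, 1, z + z'; 0, 0, 1]
  ext i j
  fin_cases i <;> fin_cases j <;> simp [Matrix.mul_apply, Fin.sum_univ_three] <;> ring

theorem up_zero : up 0 0 0 = 1 := by
  apply Subtype.ext
  change !![1, 0, 0; 0, 1, 0; 0, 0, 1] = (1 : Matrix (Fin 3) (Fin 3) (ZMod 2))
  ext i j
  fin_cases i <;> fin_cases j <;> rfl

theorem up_inj {x y z x' y' z' : ZMod 2} (h : up x y z = up x' y' z') : x = x' ∧ y = y' ∧ z = z' := by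
  have h1 := congrArg Subtype.val h
  exact ⟨congrFun (congrFun h1 0) 1, congrFun (congrFun h1 0) 2, congrFun (congrFun h1 1) 2⟩

theorem isUp_up (x y z : ZMod 2) : IsUp (up x y z) := ⟨rfl, rfl, rfl⟩

theorem det_bits (g : S3) : g.1 0 0 * g.1 1 1 * g.1 2 2 - g.1 0 0 * g.1 1 2 * g.1 2 1 -
    g.1 0 1 * g.1 1 0 * g.1 2 2 + g.1 0 1 * g.1 1 2 * g.1 2 0 + g.1 0 2 * g.1 1 0 * g.1 2 1 -
    g.1 0 2 * g.1 1 1 * g.1 2 0 = 1 := by
  have := g.2
  rwa [det_fin_three] at this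

theorem bits_up : ∀ a b c e f i : ZMod 2, a * e * i - a * f * 0 - b * 0 * i + b * f * 0 + c * 0 * 0 - c * e * 0 = 1 →
    a = 1 ∧ e = 1 ∧ i = 1 := by decide

theorem eq_up {g : S3} (h : IsUp g) : ∃ x y z, g = up x y z := by
  refine ⟨g.1 0 1, g.1 0 2, g.1 1 2, ?_⟩
  have h1 := det_bits g
  rw [h.1, h.2.1, h.2.2] at h1
  obtain ⟨h2, h3, h4⟩ := bits_up _ _ _ _ _ _ h1
  apply Subtype.ext
  ext i j
  fin_cases i <;> fin_cases j
  · exact h2
  · rfl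
  · rfl
  · exact h.1
  · exact h3
  · rfl
  · exact h.2.1
  · exact h.2.2
  · exact h4

theorem bits_big : ∀ a b c d e f g h i : ZMod 2, a * e * i - a * f * h - b * d * i + b * f * g + c * d * h -
    c * e * g = 1 → g = 1 → d * h - e * g = 1 →
    (b = a * h + (b + a * h) ∧ c = a * i + (b + a * h) * (f + d * i) + 1 ∧ e = d * h + 1 ∧
      f = d * i + (f + d * i)) := by decide

/-- the big cell is `U w₀ U` -/
theorem eq_of_big {g : S3} (h : IsBig g) : ∃ x y z x' y' z', g = up x y z * w0 * up x' y' z' := by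
  obtain ⟨h1, h2⟩ := h
  refine ⟨g.1 0 1 + g.1 0 0 * g.1 2 1, g.1 0 0, g.1 1 0, g.1 2 1, g.1 2 2, g.1 1 2 + g.1 1 0 * g.1 2 2, ?_⟩
  obtain ⟨h3, h4, h5, h6⟩ := bits_big _ _ _ _ _ _ _ _ _ (det_bits g) h1 h2
  apply Subtype.ext
  change g.1 = !![1, g.1 0 1 + g.1 0 0 * g.1 2 1, g.1 0 0; 0, 1, g.1 1 0; 0, 0, 1] *
    !![0, 0, 1; 0, 1, 0; 1, 0, 0] * !![1, g.1 2 1, g.1 2 2; 0, 1, g.1 1 2 + g.1 1 0 * g.1 2 2; 0, 0, 1]
  ext i j
  fin_cases i <;> fin_cases j <;> simp [Matrix.mul_apply, Fin.sum_univ_three]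
  · exact h3
  · exact h4
  · exact h5
  · exact h6
  · exact h1

end Cfsg.Agent.OddCyclic.BTwoLin
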