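import Cfsg.Agent.OddCyclic.BTwoLin.FlagBits

/-!
# `SL₃(2)`: outside the big cell a conjugate of an element of the four-group is unitriangular
-/

set_option autoImplicit false

namespace Cfsg.Agent.OddCyclic.BTwoLin

open Matrix

theorem bitsA : ∀ a b c d e f g h i : ZMod 2, a * e * i - a * f * h - b * d * i + b * f * g + c * d * h -
    c * e * g = 1 → ¬ (g = 1 ∧ d * h - e * g = 1) → ∃ α β : ZMod 2, (α = 1 ∨ β = 1) ∧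
    (((f * g - d * i) * (α * d + β * g) = 0 ∧ (d * h - e * g) * (α * d + β * g) = 0 ∧
      (d * h - e * g) * (α * e + β * h) = 0) ∨
     (d * (α * (f * g - d * i) + β * (d * h - e * g)) = 0 ∧ g * (α * (f * g - d * i) + β * (d * h - e * g)) = 0 ∧
      g * (α * (a * i - c * g) + β * (b * g - a * h)) = 0)) := by decide

theorem bitsB : ∀ a b c d e f g h i : ZMod 2, a * e * i - a * f * h - b * d * i + b * f * g + c * d * h -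
    c * e * g = 1 → ¬ (g = 1 ∧ d * h - e * g = 1) → ∃ β γ : ZMod 2, (β = 1 ∨ γ = 1) ∧
    (((β * (f * g - d * i) + γ * (a * i - c * g)) * g = 0 ∧ (β * (d * h - e * g) + γ * (b * g - a * h)) * g = 0 ∧
      (β * (d * h - e * g) + γ * (b * g - a * h)) * h = 0) ∨
     ((β * d + γ * e) * (d * h - e * g) = 0 ∧ (β * g + γ * h) * (d * h - e * g) = 0 ∧
      (β * g + γ * h) * (b * g - a * h) = 0)) := by decide

theorem entry_A_gen {R : Type*} [CommRing R] (g : Matrix (Fin 3) (Fin 3) R) (α β : R) :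
    (adjugate g * !![1, α, β; 0, 1, 0; 0, 0, 1] * g) 1 0 = (g 1 2 * g 2 0 - g 1 0 * g 2 2) * (α * g 1 0 + β * g 2 0) ∧
    (adjugate g * !![1, α, β; 0, 1, 0; 0, 0, 1] * g) 2 0 = (g 1 0 * g 2 1 - g 1 1 * g 2 0) * (α * g 1 0 + β * g 2 0) ∧
    (adjugate g * !![1, α, β; 0, 1, 0; 0, 0, 1] * g) 2 1 = (g 1 0 * g 2 1 - g 1 1 * g 2 0) * (α * g 1 1 + β * g 2 1) := by
  refine ⟨?_, ?_, ?_⟩ <;>
  · simp [Matrix.mul_apply, Fin.sum_univ_three, adjugate_fin_three]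
    ring

theorem entry_A (g : S3) (α β : ZMod 2) :
    (g⁻¹ * up α β 0 * g).1 1 0 = (g.1 1 2 * g.1 2 0 - g.1 1 0 * g.1 2 2) * (α * g.1 1 0 + β * g.1 2 0) ∧
    (g⁻¹ * up α β 0 * g).1 2 0 = (g.1 1 0 * g.1 2 1 - g.1 1 1 * g.1 2 0) * (α * g.1 1 0 + β * g.1 2 0) ∧
    (g⁻¹ * up α β 0 * g).1 2 1 = (g.1 1 0 * g.1 2 1 - g.1 1 1 * g.1 2 0) * (α * g.1 1 1 + β * g.1 2 1) :=
  entry_A_gen g.1 α β

theorem entry_A_gen' {R : Type*} [CommRing R] (g : Matrix (Fin 3) (Fin 3) R) (α β : R) :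
    (g * !![1, α, β; 0, 1, 0; 0, 0, 1] * adjugate g) 1 0 = g 1 0 * (α * (g 1 2 * g 2 0 - g 1 0 * g 2 2) + β * (g 1 0 * g 2 1 - g 1 1 * g 2 0)) ∧
    (g * !![1, α, β; 0, 1, 0; 0, 0, 1] * adjugate g) 2 0 = g 2 0 * (α * (g 1 2 * g 2 0 - g 1 0 * g 2 2) + β * (g 1 0 * g 2 1 - g 1 1 * g 2 0)) ∧
    (g * !![1, α, β; 0, 1, 0; 0, 0, 1] * adjugate g) 2 1 = g 2 0 * (α * (g 0 0 * g 2 2 - g 0 2 * g 2 0) + β * (g 0 1 * g 2 0 - g 0 0 * g 2 1)) := by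
  refine ⟨?_, ?_, ?_⟩ <;>
  · simp [Matrix.mul_apply, Fin.sum_univ_three, adjugate_fin_three]
    ring

theorem entry_A' (g : S3) (α β : ZMod 2) :
    (g * up α β 0 * g⁻¹).1 1 0 = g.1 1 0 * (α * (g.1 1 2 * g.1 2 0 - g.1 1 0 * g.1 2 2) + β * (g.1 1 0 * g.1 2 1 - g.1 1 1 * g.1 2 0)) ∧
    (g * up α β 0 * g⁻¹).1 2 0 = g.1 2 0 * (α * (g.1 1 2 * g.1 2 0 - g.1 1 0 * g.1 2 2) + β * (g.1 1 0 * g.1 2 1 - g.1 1 1 * g.1 2 0)) ∧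
    (g * up α β 0 * g⁻¹).1 2 1 = g.1 2 0 * (α * (g.1 0 0 * g.1 2 2 - g.1 0 2 * g.1 2 0) + β * (g.1 0 1 * g.1 2 0 - g.1 0 0 * g.1 2 1)) :=
  entry_A_gen' g.1 α β

theorem entry_B_gen {R : Type*} [CommRing R] (g : Matrix (Fin 3) (Fin 3) R) (β γ : R) :
    (adjugate g * !![1, 0, β; 0, 1, γ; 0, 0, 1] * g) 1 0 = (β * (g 1 2 * g 2 0 - g 1 0 * g 2 2) + γ * (g 0 0 * g 2 2 - g 0 2 * g 2 0)) * g 2 0 ∧
    (adjugate g * !![1, 0, β; 0, 1, γ; 0, 0, 1] * g) 2 0 = (β * (g 1 0 * g 2 1 - g 1 1 * g 2 0) + γ * (g 0 1 * g 2 0 - g 0 0 * g 2 1)) * g 2 0 ∧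
    (adjugate g * !![1, 0, β; 0, 1, γ; 0, 0, 1] * g) 2 1 = (β * (g 1 0 * g 2 1 - g 1 1 * g 2 0) + γ * (g 0 1 * g 2 0 - g 0 0 * g 2 1)) * g 2 1 := by
  refine ⟨?_, ?_, ?_⟩ <;>
  · simp [Matrix.mul_apply, Fin.sum_univ_three, adjugate_fin_three]
    ring

theorem entry_B (g : S3) (β γ : ZMod 2) :
    (g⁻¹ * up 0 β γ * g).1 1 0 = (β * (g.1 1 2 * g.1 2 0 - g.1 1 0 * g.1 2 2) + γ * (g.1 0 0 * g.1 2 2 - g.1 0 2 * g.1 2 0)) * g.1 2 0 ∧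
    (g⁻¹ * up 0 β γ * g).1 2 0 = (β * (g.1 1 0 * g.1 2 1 - g.1 1 1 * g.1 2 0) + γ * (g.1 0 1 * g.1 2 0 - g.1 0 0 * g.1 2 1)) * g.1 2 0 ∧
    (g⁻¹ * up 0 β γ * g).1 2 1 = (β * (g.1 1 0 * g.1 2 1 - g.1 1 1 * g.1 2 0) + γ * (g.1 0 1 * g.1 2 0 - g.1 0 0 * g.1 2 1)) * g.1 2 1 :=
  entry_B_gen g.1 β γ

theorem entry_B_gen' {R : Type*} [CommRing R] (g : Matrix (Fin 3) (Fin 3) R) (β γ : R) :
    (g * !![1, 0, β; 0, 1, γ; 0, 0, 1] * adjugate g) 1 0 = (β * g 1 0 + γ * g 1 1) * (g 1 0 * g 2 1 - g 1 1 * g 2 0) ∧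
    (g * !![1, 0, β; 0, 1, γ; 0, 0, 1] * adjugate g) 2 0 = (β * g 2 0 + γ * g 2 1) * (g 1 0 * g 2 1 - g 1 1 * g 2 0) ∧
    (g * !![1, 0, β; 0, 1, γ; 0, 0, 1] * adjugate g) 2 1 = (β * g 2 0 + γ * g 2 1) * (g 0 1 * g 2 0 - g 0 0 * g 2 1) := by
  refine ⟨?_, ?_, ?_⟩ <;>
  · simp [Matrix.mul_apply, Fin.sum_univ_three, adjugate_fin_three]
    ring

theorem entry_B' (g : S3) (β γ : ZMod 2) :
    (g * up 0 β γ * g⁻¹).1 1 0 = (β * g.1 1 0 + γ * g.1 1 1) * (g.1 1 0 * g.1 2 1 - g.1 1 1 * g.1 2 0) ∧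
    (g * up 0 β γ * g⁻¹).1 2 0 = (β * g.1 2 0 + γ * g.1 2 1) * (g.1 1 0 * g.1 2 1 - g.1 1 1 * g.1 2 0) ∧
    (g * up 0 β γ * g⁻¹).1 2 1 = (β * g.1 2 0 + γ * g.1 2 1) * (g.1 0 1 * g.1 2 0 - g.1 0 0 * g.1 2 1) :=
  entry_B_gen' g.1 β γ

variable (g : S3)

theorem not_bigA (h : ¬ IsBig g) : ∃ α β : ZMod 2, (α = 1 ∨ β = 1) ∧
    (IsUp (g⁻¹ * up α β 0 * g) ∨ IsUp (g * up α β 0 * g⁻¹)) := by
  obtain ⟨α, β, h1, h2⟩ := bitsA _ _ _ _ _ _ _ _ _ (det_bits g) h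
  refine ⟨α, β, h1, ?_⟩
  obtain ⟨a1, a2, a3⟩ := entry_A g α β
  obtain ⟨b1, b2, b3⟩ := entry_A' g α β
  rcases h2 with h2 | h2
  · exact Or.inl ⟨a1.trans h2.1, a2.trans h2.2.1, a3.trans h2.2.2⟩
  · exact Or.inr ⟨b1.trans h2.1, b2.trans h2.2.1, b3.trans h2.2.2⟩

theorem not_bigB (h : ¬ IsBig g) : ∃ β γ : ZMod 2, (β = 1 ∨ γ = 1) ∧
    (IsUp (g⁻¹ * up 0 β γ * g) ∨ IsUp (g * up 0 β γ * g⁻¹)) := by
  obtain ⟨β, γ, h1, h2⟩ := bitsB _ _ _ _ _ _ _ _ _ (det_bits g) h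
  refine ⟨β, γ, h1, ?_⟩
  obtain ⟨a1, a2, a3⟩ := entry_B g β γ
  obtain ⟨b1, b2, b3⟩ := entry_B' g β γ
  rcases h2 with h2 | h2
  · exact Or.inl ⟨a1.trans h2.1, a2.trans h2.2.1, a3.trans h2.2.2⟩
  · exact Or.inr ⟨b1.trans h2.1, b2.trans h2.2.1, b3.trans h2.2.2⟩

theorem w0_mul_w0 : w0 * w0 = 1 := by
  apply Subtype.ext
  change !![0, 0, 1; 0, 1, 0; 1, 0, 0] * !![0, 0, 1; 0, 1, 0; 1, 0, 0] = (1 : Matrix (Fin 3) (Fin 3) (ZMod 2))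
  ext i j
  fin_cases i <;> fin_cases j <;> simp [Matrix.mul_apply, Fin.sum_univ_three]

theorem w0_inv : w0⁻¹ = w0 := inv_eq_of_mul_eq_one_left w0_mul_w0

theorem conj_w0 (x y z : ZMod 2) : (w0 * up x y z * w0).1 = !![1, 0, 0; z, 1, 0; y, x, 1] := by
  change !![0, 0, 1; 0, 1, 0; 1, 0, 0] * !![1, x, y; 0, 1, z; 0, 0, 1] * !![0, 0, 1; 0, 1, 0; 1, 0, 0] =
    !![1, 0, 0; z, 1, 0; y, x, 1]
  ext i j
  fin_cases i <;> fin_cases j <;> simp [Matrix.mul_apply, Fin.sum_univ_three]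

theorem bits_xz : ∀ x y z : ZMod 2, (y = 1 ∧ z * x - 1 * y = 1) ↔ (y = 1 ∧ z * x = 0) := by decide

theorem isBig_conj (x y z : ZMod 2) : IsBig (w0 * up x y z * w0) ↔ (y = 1 ∧ z * x = 0) := by
  rw [IsBig, conj_w0, ← bits_xz]
  rfl

instance : DecidablePred IsUp := fun g => by unfold IsUp; infer_instance

instance : DecidablePred IsBig := fun g => by unfold IsBig; infer_instance

end Cfsg.Agent.OddCyclic.BTwoLin
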