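import Cfsg.Agent.OddCyclic.BTwoLin.Free
import Cfsg.Agent.OddCyclic.BTwoLin.FlagRel

/-!
# The orbit of a flag under `SL₃(2)` spans at least `2 ^ 8` vectors
-/

set_option autoImplicit false

namespace Cfsg.Agent.OddCyclic.BTwoLin

open Matrix

/-- the group of upper unitriangular matrices -/
def US : Subgroup S3 where
  carrier := {g | IsUp g}
  one_mem' := by rw [← up_zero]; exact isUp_up _ _ _
  mul_mem' := by
    intro a b ha hb
    obtain ⟨x, y, z, rfl⟩ := eq_up ha
    obtain ⟨x', y', z', rfl⟩ := eq_up hb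
    rw [up_mul]
    exact isUp_up _ _ _
  inv_mem' := by
    intro a ha
    obtain ⟨x, y, z, rfl⟩ := eq_up ha
    have h : up (-x) (-y + x * z) (-z) * up x y z = 1 := by
      rw [up_mul, ← up_zero]
      congr 1 <;> ring
    change IsUp (up x y z)⁻¹
    rw [inv_eq_of_mul_eq_one_left h]
    exact isUp_up _ _ _

theorem mem_US {g : S3} : g ∈ US ↔ IsUp g := Iff.rfl

/-- the parametrisation of `US` -/
noncomputable def usEquiv : ZMod 2 × ZMod 2 × ZMod 2 ≃ US :=
  Equiv.ofBijective (fun p => ⟨up p.1 p.2.1 p.2.2, isUp_up _ _ _⟩)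
    ⟨by
      rintro ⟨x, y, z⟩ ⟨x', y', z'⟩ h
      obtain ⟨h1, h2, h3⟩ := up_inj (congrArg Subtype.val h)
      exact Prod.ext h1 (Prod.ext h2 h3), by
      rintro ⟨g, hg⟩
      obtain ⟨x, y, z, rfl⟩ := eq_up hg
      exact ⟨(x, y, z), rfl⟩⟩

theorem card_US : Nat.card US = 8 := by
  rw [← Nat.card_congr usEquiv, Nat.card_prod, Nat.card_prod, Nat.card_zmod]

theorem sum_bits : ∑ p : ZMod 2 × ZMod 2 × ZMod 2, (if p.2.1 = 1 ∧ p.2.2 * p.1 = 0 then (1 : ZMod 2) else 0) = 1 := by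
  decide

variable {M : Type*} [AddCommGroup M] [DistribMulAction S3 M]

theorem conj_fix {Γ X : Type*} [Group Γ] [MulAction Γ X] (g a : Γ) (l : X) (h : (g⁻¹ * a * g) • l = l) :
    a • (g • l) = g • l := by
  have h1 : a * g = g * (g⁻¹ * a * g) := by group
  rw [← mul_smul, h1, mul_smul, h]

theorem conj_fix' {Γ X : Type*} [Group Γ] [MulAction Γ X] (g a : Γ) (l : X) (h : (g * a * g⁻¹) • l = l) :
    a • (g⁻¹ • l) = g⁻¹ • l := by
  have h1 : a * g⁻¹ = g⁻¹ * (g * a * g⁻¹) := by group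
  rw [← mul_smul, h1, mul_smul, h]

/-- the four-group condition: one of the two normal four-groups of `US` -/
def Four (P : S3 → Prop) : Prop :=
  (∀ α β : ZMod 2, (α = 1 ∨ β = 1) → P (up α β 0)) ∨ (∀ β γ : ZMod 2, (β = 1 ∨ γ = 1) → P (up 0 β γ))

theorem core [Finite M] (two : ∀ m : M, m + m = 0) (f : M → M → ZMod 2)
    (add_right : ∀ w x y, f w (x + y) = f w x + f w y) (symm : ∀ x y, f x y = f y x)
    (inv : ∀ (g : S3) x y, f (g • x) (g • y) = f x y) (l : M) (fix : ∀ g, IsUp g → g • l = l)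
    (hA : Four fun a => ∀ x : M, a • x = x → f x l = 0) (hne : ∃ g : S3, f l (g • l) ≠ 0) :
    2 ^ 8 ≤ Nat.card M := by
  classical
  -- outside the big cell
  have key1 : ∀ g a : S3, (∀ x : M, a • x = x → f x l = 0) → (IsUp (g⁻¹ * a * g) ∨ IsUp (g * a * g⁻¹)) →
      f l (g • l) = 0 := by
    intro g a ha h
    rcases h with h | h
    · rw [symm]
      exact ha _ (conj_fix g a l (fix _ h))
    · have h3 := ha _ (conj_fix' g a l (fix _ h))
      rw [← inv g, smul_inv_smul] at h3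
      exact h3
  have key2 : ∀ g : S3, ¬ IsBig g → f l (g • l) = 0 := by
    intro g hg
    rcases hA with hA | hA
    · obtain ⟨α, β, h1, h2⟩ := not_bigA g hg
      exact key1 g _ (hA α β h1) h2
    · obtain ⟨β, γ, h1, h2⟩ := not_bigB g hg
      exact key1 g _ (hA β γ h1) h2
  -- inside
  have key3 : ∀ g : S3, IsBig g → f l (g • l) = f l (w0 • l) := by
    intro g hg
    obtain ⟨x, y, z, x', y', z', rfl⟩ := eq_of_big hg
    rw [mul_smul, fix _ (isUp_up x' y' z'), mul_smul]
    have h := inv (up x y z) l (w0 • l)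
    rwa [fix _ (isUp_up x y z)] at h
  have key4 : f l (w0 • l) = 1 := by
    obtain ⟨g, hg⟩ := hne
    by_cases hb : IsBig g
    · rw [key3 g hb] at hg
      rcases zmod_two_cases (f l (w0 • l)) with h | h
      · exact absurd h hg
      · exact h
    · exact absurd (key2 g hb) hg
  have key5 : ∀ g : S3, f l (g • l) = if IsBig g then 1 else 0 := by
    intro g
    by_cases hb : IsBig g
    · rw [if_pos hb, key3 g hb, key4]
    · rw [if_neg hb, key2 g hb]
  have : Fintype US := Fintype.ofFinite _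
  have hsum : ∑ u : US, f (w0 • l) (u • (w0 • l)) = 1 := by
    rw [← sum_bits]
    symm
    refine Fintype.sum_equiv usEquiv _ _ fun p => ?_
    have h1 : (usEquiv p : S3) = up p.1 p.2.1 p.2.2 := rfl
    have h2 : f (w0 • l) ((usEquiv p) • (w0 • l)) = f l ((w0 * up p.1 p.2.1 p.2.2 * w0) • l) := by
      have h3 : (usEquiv p) • (w0 • l) = up p.1 p.2.1 p.2.2 • (w0 • l) := rfl
      rw [h3, ← inv w0, ← mul_smul, w0_mul_w0, one_smul, ← mul_smul, ← mul_smul]
    rw [h2, key5]
    by_cases h : p.2.1 = 1 ∧ p.2.2 * p.1 = 0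
    · rw [if_pos h, if_pos ((isBig_conj _ _ _).2 h)]
    · rw [if_neg h, if_neg (fun h' => h ((isBig_conj _ _ _).1 h'))]
  have h8 : IsPGroup 2 US := IsPGroup.of_card (n := 3) (by rw [card_US]; norm_num)
  have := card_ge_of_odd two f add_right h8 (w0 • l) hsum
  rwa [card_US] at this

end Cfsg.Agent.OddCyclic.BTwoLin
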