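import Cfsg.Agent.OddCyclic.BTwoLin.FlagCore
import Cfsg.Agent.S0242
import Mathlib.GroupTheory.Sylow

/-!
# The case `L₃(2)` (21 flags)

`card_ge_of_sl3`: `Γ ≅ SL₃(2)` acts on an elementary abelian 2-group `M` with an invariant symmetric biadditive map
`f`; a Sylow 2-subgroup `T` fixes `l`, and a four-subgroup `A` of `T` satisfies `[x,a] = 0 → f x l = 0`
(`a ∈ A`, `a ≠ 1`). If `f l (g • l) ≠ 0` for some `g` then `|M| ≥ 2 ^ 8`.
-/

set_option autoImplicit false

namespace Cfsg.Agent.OddCyclic.BTwoLin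

open Matrix
open scoped Pointwise

theorem card_S3 : Nat.card S3 = 168 := by
  have h := Cfsg.Agent.S0242.result (F := ZMod 2) (q := 2) (ZMod.card 2) 3 (by norm_num)
  rw [Fin.prod_univ_three] at h
  have h1 : (2 ^ 3 - 2 ^ ((0 : Fin 3) : ℕ)) * (2 ^ 3 - 2 ^ ((1 : Fin 3) : ℕ)) * (2 ^ 3 - 2 ^ ((2 : Fin 3) : ℕ)) =
    168 := by decide
  rw [h1] at h
  rw [← h]
  exact (one_mul _).symm

/-- a subgroup of `US` of order 4 and exponent 2 is one of the two normal four-groups -/
theorem four_of_le {A : Subgroup S3} (hA : A ≤ US) (h4 : Nat.card A = 4) (h2 : ∀ a ∈ A, a * a = 1)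
    {P : S3 → Prop} (hP : ∀ a ∈ A, a ≠ 1 → P a) : Four P := by
  classical
  -- elements with `x * z = 0`
  have hxz : ∀ x y z : ZMod 2, up x y z ∈ A → x * z = 0 := by
    intro x y z h
    have h3 := h2 _ h
    rw [up_mul, ← up_zero] at h3
    have h4 := (up_inj h3).2.1
    have h5 : ∀ y : ZMod 2, y + y = 0 := by decide
    rwa [h5 y, zero_add] at h4
  have h01 : ∀ x z : ZMod 2, x ≠ 0 → z ≠ 0 → x * z ≠ 0 := by decide
  have hcard : ∀ φ : ZMod 2 × ZMod 2 → S3, Function.Injective φ → (∀ a ∈ A, a ∈ Set.range φ) →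
      ∀ p, φ p ∈ A := by
    intro φ hφ hr p
    have hfin : (Set.range φ).Finite := Set.finite_range φ
    have h5 : (A : Set S3).ncard = 4 := h4
    have h6 : (Set.range φ).ncard = 4 := by
      rw [← Set.image_univ, Set.ncard_image_of_injective _ hφ, Set.ncard_univ, Nat.card_prod, Nat.card_zmod]
    have h7 : (A : Set S3) = Set.range φ :=
      Set.eq_of_subset_of_ncard_le hr (by rw [h5, h6]) hfin
    have h8 : φ p ∈ (A : Set S3) := by rw [h7]; exact ⟨p, rfl⟩
    exact h8
  have hne : ∀ x y z : ZMod 2, (x = 1 ∨ y = 1 ∨ z = 1) → up x y z ≠ 1 := by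
    intro x y z h h'
    rw [← up_zero] at h'
    obtain ⟨h3, h4, h5⟩ := up_inj h'
    rw [h3, h4, h5] at h
    revert h
    decide
  by_cases hx : ∃ x y z, up x y z ∈ A ∧ z ≠ 0
  · obtain ⟨x, y, z, h, hz⟩ := hx
    -- then `A` consists of elements with `x = 0`
    have h0 : ∀ x' y' z', up x' y' z' ∈ A → x' = 0 := by
      intro x' y' z' h'
      by_contra hx'
      have hz' : z' = 0 := by
        by_contra hc
        exact h01 _ _ hx' hc (hxz _ _ _ h')
      have hx0 : x = 0 := by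
        by_contra hc
        exact h01 _ _ hc hz (hxz _ _ _ h)
      have h3 := A.mul_mem h' h
      rw [up_mul] at h3
      have h4 := hxz _ _ _ h3
      rw [hz', hx0, add_zero, zero_add] at h4
      exact h01 _ _ hx' hz h4
    right
    intro β γ hbc
    apply hP
    · exact hcard (fun p => up 0 p.1 p.2) (by
        rintro ⟨a, b⟩ ⟨c, d⟩ h
        obtain ⟨-, h3, h4⟩ := up_inj h
        exact Prod.ext h3 h4) (by
        intro a ha
        obtain ⟨x', y', z', rfl⟩ := eq_up (hA ha)
        rw [h0 _ _ _ ha]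
        exact ⟨(y', z'), rfl⟩) (β, γ)
    · exact hne _ _ _ (Or.inr hbc)
  · push Not at hx
    left
    intro α β hab
    apply hP
    · exact hcard (fun p => up p.1 p.2 0) (by
        rintro ⟨a, b⟩ ⟨c, d⟩ h
        obtain ⟨h3, h4, -⟩ := up_inj h
        exact Prod.ext h3 h4) (by
        intro a ha
        obtain ⟨x', y', z', rfl⟩ := eq_up (hA ha)
        rw [hx _ _ _ ha]
        exact ⟨(x', y'), rfl⟩) (α, β)
    · exact hne _ _ _ (by tauto)

variable {Γ : Type*} [Group Γ] {M : Type*} [AddCommGroup M] [DistribMulAction Γ M]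

/-- an isomorphism onto `SL₃(2)` carrying a given subgroup of order 8 to `US` -/
theorem exists_equiv_us (e : Γ ≃* S3) {T : Subgroup Γ} (hT : Nat.card T = 8) :
    ∃ e' : Γ ≃* S3, ∀ t, t ∈ T ↔ IsUp (e' t) := by
  have hf : Fact (Nat.Prime 2) := ⟨Nat.prime_two⟩
  have hfac : 2 ^ (Nat.card S3).factorization 2 = 8 := by
    rw [card_S3]
    have h3 : (168 : ℕ) = 2 ^ 3 * 21 := by norm_num
    have h4 : (168 : ℕ).factorization 2 = 3 := by
      rw [h3, Nat.factorization_mul (by norm_num) (by norm_num), Finsupp.add_apply, Nat.factorization_pow,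
        Finsupp.smul_apply, Nat.Prime.factorization_self Nat.prime_two,
        Nat.factorization_eq_zero_of_not_dvd (show ¬ 2 ∣ 21 by norm_num)]
      rfl
    rw [h4]
    norm_num
  have h1 : Nat.card (T.map e.toMonoidHom) = 2 ^ (Nat.card S3).factorization 2 := by
    rw [hfac, ← hT]
    exact Nat.card_congr (T.equivMapOfInjective e.toMonoidHom e.injective).toEquiv.symm
  have h2 : Nat.card US = 2 ^ (Nat.card S3).factorization 2 := by rw [hfac, card_US]
  obtain ⟨g, hg⟩ := MulAction.exists_smul_eq S3 (Sylow.ofCard _ h1) (Sylow.ofCard _ h2)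
  refine ⟨e.trans (MulAut.conj g), fun t => ?_⟩
  have h3 := congrArg (fun P : Sylow 2 S3 => (P : Subgroup S3)) hg
  simp only [Sylow.coe_subgroup_smul, Sylow.coe_ofCard] at h3
  rw [← mem_US, ← h3]
  change t ∈ T ↔ MulAut.conj g (e t) ∈ MulAut.conj g • T.map e.toMonoidHom
  rw [Subgroup.mem_pointwise_smul_iff_inv_smul_mem]
  have h4 : (MulAut.conj g)⁻¹ • (MulAut.conj g (e t)) = e t := by
    rw [MulAut.smul_def, MulAut.inv_apply_self]
  rw [h4]
  constructor
  · intro h
    exact ⟨t, h, rfl⟩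
  · rintro ⟨s, hs, hst⟩
    have h5 : s = t := e.injective hst
    rwa [← h5]

theorem card_ge_of_sl3 [Finite M] (e : Γ ≃* S3) (two : ∀ m : M, m + m = 0) (f : M → M → ZMod 2)
    (add_right : ∀ w x y, f w (x + y) = f w x + f w y) (symm : ∀ x y, f x y = f y x)
    (inv : ∀ (g : Γ) x y, f (g • x) (g • y) = f x y) (l : M) {T A : Subgroup Γ} (hT : Nat.card T = 8)
    (fix : ∀ t ∈ T, t • l = l) (hAT : A ≤ T) (hA4 : Nat.card A = 4) (hA2 : ∀ a ∈ A, a * a = 1)
    (hA : ∀ a ∈ A, a ≠ 1 → ∀ x : M, a • x = x → f x l = 0) (hne : ∃ g : Γ, f l (g • l) ≠ 0) :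
    2 ^ 8 ≤ Nat.card M := by
  obtain ⟨e', he'⟩ := exists_equiv_us e hT
  let : DistribMulAction S3 M := DistribMulAction.compHom M e'.symm.toMonoidHom
  have hsm : ∀ (g : S3) (x : M), g • x = e'.symm g • x := fun g x => rfl
  apply core two f add_right symm (fun g x y => by rw [hsm, hsm, inv]) l
  · intro g hg
    rw [hsm]
    apply fix
    rw [he', e'.apply_symm_apply]
    exact hg
  · have h1 : Nat.card (A.map e'.toMonoidHom) = 4 := by
      rw [← hA4]
      exact Nat.card_congr (A.equivMapOfInjective e'.toMonoidHom e'.injective).toEquiv.symm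
    refine four_of_le (A := A.map e'.toMonoidHom) ?_ h1 ?_ ?_
    · rintro _ ⟨a, ha, rfl⟩
      exact (he' a).1 (hAT ha)
    · rintro _ ⟨a, ha, rfl⟩
      change e' a * e' a = 1
      rw [← map_mul, hA2 a ha, map_one]
    · rintro _ ⟨a, ha, rfl⟩ h1 x hx
      have h2 : a • x = x := by
        have h3 : (e'.toMonoidHom a) • x = a • x := by
          rw [hsm]
          change e'.symm (e' a) • x = a • x
          rw [e'.symm_apply_apply]
        rw [← h3]
        exact hx
      exact hA a ha (fun h => h1 (by rw [h, map_one])) x h2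
  · obtain ⟨g, hg⟩ := hne
    refine ⟨e' g, ?_⟩
    rw [hsm, e'.symm_apply_apply]
    exact hg

end Cfsg.Agent.OddCyclic.BTwoLin
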