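import Mathlib.GroupTheory.PGroup
import Mathlib.Algebra.Module.ZMod
import Mathlib.Data.ZMod.Basic
import Mathlib.Algebra.BigOperators.Finprod
import Mathlib.Tactic

/-!
# A vector generating a free module for a 2-group

`card_ge_of_odd`: a finite 2-group `T` acts on an elementary abelian 2-group `M` with a biadditive map `f`; if
`f μ (u • μ) = 1` for an odd number of `u ∈ T`, then the vectors `u • μ`, `u ∈ T`, are linearly independent, so
`2 ^ |T| ≤ |M|`.
-/

set_option autoImplicit false

namespace Cfsg.Agent.OddCyclic.BTwoLin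

variable {M : Type*} [AddCommGroup M] {Γ : Type*} [Group Γ] [DistribMulAction Γ M]

theorem zmod_two_cases : ∀ a : ZMod 2, a = 0 ∨ a = 1 := by decide

theorem zmod_two_eq_zero : ∀ a : ZMod 2, a ≠ 1 → a = 0 := by decide

/-- translation on functions `T → ZMod 2` -/
def tr {T : Type*} [Group T] (t : T) (c : T → ZMod 2) : T → ZMod 2 := fun u => c (t⁻¹ * u)

theorem card_ge_of_odd [Finite M] (two : ∀ m : M, m + m = 0) (f : M → M → ZMod 2)
    (add_right : ∀ w x y, f w (x + y) = f w x + f w y) {T : Type*} [Group T] [Fintype T]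
    [DistribMulAction T M] (hT : IsPGroup 2 T) (μ : M) (hodd : ∑ u : T, f μ (u • μ) = 1) :
    2 ^ Nat.card T ≤ Nat.card M := by
  classical
  let : Module (ZMod 2) M := AddCommGroup.zmodModule (n := 2) (fun x => by rw [two_nsmul]; exact two x)
  have f0 : ∀ w, f w 0 = 0 := fun w => by
    have := add_right w 0 0
    rw [add_zero] at this
    simpa using this
  let fh : M →+ ZMod 2 := { toFun := f μ, map_zero' := f0 μ, map_add' := add_right μ }
  let φ : (T → ZMod 2) →+ M :=
    { toFun := fun c => ∑ u : T, c u • (u • μ)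
      map_zero' := by simp
      map_add' := fun c d => by simp [add_smul, Finset.sum_add_distrib] }
  have hφ : ∀ c, φ c = ∑ u : T, c u • (u • μ) := fun c => rfl
  have hsc : ∀ (a : ZMod 2) (t : T) (x : M), t • (a • x) = a • (t • x) := by
    intro a t x
    rcases zmod_two_cases a with h | h
    · rw [h, zero_smul, zero_smul, smul_zero]
    · rw [h, one_smul, one_smul]
  have htr : ∀ (t : T) (c : T → ZMod 2), φ (tr t c) = t • φ c := by
    intro t c
    rw [hφ, hφ, Finset.smul_sum]
    refine Fintype.sum_equiv (Equiv.mulLeft t⁻¹) _ _ fun u => ?_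
    change c (t⁻¹ * u) • (u • μ) = t • (c (t⁻¹ * u) • ((t⁻¹ * u) • μ))
    rw [hsc, ← mul_smul, mul_inv_cancel_left]
  have hinj : Function.Injective φ := by
    rw [injective_iff_map_eq_zero]
    by_contra hne
    push Not at hne
    obtain ⟨c₀, hc₀, hc₀1⟩ := hne
    -- the kernel as a `T`-set
    let K : Type _ := {c : T → ZMod 2 // φ c = 0}
    let : MulAction T K :=
      { smul := fun t c => ⟨tr t c.1, by rw [htr, c.2, smul_zero]⟩
        one_smul := fun c => Subtype.ext (by
          funext u
          change c.1 (1⁻¹ * u) = c.1 u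
          rw [inv_one, one_mul])
        mul_smul := fun s t c => Subtype.ext (by
          funext u
          change c.1 ((s * t)⁻¹ * u) = c.1 (t⁻¹ * (s⁻¹ * u))
          rw [mul_inv_rev, mul_assoc]) }
    have hsm : ∀ (t : T) (c : K), (t • c).1 = tr t c.1 := fun t c => rfl
    have : Finite K := inferInstanceAs (Finite {c : T → ZMod 2 // φ c = 0})
    -- `2 ∣ |K|`
    have h2 : 2 ∣ Nat.card K := by
      have hK : Nat.card K = Nat.card φ.ker := rfl
      rw [hK]
      have hg : IsPGroup 2 (Multiplicative φ.ker) := by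
        intro x
        refine ⟨1, ?_⟩
        rw [pow_one, pow_two]
        apply Multiplicative.toAdd.injective
        apply Subtype.ext
        funext u
        change (x.toAdd : T → ZMod 2) u + (x.toAdd : T → ZMod 2) u = 0
        exact CharTwo.add_self_eq_zero _
      have hf : Fact (Nat.Prime 2) := ⟨Nat.prime_two⟩
      obtain ⟨n, hn⟩ := IsPGroup.iff_card.1 hg
      have hn' : Nat.card φ.ker = 2 ^ n := hn
      rw [hn']
      rcases n with _ | n
      · exfalso
        rw [pow_zero, Nat.card_eq_one_iff_unique] at hn'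
        have := hn'.1
        have h3 : (⟨c₀, hc₀⟩ : φ.ker) = 0 := Subsingleton.elim _ _
        exact hc₀1 (congrArg Subtype.val h3)
      · exact dvd_pow_self 2 (Nat.succ_ne_zero n)
    have hf : Fact (Nat.Prime 2) := ⟨Nat.prime_two⟩
    have h0 : (⟨0, map_zero φ⟩ : K) ∈ MulAction.fixedPoints T K := by
      intro t
      apply Subtype.ext
      rw [hsm]
      funext u
      rfl
    obtain ⟨b, hb, hb0⟩ := hT.exists_fixed_point_of_prime_dvd_card_of_fixed_point K h2 h0
    have hconst : ∀ u : T, b.1 u = b.1 1 := by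
      intro u
      have h1 := congrArg Subtype.val (hb u⁻¹)
      rw [hsm] at h1
      have h2 := congrFun h1 1
      change b.1 (u⁻¹⁻¹ * 1) = b.1 1 at h2
      rwa [inv_inv, mul_one] at h2
    have hb1 : b.1 1 = 1 := by
      by_contra h
      apply hb0
      apply Subtype.ext
      funext u
      change (0 : ZMod 2) = b.1 u
      rw [hconst u, zmod_two_eq_zero _ h]
    have hsum : ∑ u : T, u • μ = 0 := by
      have h3 := b.2
      rw [hφ] at h3
      rw [← h3]
      refine Finset.sum_congr rfl fun u _ => ?_
      rw [hconst u, hb1, one_smul]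
    have h4 : f μ (∑ u : T, u • μ) = ∑ u : T, f μ (u • μ) := by
      change fh (∑ u : T, u • μ) = ∑ u : T, fh (u • μ)
      rw [map_sum]
    rw [hsum, f0, hodd] at h4
    exact absurd h4 (by decide)
  have h5 := Nat.card_le_card_of_injective φ hinj
  have h6 : Nat.card (T → ZMod 2) = 2 ^ Nat.card T := by
    rw [Nat.card_fun, Nat.card_zmod]
  rwa [h6] at h5

end Cfsg.Agent.OddCyclic.BTwoLin
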