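import Cfsg.Agent.OddCyclic.BTwoLin.Basic
import Cfsg.Agent.OddCyclic.L2Abs
import Cfsg.Agent.OddCyclic.L2Field
import Cfsg.Agent.OddCyclic.BTwoB

/-!
# Section 4: `K ≅ SL(2,q)`, `q = 2^r ≥ 4`; the function `F`

blueprints/S0342-Ba-helper208.md, section 4. `lam e l g = ρ (e⁻¹ g) l` depends only on the first column of `g`;
`f (lam g) (lam h) = Fn (det (column of g, column of h))`.
-/

set_option autoImplicit false

namespace Cfsg.Agent.OddCyclic.BTwoLin.SlBase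

open Cfsg.Agent.LieExceptional.CITDefs Cfsg.Agent.OddCyclic.T1Defs Cfsg.Agent.OddCyclic.FFBasic
open Cfsg.Agent.OddCyclic.BTwoLin
open Cfsg.Agent.OddCyclic.L2Abs
open Cfsg.Agent.OddCyclic.FFSl2 (stb mem_stb)
open Cfsg.Agent.Lib.SL2Mat Cfsg.Agent.Lib.AutSL2 Cfsg.Agent.Lib.AutSL2Out
open Cfsg.Agent.Classification.QDW.TypeHom

local notation "UI" => Cfsg.Agent.OddCyclic.T1Sl2.UI
local notation "tu" => Cfsg.Agent.OddCyclic.T1Sl2.up
local notation "td" => Cfsg.Agent.OddCyclic.T1Sl2.dg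

variable {X M : Type*} [Group X] [CommGroup M]
variable {F : Type*} [Field F] [Finite F] [CharP F 2]

local notation "SL2" => Matrix.SpecialLinearGroup (Fin 2) F

/-- The situation of section 4. -/
structure Sl (ρ : X →* MulAut M) (f : M → M → ZMod 2) (q : M → ZMod 2) (A S : Subgroup X) (D : Subgroup M) (l : M)
    (c m : ℕ) (K : Subgroup X) (e : K ≃* Matrix.SpecialLinearGroup (Fin 2) F) : Prop extends
    Lin ρ f q A S D l c m where
  normal : K.Normal
  cent : Subgroup.centralizer (K : Set X) = ⊥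
  fr : Fr e (S ⊓ K)
  four : 4 ≤ Nat.card F

/-- the conjugates of `l` under `K` -/
noncomputable def lam (ρ : X →* MulAut M) {K : Subgroup X} (e : K ≃* Matrix.SpecialLinearGroup (Fin 2) F) (l : M)
    (g : Matrix.SpecialLinearGroup (Fin 2) F) : M := ρ (e.symm g : X) l

theorem lam_one {ρ : X →* MulAut M} {K : Subgroup X} (e : K ≃* SL2) (l : M) : lam ρ e l 1 = l := by
  rw [lam, map_one, Subgroup.coe_one, map_one]; rfl

theorem smul_lam {ρ : X →* MulAut M} {K : Subgroup X} (e : K ≃* SL2) (l : M) (g h : SL2) :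
    ρ (e.symm g : X) (lam ρ e l h) = lam ρ e l (g * h) := by
  rw [lam, lam, ← MulAut.mul_apply, ← map_mul, map_mul e.symm, Subgroup.coe_mul]

theorem smul_ee {ρ : X →* MulAut M} {K : Subgroup X} (e : K ≃* SL2) (l : M) (a : F) (h : SL2) :
    ρ (ee e a) (lam ρ e l h) = lam ρ e l (tu a * h) := smul_lam e l _ h

namespace Sl

variable {ρ : X →* MulAut M} {f : M → M → ZMod 2} {q : M → ZMod 2} {A S : Subgroup X} {D : Subgroup M} {l : M}
  {c m : ℕ} {K : Subgroup X} {e : K ≃* Matrix.SpecialLinearGroup (Fin 2) F}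
  (h : Sl ρ f q A S D l c m K e)

include h

theorem up_fix (a : F) : ρ (ee e a) l = l := h.S_fix (h.fr.ee_mem a).1

theorem lam_up (g : SL2) (a : F) : lam ρ e l (g * tu a) = lam ρ e l g := by
  rw [← smul_lam]
  congr 1
  rw [← mul_one (tu a), ← smul_lam, lam_one]
  exact h.up_fix a

/-- `lam` depends only on the first column -/
theorem lam_congr {g k : SL2} (h0 : g 0 0 = k 0 0) (h1 : g 1 0 = k 1 0) : lam ρ e l g = lam ρ e l k := by
  have h2 : g⁻¹ * k ∈ UI F := by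
    have hd := T1Sl2.det g
    refine ⟨?_, ?_⟩
    · rw [T1Sl2.mul00, T1Sl2.inv00, T1Sl2.inv01, ← h0, ← h1]
      linear_combination hd
    · rw [T1Sl2.mul10, T1Sl2.inv10, T1Sl2.inv11, ← h0, ← h1]
      ring
  have h3 : k = g * tu ((g⁻¹ * k) 0 1) := by
    rw [← T1Sl2.eq_up h2]; group
  rw [h3, h.lam_up]

theorem q_lam (g : SL2) : q (lam ρ e l g) = 0 := by
  rw [lam, h.form.q_inv]; exact h.D_q l h.l_mem

theorem f_lam (g k : SL2) : f (lam ρ e l g) (lam ρ e l k) = f l (lam ρ e l (g⁻¹ * k)) := by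
  have h1 : lam ρ e l k = ρ (e.symm g : X) (lam ρ e l (g⁻¹ * k)) := by
    rw [smul_lam]; congr 1; group
  rw [h1]
  exact h.form.f_inv _ _ _

theorem f_l_up (a : F) (g : SL2) : f l (lam ρ e l (tu a * g)) = f l (lam ρ e l g) := by
  rw [← smul_ee]
  exact h.form.smul_perp (h.up_fix a)

end Sl

/-- the element with first column `(0, d)` -/
def wd (d : F) (hd : d ≠ 0) : Matrix.SpecialLinearGroup (Fin 2) F :=
  T1Sl2.mk 0 d⁻¹ d 0 (by
    rw [inv_mul_cancel₀ hd, mul_zero, zero_sub]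
    exact CharTwo.neg_eq (1 : F))

@[simp] theorem wd00 (d : F) (hd : d ≠ 0) : wd d hd 0 0 = 0 := rfl
@[simp] theorem wd10 (d : F) (hd : d ≠ 0) : wd d hd 1 0 = d := rfl

open Classical in
/-- the function `F` of the blueprint -/
noncomputable def Fn (ρ : X →* MulAut M) (f : M → M → ZMod 2) {K : Subgroup X}
    (e : K ≃* Matrix.SpecialLinearGroup (Fin 2) F) (l : M) (d : F) : ZMod 2 :=
  if hd : d = 0 then 0 else f l (lam ρ e l (wd d hd))

theorem Fn_zero {ρ : X →* MulAut M} {f : M → M → ZMod 2} {K : Subgroup X}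
    {e : K ≃* Matrix.SpecialLinearGroup (Fin 2) F} {l : M} : Fn ρ f e l 0 = 0 := by
  rw [Fn, dif_pos rfl]

namespace Sl

variable {ρ : X →* MulAut M} {f : M → M → ZMod 2} {q : M → ZMod 2} {A S : Subgroup X} {D : Subgroup M} {l : M}
  {c m : ℕ} {K : Subgroup X} {e : K ≃* Matrix.SpecialLinearGroup (Fin 2) F}
  (h : Sl ρ f q A S D l c m K e)

include h

theorem mem_normalizer (x : X) : x ∈ Subgroup.normalizer (K : Set X) := by
  have := h.normal
  rw [Subgroup.normalizer_eq_top]; trivial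

/-- the action of an element of `X` on `SL(2,F)` -/
theorem act_smul (x : X) (g : SL2) :
    ((e.symm (act e ⟨x, h.mem_normalizer x⟩ g) : K) : X) = x * (e.symm g : X) * x⁻¹ := by
  have h1 := act_apply e ⟨x, h.mem_normalizer x⟩ (e.symm g)
  rw [e.apply_symm_apply] at h1
  rw [h1, e.symm_apply_apply]

/-- elements of `S` map `lam g` to `lam (g ^ x)` -/
theorem smul_lam_S {x : X} (hx : x ∈ S) (g : SL2) :
    ρ x (lam ρ e l g) = lam ρ e l (act e ⟨x, h.mem_normalizer x⟩ g) := by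
  rw [lam, lam, h.act_smul, map_mul, map_mul, MulAut.mul_apply, MulAut.mul_apply]
  have h1 : ρ x⁻¹ l = l := h.S_fix (inv_mem hx)
  rw [h1]

/-- the form of the automorphism induced by an element of `S` -/
theorem exists_form {x : X} (hx : x ∈ S) : ∃ (t : F) (s : Fˣ),
    act e ⟨x, h.mem_normalizer x⟩ = MulAut.conj (tu t * td s) *
      fieldAut (typ (act e ⟨x, h.mem_normalizer x⟩)) := by
  refine L2Borel.exists_form_UI fun y hy => ?_
  have h1 := (h.fr.symm_mem (x := y)).2 hy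
  have h2 : x * (e.symm y : X) * x⁻¹ ∈ S ⊓ K :=
    Subgroup.mem_inf.2 ⟨mul_mem (mul_mem hx h1.1) (inv_mem hx), h.normal.conj_mem _ h1.2 x⟩
  rw [← h.act_smul, h.fr.symm_mem] at h2
  exact h2

/-- an element of `S` centralising `S ∩ K` is in `K` -/
theorem mem_K_of_comm {x : X} (hx : x ∈ S) (hc : ∀ y ∈ S ⊓ K, x * y = y * x) : x ∈ K := by
  obtain ⟨t, s, hts⟩ := h.exists_form hx
  set σ := typ (act e ⟨x, h.mem_normalizer x⟩) with hσ
  have h1 : ∀ a : F, (s : F) * s * σ a = a := by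
    intro a
    have h2 := hc _ (h.fr.ee_mem a)
    have h3 : act e ⟨x, h.mem_normalizer x⟩ (tu a) = tu a := by
      apply e.symm.injective
      apply Subtype.ext
      rw [h.act_smul]
      change x * ee e a * x⁻¹ = ee e a
      rw [h2, mul_inv_cancel_right]
    rw [hts, L2Borel.form_tu] at h3
    exact L2Borel.tu_inj h3
  have hs1 : (s : F) * s = 1 := by
    have := h1 1
    rwa [map_one, mul_one] at this
  have hσ1 : σ = 1 := by
    ext a
    have := h1 a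
    rwa [hs1, one_mul] at this
  have h4 : x ∈ K ⊔ Subgroup.centralizer (K : Set X) :=
    (typ_eq_one_iff' e ⟨x, h.mem_normalizer x⟩).1 hσ1
  rw [h.cent, sup_bot_eq] at h4
  exact h4

/-- `A ∩ K ≠ 1` -/
theorem A_inf_ne : A ⊓ K ≠ ⊥ := by
  intro hbot
  have h1 : A ≤ K := by
    intro a ha
    refine h.mem_K_of_comm (h.A_le ha) fun y hy => ?_
    have h2 : a * y * a⁻¹ * y⁻¹ ∈ A ⊓ K := by
      refine Subgroup.mem_inf.2 ⟨?_, ?_⟩
      · have h3 : y * a⁻¹ * y⁻¹ ∈ A :=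
          (Subgroup.mem_normalizer_iff.1 (h.A_norm hy.1) a⁻¹).1 (inv_mem ha)
        have e1 : a * y * a⁻¹ * y⁻¹ = a * (y * a⁻¹ * y⁻¹) := by group
        rw [e1]; exact mul_mem ha h3
      · have h3 : a * y * a⁻¹ ∈ K := h.normal.conj_mem _ hy.2 a
        exact mul_mem h3 (inv_mem hy.2)
    rw [hbot, Subgroup.mem_bot, mul_inv_eq_one, mul_inv_eq_iff_eq_mul] at h2
    exact h2
  have h2 : A = ⊥ := by rw [← hbot]; exact (inf_eq_left.2 h1).symm
  have h3 := h.card_A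
  rw [h2, Subgroup.card_bot] at h3
  have h4 : 2 ^ 2 ≤ 2 ^ c := Nat.pow_le_pow_right (by norm_num) h.two_le
  omega

/-- the parameters of the elements of `A ∩ K` -/
theorem exists_s : ∃ s : F, s ≠ 0 ∧ ee e s ∈ A := by
  obtain ⟨⟨a, ha⟩, ha1⟩ := Subgroup.ne_bot_iff_exists_ne_one.1 h.A_inf_ne
  have haS : a ∈ S ⊓ K := ⟨h.A_le ha.1, ha.2⟩
  obtain ⟨s, rfl⟩ := h.fr.exists_ee inf_le_right haS
  refine ⟨s, ?_, ha.1⟩
  rintro rfl
  apply ha1
  apply Subtype.ext
  exact ee_zero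

theorem f_l_lam (g : SL2) : f l (lam ρ e l g) = Fn ρ f e l (g 1 0) := by
  by_cases hg : g 1 0 = 0
  · rw [hg, Fn_zero]
    obtain ⟨s, hs0, hs⟩ := h.exists_s
    refine h.fix_perp hs (ee_ne_one.2 hs0) ?_
    rw [smul_ee]
    refine h.lam_congr ?_ ?_
    · rw [T1Sl2.mul00]; simp [hg]
    · rw [T1Sl2.mul10]; simp
  · rw [Fn, dif_neg hg, ← h.f_l_up (g 0 0 / g 1 0) (wd (g 1 0) hg)]
    congr 1
    refine h.lam_congr ?_ ?_
    · rw [T1Sl2.mul00]; simp [hg]
    · rw [T1Sl2.mul10]; simp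

theorem f_lam_lam (g k : SL2) :
    f (lam ρ e l g) (lam ρ e l k) = Fn ρ f e l (g 0 0 * k 1 0 + g 1 0 * k 0 0) := by
  rw [h.f_lam, h.f_l_lam]
  congr 1
  rw [T1Sl2.mul10, T1Sl2.inv10, T1Sl2.inv11, CharTwo.neg_eq]
  ring

theorem f_wd (s t b b' : F) (hb : b ≠ 0) (hb' : b' ≠ 0) :
    f (lam ρ e l (tu s * wd b hb)) (lam ρ e l (tu t * wd b' hb')) = Fn ρ f e l ((s + t) * (b * b')) := by
  rw [h.f_lam_lam]
  congr 1
  rw [T1Sl2.mul00, T1Sl2.mul10, T1Sl2.mul00, T1Sl2.mul10]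
  simp
  ring

/-- the orbit of `l` under `X` -/
theorem orbit [Finite X] (x : X) : ∃ g : SL2, ρ x l = lam ρ e l g := by
  -- the type homomorphism
  let θ : X →* (F ≃+* F) :=
    { toFun := fun x => typ (act e ⟨x, h.mem_normalizer x⟩)
      map_one' := by
        have h1 : (⟨1, h.mem_normalizer 1⟩ : Subgroup.normalizer (K : Set X)) = 1 := rfl
        rw [h1, map_one, map_one]
      map_mul' := fun x y => by
        rw [← map_mul, ← map_mul]
        rfl }
  have hker : ∀ x, θ x = 1 → x ∈ K := by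
    intro x hx
    have h4 : x ∈ K ⊔ Subgroup.centralizer (K : Set X) := (typ_eq_one_iff' e ⟨x, h.mem_normalizer x⟩).1 hx
    rwa [h.cent, sup_bot_eq] at h4
  have hcomm : ∀ σ τ : F ≃+* F, σ * τ = τ * σ := by
    have := L2Borel.isCyclic_ringAut (F := F)
    intro σ τ
    exact (IsCyclic.commGroup (α := F ≃+* F)).mul_comm σ τ
  let N : Subgroup X := (S.map θ).comap θ
  have hSN : S ≤ N := fun s hs => ⟨s, hs, rfl⟩
  have hN : ∀ y ∈ N, ∀ x : X, x * y * x⁻¹ ∈ N := by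
    rintro y ⟨s, hs, hsy⟩ x
    refine ⟨s, hs, ?_⟩
    rw [hsy, map_mul, map_mul, hcomm (θ x), mul_assoc, ← map_mul, mul_inv_cancel, map_one, mul_one]
  have hs : ¬ 2 ∣ S.relIndex ⊤ := by
    have : Fact (Nat.Prime 2) := ⟨Nat.prime_two⟩
    rw [Subgroup.relIndex_top_right]
    let P : Sylow 2 X := ⟨S, h.sylS.two, fun {Q} hQ hSQ => h.sylS.max Q le_top hQ hSQ⟩
    exact Sylow.not_dvd_index P
  obtain ⟨n, hn, m', -, hm', rfl⟩ := BTwoB.exists_mul_of_frattini (C := ⊤) (T := S) (N := N) le_top h.sylS.two hs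
    le_top (fun x _ => by
      rw [Subgroup.mem_normalizer_iff]
      intro y
      constructor
      · intro hy; exact hN y hy x
      · intro hy
        have := hN _ hy x⁻¹
        have e1 : x⁻¹ * (x * y * x⁻¹) * x⁻¹⁻¹ = y := by group
        rwa [e1] at this) (Subgroup.mem_top x)
  rw [inf_eq_left.2 hSN] at hm'
  obtain ⟨s, hs', hsn⟩ := hn
  have hk : n * s⁻¹ ∈ K := by
    apply hker
    rw [map_mul, map_inv, hsn, mul_inv_cancel]
  refine ⟨e ⟨n * s⁻¹, hk⟩, ?_⟩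
  rw [lam, e.symm_apply_apply, map_mul, MulAut.mul_apply, h.l_fix m' hm']
  change ρ n l = ρ (n * s⁻¹) l
  rw [map_mul, MulAut.mul_apply, h.S_fix (inv_mem hs')]

theorem exists_Fn [Finite X] : ∃ b : F, Fn ρ f e l b ≠ 0 := by
  by_contra hcon
  push Not at hcon
  obtain ⟨x, hx⟩ := h.exists_not
  apply hx
  have h1 : h.form.perp l = ⊤ := by
    refine h.gen _ fun x => ?_
    obtain ⟨g, hg⟩ := h.orbit x
    rw [hg]
    exact (h.f_l_lam g).trans (hcon _)
  have h2 : x ∈ h.form.perp l := by rw [h1]; trivial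
  exact h2

omit [Finite F] in
theorem q_comm_eq {x : M} (hx : f l x = 0) {a : X} (ha : a ∈ A) : f (ρ a x) x = 0 := by
  have h1 := h.D_q _ (h.perp x hx a ha)
  rw [h.form.inv_eq, h.form.q_mul, h.form.q_inv, zmod_add_self, zero_add] at h1
  exact h1

/-- **(B)** -/
theorem Fn_sq [Finite X] {s : F} (hs : ee e s ∈ A) (hs0 : s ≠ 0) (b : F) :
    Fn ρ f e l (s * (b * b)) = Fn ρ f e l b := by
  have hval : ∀ b : F, ∀ hb : b ≠ 0, f l (lam ρ e l (wd b hb)) = Fn ρ f e l b := fun b hb => h.f_l_lam _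
  have hee : ∀ b : F, ∀ hb : b ≠ 0, ρ (ee e s) (lam ρ e l (wd b hb)) = lam ρ e l (tu s * wd b hb) :=
    fun b hb => smul_ee e l s _
  have hwd : ∀ b b' : F, ∀ hb : b ≠ 0, ∀ hb' : b' ≠ 0,
      f (lam ρ e l (tu s * wd b hb)) (lam ρ e l (wd b' hb')) = Fn ρ f e l (s * (b * b')) := by
    intro b b' hb hb'
    have := h.f_wd s 0 b b' hb hb'
    rwa [T1Sl2.up_zero, one_mul, add_zero] at this
  -- step 1
  have step1 : ∀ b : F, b ≠ 0 → Fn ρ f e l b = 0 → Fn ρ f e l (s * (b * b)) = 0 := by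
    intro b hb hb0
    have h1 := h.q_comm_eq (x := lam ρ e l (wd b hb)) (by rw [hval, hb0]) hs
    rwa [hee, hwd] at h1
  -- step 2
  have step2 : ∀ b₁ b₂ : F, Fn ρ f e l b₁ ≠ 0 → Fn ρ f e l b₂ ≠ 0 →
      Fn ρ f e l (s * (b₁ * b₁)) = Fn ρ f e l (s * (b₂ * b₂)) := by
    intro b₁ b₂ h1 h2
    have hb₁ : b₁ ≠ 0 := by rintro rfl; exact h1 Fn_zero
    have hb₂ : b₂ ≠ 0 := by rintro rfl; exact h2 Fn_zero
    have h3 := h.q_comm_eq (x := lam ρ e l (wd b₁ hb₁) * lam ρ e l (wd b₂ hb₂))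
      (by rw [h.form.mul_right, hval, hval, zmod_ne_zero.1 h1, zmod_ne_zero.1 h2]; decide) hs
    rw [map_mul, hee, hee, h.form.f_mul, h.form.mul_right, h.form.mul_right, hwd, hwd, hwd, hwd,
      mul_comm b₂ b₁] at h3
    generalize Fn ρ f e l (s * (b₁ * b₁)) = x at h3 ⊢
    generalize Fn ρ f e l (s * (b₂ * b₂)) = y at h3 ⊢
    generalize Fn ρ f e l (s * (b₁ * b₂)) = w at h3
    revert x y w; decide
  obtain ⟨b₀, hb₀⟩ := h.exists_Fn
  have step3 : Fn ρ f e l (s * (b₀ * b₀)) ≠ 0 := by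
    intro h0
    -- all values vanish
    apply hb₀
    obtain ⟨t, ht⟩ := L2Model.exists_sqrt (b₀ / s)
    have ht' : s * (t * t) = b₀ := by rw [ht]; field_simp
    rw [← ht']
    by_cases ht0 : t = 0
    · rw [ht0, mul_zero, mul_zero]; exact Fn_zero
    by_cases h1 : Fn ρ f e l t = 0
    · exact step1 t ht0 h1
    · rw [step2 t b₀ h1 hb₀]; exact h0
  by_cases hb : b = 0
  · rw [hb, mul_zero, mul_zero]
  by_cases h1 : Fn ρ f e l b = 0
  · rw [h1]; exact step1 b hb h1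
  · rw [zmod_ne_zero.1 h1, step2 b b₀ h1 hb₀]
    exact zmod_ne_zero.1 step3

/-- ratios of parameters of `A ∩ K` -/
theorem Fn_ratio [Finite X] {s s' : F} (hs : ee e s ∈ A) (hs0 : s ≠ 0) (hs' : ee e s' ∈ A) (hs0' : s' ≠ 0) (t : F) :
    Fn ρ f e l (s * t) = Fn ρ f e l (s' * t) := by
  obtain ⟨b, rfl⟩ := L2Model.exists_sqrt t
  rw [h.Fn_sq hs hs0, h.Fn_sq hs' hs0']

end Sl

end Cfsg.Agent.OddCyclic.BTwoLin.SlBase
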