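import Cfsg.Agent.OddCyclic.BTwoLin.SlBase

/-!
# Section 4: the dimension bound and the ratios

blueprints/S0342-Ba-helper208.md, section 4.
-/

set_option autoImplicit false

namespace Cfsg.Agent.OddCyclic.BTwoLin.SlDim

open Cfsg.Agent.LieExceptional.CITDefs Cfsg.Agent.OddCyclic.T1Defs Cfsg.Agent.OddCyclic.FFBasic
open Cfsg.Agent.OddCyclic.BTwoLin Cfsg.Agent.OddCyclic.BTwoLin.SlBase
open Cfsg.Agent.OddCyclic.L2Abs
open Cfsg.Agent.OddCyclic.FFSl2 (stb mem_stb)
open Cfsg.Agent.Lib.SL2Mat Cfsg.Agent.Lib.AutSL2 Cfsg.Agent.Lib.AutSL2Out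
open Cfsg.Agent.Classification.QDW.TypeHom

local notation "UI" => Cfsg.Agent.OddCyclic.T1Sl2.UI
local notation "tu" => Cfsg.Agent.OddCyclic.T1Sl2.up
local notation "td" => Cfsg.Agent.OddCyclic.T1Sl2.dg

variable {X M : Type*} [Group X] [CommGroup M]
variable {F : Type*} [Field F] [Finite F] [CharP F 2]

local notation "SL2" => Matrix.SpecialLinearGroup (Fin 2) F

variable {ρ : X →* MulAut M} {f : M → M → ZMod 2} {q : M → ZMod 2} {A S : Subgroup X} {D : Subgroup M} {l : M}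
  {c m : ℕ} {K : Subgroup X} {e : K ≃* Matrix.SpecialLinearGroup (Fin 2) F}
  (h : Sl ρ f q A S D l c m K e)

/-- the parameters of the elements of `A ∩ K` -/
def As (A : Subgroup X) {K : Subgroup X} (e : K ≃* Matrix.SpecialLinearGroup (Fin 2) F) : AddSubgroup F where
  carrier := {s | ee e s ∈ A}
  zero_mem' := by
    change ee e 0 ∈ A
    rw [ee_zero]; exact one_mem _
  add_mem' := by
    intro a b ha hb
    change ee e (a + b) ∈ A
    rw [← ee_mul]; exact mul_mem ha hb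
  neg_mem' := by
    intro a ha
    change ee e (-a) ∈ A
    rw [CharTwo.neg_eq]; exact ha

theorem mem_As {A : Subgroup X} {K : Subgroup X} {e : K ≃* Matrix.SpecialLinearGroup (Fin 2) F} {s : F} :
    s ∈ As A e ↔ ee e s ∈ A := Iff.rfl

include h

/-- `A ∩ K ≅ As` -/
theorem card_inf : Nat.card (A ⊓ K : Subgroup X) = Nat.card (As A e) := by
  symm
  refine Nat.card_congr (Equiv.ofBijective (fun s => ⟨ee e s.1, s.2, ee_mem_K _⟩) ⟨?_, ?_⟩)
  · rintro ⟨s, hs⟩ ⟨t, ht⟩ hst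
    have h1 : ee e s = ee e t := by
      have h2 := congrArg (fun y : (A ⊓ K : Subgroup X) => (y : X)) hst
      exact h2
    exact Subtype.ext (ee_inj h1)
  · rintro ⟨a, ha⟩
    obtain ⟨s, rfl⟩ := h.fr.exists_ee inf_le_right (show a ∈ S ⊓ K from ⟨h.A_le ha.1, ha.2⟩)
    exact ⟨⟨s, ha.1⟩, rfl⟩

/-- **`2 r ≤ c + m + 2`** -/
theorem dim [Finite M] {r : ℕ} (hr : Nat.card F = 2 ^ r) : 2 * r ≤ c + m + 2 := by
  have := Fintype.ofFinite F
  obtain ⟨s, hs0, hs⟩ := h.exists_s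
  set a := ee e s with ha
  let ρ' : SL2 →* MulAut M := ρ.comp (K.subtype.comp e.symm.toMonoidHom)
  have hρ' : ∀ g v, ρ' g v = ρ (e.symm g : X) v := fun _ _ => rfl
  have ha1 : a ≠ 1 := ee_ne_one.2 hs0
  have h1 : Fintype.card F ≤ (fx ρ' (tu s)).index := by
    refine sl2_index ?_ h.form.sq ρ' ?_ ?_ ?_
    · rw [← Nat.card_eq_fintype_card]; exact h.four
    · by_contra hcon
      push Not at hcon
      exact ha1 (h.faith a fun x => hcon (tu s) x)
    · rw [T1Sl2.up_mul, CharTwo.add_self_eq_zero, T1Sl2.up_zero]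
    · intro h2
      apply ha1
      rw [ha, ee, h2, map_one]; rfl
  have h2 : fx ρ' (tu s) = fx ρ a := rfl
  rw [h2] at h1
  have h3 : (cm ρ a).range ≤ fx ρ a := by
    rintro _ ⟨v, rfl⟩
    rw [mem_fx, cm_apply, map_mul, map_inv, ← MulAut.mul_apply, ← map_mul, h.A_sq a hs, map_one, MulAut.one_apply,
      h.form.inv_eq, h.form.inv_eq, mul_comm]
  have h4 := card_range_cm ρ a
  have h5 : Nat.card (cm ρ a).range ≤ Nat.card (fx ρ a) :=
    Nat.card_le_card_of_injective _ (Subgroup.inclusion_injective h3)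
  have h6 := (fx ρ a).card_mul_index
  rw [h.card_M] at h6
  rw [h4] at h5
  rw [← Nat.card_eq_fintype_card, hr] at h1
  have h7 : 2 ^ r * 2 ^ r ≤ 2 ^ (c + m + 2) := by
    rw [← h6]
    exact Nat.mul_le_mul (h1.trans h5) h1
  rw [← pow_add] at h7
  have := (Nat.pow_le_pow_iff_right (by norm_num : 1 < 2)).1 h7
  omega

omit h in
/-- the multiplicative periods of `Fn` -/
def KF (ρ : X →* MulAut M) (f : M → M → ZMod 2) {K : Subgroup X}
    (e : K ≃* Matrix.SpecialLinearGroup (Fin 2) F) (l : M) : Subgroup Fˣ where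
  carrier := {k | ∀ t : F, Fn ρ f e l (k * t) = Fn ρ f e l t}
  one_mem' := by
    intro t
    rw [Units.val_one, one_mul]
  mul_mem' := by
    intro a b ha hb t
    rw [Units.val_mul, mul_assoc, ha, hb]
  inv_mem' := by
    intro a ha t
    rw [← ha, Units.mul_inv_cancel_left]

omit h in
theorem mem_KF {k : Fˣ} : k ∈ KF ρ f e l ↔ ∀ t : F, Fn ρ f e l (k * t) = Fn ρ f e l t := Iff.rfl

theorem ratio_mem [Finite X] {s s' : Fˣ} (hs : (s : F) ∈ As A e) (hs' : (s' : F) ∈ As A e) : s / s' ∈ KF ρ f e l := by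
  rw [mem_KF]
  intro t
  have h1 := h.Fn_ratio hs s.ne_zero hs' s'.ne_zero ((s' : F)⁻¹ * t)
  rw [mul_inv_cancel_left₀ s'.ne_zero] at h1
  rw [← h1, Units.val_div_eq_div_val, div_eq_mul_inv, mul_assoc]

theorem card_KF [Finite X] : Nat.card (As A e) ≤ Nat.card (KF ρ f e l) + 1 := by
  classical
  obtain ⟨s₀, hs0, hs⟩ := h.exists_s
  let s₁ : Fˣ := Units.mk0 s₀ hs0
  have h1 : Function.Injective (fun s : {s : As A e // s ≠ 0} =>
      (⟨Units.mk0 s.1.1 (fun h0 => s.2 (Subtype.ext h0)) / s₁, ratio_mem h s.1.2 hs⟩ : KF ρ f e l)) := by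
    rintro ⟨⟨s, hs⟩, hs'⟩ ⟨⟨t, ht⟩, ht'⟩ hst
    have h2 := congrArg Subtype.val hst
    have h3 := congrArg (fun u : Fˣ => (u : F)) (div_left_inj.1 h2)
    exact Subtype.ext (Subtype.ext h3)
  have h2 := Nat.card_le_card_of_injective _ h1
  have h3 : Nat.card {s : As A e // s ≠ 0} + 1 = Nat.card (As A e) := by
    have := Fintype.ofFinite (As A e)
    rw [Nat.card_eq_fintype_card, Nat.card_eq_fintype_card, Fintype.card_subtype_compl,
      Fintype.card_subtype_eq]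
    have : 0 < Fintype.card (As A e) := Fintype.card_pos
    omega
  omega

end Cfsg.Agent.OddCyclic.BTwoLin.SlDim
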