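import Cfsg.Agent.OddCyclic.BTwoLin.SlTwo
import Cfsg.Agent.OddCyclic.CaseAEight
import Cfsg.Agent.LieExceptional.CITBasic

/-!
# Section 4: the frame; the case `|F| = 8`

* `exists_sl`: `Lin` and a normal subgroup `K ≅ SL(2,F)` with trivial centralizer give `Sl`.
* `|F| = 8`, `c = m = 3`, `Fn = 1` on `F - {0}`: `K = X`, the radical of `f` is trivial, there are nine conjugates of
  `l`, pairwise not orthogonal; involutions of `X` do not commute with elements of order three.
-/

set_option autoImplicit false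

namespace Cfsg.Agent.OddCyclic.BTwoLin.SlEight

open Cfsg.Agent.LieExceptional.CITDefs Cfsg.Agent.OddCyclic.T1Defs Cfsg.Agent.OddCyclic.FFBasic
open Cfsg.Agent.LieExceptional
open Cfsg.Agent.OddCyclic.BTwoLin Cfsg.Agent.OddCyclic.BTwoLin.SlBase Cfsg.Agent.OddCyclic.BTwoLin.SlDim
open Cfsg.Agent.OddCyclic.L2Abs
open Cfsg.Agent.OddCyclic.FFSl2 (stb mem_stb)
open Cfsg.Agent.Lib.SL2Mat Cfsg.Agent.Lib.AutSL2 Cfsg.Agent.Lib.AutSL2Out
open Cfsg.Agent.Classification.QDW.TypeHom

local notation "UI" => Cfsg.Agent.OddCyclic.T1Sl2.UI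
local notation "tu" => Cfsg.Agent.OddCyclic.T1Sl2.up
local notation "td" => Cfsg.Agent.OddCyclic.T1Sl2.dg

/-- The intersection of a Sylow 2-subgroup with a normal subgroup. -/
theorem isSyl2_inf {X : Type*} [Group X] [Finite X] {W P : Subgroup X} (hP : IsSyl2 ⊤ P) (hn : W.Normal) :
    IsSyl2 W (P ⊓ W) := by
  refine ⟨inf_le_right, hP.two.to_le inf_le_left, fun Y hYW hY hle => ?_⟩
  obtain ⟨Q, hQ, hYQ⟩ := CITBasic.exists_isSyl2 ⊤ Y le_top hY
  obtain ⟨m, -, hmQ⟩ := CITBasic.IsSyl2.conj hQ hP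
  have h1 : Y.map (MulAut.conj m).toMonoidHom ≤ P ⊓ W := by
    rintro _ ⟨y, hy, rfl⟩
    refine ⟨?_, hn.conj_mem y (hYW hy) m⟩
    rw [hmQ]
    exact ⟨y, hYQ hy, rfl⟩
  have h2 : Nat.card Y ≤ Nat.card (P ⊓ W : Subgroup X) := by
    have h3 : Nat.card (Y.map (MulAut.conj m).toMonoidHom) = Nat.card Y :=
      Nat.card_congr (Y.equivMapOfInjective _ (MulAut.conj m).injective).toEquiv.symm
    rw [← h3]
    exact Nat.card_le_card_of_injective _ (Subgroup.inclusion_injective h1)
  exact (Subgroup.eq_of_le_of_card_ge hle h2).symm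

variable {X M : Type*} [Group X] [CommGroup M]
variable {F : Type*} [Field F] [Finite F] [CharP F 2]

local notation "SL2" => Matrix.SpecialLinearGroup (Fin 2) F

variable {ρ : X →* MulAut M} {f : M → M → ZMod 2} {q : M → ZMod 2} {A S : Subgroup X} {D : Subgroup M} {l : M}
  {c m : ℕ} {K : Subgroup X} {e : K ≃* Matrix.SpecialLinearGroup (Fin 2) F}

theorem exists_sl [Finite X] (h : Lin ρ f q A S D l c m) (hn : K.Normal)
    (hc : Subgroup.centralizer (K : Set X) = ⊥) (h4 : 4 ≤ Nat.card F)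
    (e₀ : K ≃* Matrix.SpecialLinearGroup (Fin 2) F) :
    ∃ e : K ≃* Matrix.SpecialLinearGroup (Fin 2) F, Sl ρ f q A S D l c m K e := by
  have := Fintype.ofFinite F
  obtain ⟨e, he⟩ := exists_frame e₀ (isSyl2_inf h.sylS hn)
  exact ⟨e, { toLin := h, normal := hn, cent := hc, fr := he, four := h4 }⟩

variable (h : Sl ρ f q A S D l c m K e)

include h

theorem rad_of_gen [Finite X] {x : M} (hx : ∀ g : SL2, f x (lam ρ e l g) = 0) (y : M) : f x y = 0 := by
  have h1 : h.form.perp x = ⊤ := by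
    refine h.gen _ fun y => ?_
    obtain ⟨g, hg⟩ := h.orbit y
    rw [hg, Form.mem_perp]
    exact hx g
  have h2 : y ∈ h.form.perp x := by rw [h1]; trivial
  exact h2

/-- the nine-line case: the radical is trivial -/
theorem rad_one [Finite X] [Finite M] (h1 : ∀ t : F, t ≠ 0 → Fn ρ f e l t = 1) (h8 : Nat.card F = c + m + 2) {r : M}
    (hr : ∀ x, f r x = 0) : r = 1 := by
  classical
  have := Fintype.ofFinite F
  have := Fintype.ofFinite M
  let v : F → M := fun t => lam ρ e l (tu t * wd 1 one_ne_zero)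
  have hvl : ∀ t, f (v t) l = 1 := by
    intro t
    have h2 := h.f_lam_lam (tu t * wd 1 one_ne_zero) 1
    rw [lam_one] at h2
    rw [h2]
    apply h1
    rw [T1Sl2.mul10, T1Sl2.one10, T1Sl2.one00]
    simp
  have hvv : ∀ t s, f (v t) (v s) = if t = s then 0 else 1 := by
    intro t s
    have h2 := h.f_wd t s 1 1 one_ne_zero one_ne_zero
    rw [mul_one, mul_one] at h2
    rw [h2]
    split_ifs with hts
    · rw [hts, CharTwo.add_self_eq_zero, Fn_zero]
    · exact h1 _ fun h0 => hts (CharTwo.add_eq_zero.1 h0)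
  have hsum : ∀ (B : Finset F) (y : M), f (∏ t ∈ B, v t) y = ∑ t ∈ B, f (v t) y := by
    intro B y
    induction B using Finset.induction_on with
    | empty => rw [Finset.prod_empty, Finset.sum_empty, h.form.one_left]
    | insert a B ha ih => rw [Finset.prod_insert ha, Finset.sum_insert ha, h.form.f_mul, ih]
  have h3 : ∀ (s : F) (B : Finset F), ∑ t ∈ B, f (v t) (v s) = (B.card : ZMod 2) - (if s ∈ B then 1 else 0) := by
    intro s B
    have h4 : ∀ t ∈ B, f (v t) (v s) = 1 - (if s = t then 1 else 0) := by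
      intro t _
      rw [hvv]
      by_cases hts : t = s
      · rw [if_pos hts, if_pos hts.symm]; decide
      · rw [if_neg hts, if_neg (Ne.symm hts)]; decide
    rw [Finset.sum_congr rfl h4, Finset.sum_sub_distrib, Finset.sum_const, nsmul_eq_mul, mul_one,
      Finset.sum_ite_eq]
  have hcl : ∀ B : Finset F, f (∏ t ∈ B, v t) l = (B.card : ZMod 2) := by
    intro B
    rw [hsum]
    simp only [hvl, Finset.sum_const, nsmul_eq_mul, mul_one]
  have hinj : Function.Injective (fun B : Finset F => ∏ t ∈ B, v t) := by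
    intro B C hBC
    change ∏ t ∈ B, v t = ∏ t ∈ C, v t at hBC
    have h2 : ((B.card : ℕ) : ZMod 2) = (C.card : ℕ) := by rw [← hcl, ← hcl, hBC]
    ext s
    have h4 := hsum B (v s)
    rw [hBC, hsum C, h3, h3, h2, sub_right_inj] at h4
    by_cases hB : s ∈ B <;> by_cases hC : s ∈ C <;> simp_all
  have hbij := (Fintype.bijective_iff_injective_and_card _).2 ⟨hinj, by
    rw [Fintype.card_finset, ← Nat.card_eq_fintype_card, ← Nat.card_eq_fintype_card, h.card_M, h8]⟩
  obtain ⟨B, hB⟩ := hbij.2 r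
  change ∏ t ∈ B, v t = r at hB
  have h5 : ((B.card : ℕ) : ZMod 2) = 0 := by rw [← hcl, hB, hr]
  have h6 : B = ∅ := by
    ext s
    have h7 := hsum B (v s)
    rw [hB, hr, h3, h5, zero_sub] at h7
    by_cases hs : s ∈ B
    · rw [if_pos hs] at h7; exact absurd h7 (by decide)
    · simp [hs]
  rw [h6, Finset.prod_empty] at hB
  exact hB.symm

/-- conjugates of `l` with proportional columns are equal -/
theorem lam_eq [Finite X] (hrad : ∀ r, (∀ x, f r x = 0) → r = 1)
    (h1 : ∀ t : F, t ≠ 0 → Fn ρ f e l t = 1) {g k : SL2} (hgk : g 0 0 * k 1 0 + g 1 0 * k 0 0 = 0) :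
    lam ρ e l g = lam ρ e l k := by
  have h2 : lam ρ e l g * lam ρ e l k = 1 := by
    apply hrad
    refine rad_of_gen h fun y => ?_
    rw [h.form.f_mul, h.f_lam_lam, h.f_lam_lam]
    have hg := T1Sl2.det g
    have hk := T1Sl2.det k
    have h2F : (2 : F) = 0 := CharTwo.two_eq_zero
    by_cases hk0 : k 0 0 * y 1 0 + k 1 0 * y 0 0 = 0
    · have hg0 : g 0 0 * y 1 0 + g 1 0 * y 0 0 = 0 := by
        by_cases hk00 : k 0 0 = 0
        · have hk10 : k 1 0 ≠ 0 := by
            intro h0; rw [hk00, h0] at hk; norm_num at hk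
          have hy0 : y 0 0 = 0 := by
            rw [hk00, zero_mul, zero_add] at hk0
            exact (mul_eq_zero.1 hk0).resolve_left hk10
          have hg0 : g 0 0 = 0 := by
            rw [hk00, mul_zero, add_zero] at hgk
            exact (mul_eq_zero.1 hgk).resolve_right hk10
          rw [hy0, hg0]; ring
        · apply mul_left_cancel₀ hk00
          linear_combination g 0 0 * hk0 + y 0 0 * hgk - (g 0 0 * k 1 0 * y 0 0) * h2F
      rw [hk0, hg0, Fn_zero, add_zero]
    · have hg0 : g 0 0 * y 1 0 + g 1 0 * y 0 0 ≠ 0 := by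
        intro hg0
        apply hk0
        by_cases hg00 : g 0 0 = 0
        · have hg10 : g 1 0 ≠ 0 := by
            intro h0; rw [hg00, h0] at hg; norm_num at hg
          have hy0 : y 0 0 = 0 := by
            rw [hg00, zero_mul, zero_add] at hg0
            exact (mul_eq_zero.1 hg0).resolve_left hg10
          have hk0' : k 0 0 = 0 := by
            rw [hg00, zero_mul, zero_add] at hgk
            exact (mul_eq_zero.1 hgk).resolve_left hg10
          rw [hy0, hk0']; ring
        · apply mul_left_cancel₀ hg00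
          linear_combination k 0 0 * hg0 + y 0 0 * hgk - (g 1 0 * k 0 0 * y 0 0) * h2F
      rw [h1 _ hk0, h1 _ hg0]; decide
  rw [← h.form.inv_eq (lam ρ e l k)]
  exact eq_inv_of_mul_eq_one_left h2

/-- **different conjugates of `l` are not orthogonal** -/
theorem f_conj [Finite X] (hrad : ∀ r, (∀ x, f r x = 0) → r = 1)
    (h1 : ∀ t : F, t ≠ 0 → Fn ρ f e l t = 1) {x y : X} (hxy : ρ x l ≠ ρ y l) : f (ρ x l) (ρ y l) = 1 := by
  obtain ⟨g, hg⟩ := h.orbit x
  obtain ⟨k, hk⟩ := h.orbit y
  rw [hg, hk] at hxy ⊢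
  rw [h.f_lam_lam]
  exact h1 _ fun h0 => hxy (lam_eq h hrad h1 h0)

/-- **`|F| + 1` conjugates of `l`** -/
theorem ncard_conj [Finite X] (hrad : ∀ r, (∀ x, f r x = 0) → r = 1)
    (h1 : ∀ t : F, t ≠ 0 → Fn ρ f e l t = 1) : {y : M | ∃ x : X, y = ρ x l}.ncard = Nat.card F + 1 := by
  classical
  have := Fintype.ofFinite F
  let v : Option F → M := fun t => Option.elim t l fun t => lam ρ e l (tu t * wd 1 one_ne_zero)
  have hvs : ∀ t : F, v (some t) = lam ρ e l (tu t * wd 1 one_ne_zero) := fun _ => rfl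
  have hvn : v none = lam ρ e l 1 := (lam_one e l).symm
  have hn0 : ∀ t : F, f (v none) (v (some t)) = 1 := by
    intro t
    rw [hvn, hvs, h.f_lam_lam]
    apply h1
    rw [T1Sl2.mul10, T1Sl2.one10, T1Sl2.one00]
    simp
  have hss : ∀ t s : F, t ≠ s → f (v (some t)) (v (some s)) = 1 := by
    intro t s hts
    have h2 := h.f_wd t s 1 1 one_ne_zero one_ne_zero
    rw [mul_one, mul_one] at h2
    rw [hvs, hvs, h2]
    exact h1 _ fun h0 => hts (CharTwo.add_eq_zero.1 h0)
  have hinj : Function.Injective v := by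
    rintro (_ | t) (_ | s) hts
    · rfl
    · have h2 := hn0 s
      rw [← hts, h.form.self] at h2; exact absurd h2 (by decide)
    · have h2 := hn0 t
      rw [hts, h.form.self] at h2; exact absurd h2 (by decide)
    · by_contra hne
      have h2 := hss t s fun h0 => hne (by rw [h0])
      rw [hts, h.form.self] at h2; exact absurd h2 (by decide)
  have hset : {y : M | ∃ x : X, y = ρ x l} = Set.range v := by
    ext y
    constructor
    · rintro ⟨x, rfl⟩
      obtain ⟨g, hg⟩ := h.orbit x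
      rw [hg]
      by_cases hg1 : g 1 0 = 0
      · refine ⟨none, ?_⟩
        rw [hvn]
        refine lam_eq h hrad h1 ?_
        rw [hg1, T1Sl2.one10]; ring
      · refine ⟨some (g 0 0 / g 1 0), ?_⟩
        rw [hvs]
        refine lam_eq h hrad h1 ?_
        rw [T1Sl2.mul00, T1Sl2.mul10]
        simp only [T1Sl2.up00, T1Sl2.up01, T1Sl2.up10, T1Sl2.up11, wd00, wd10, mul_zero, mul_one, zero_add, one_mul]
        rw [div_mul_cancel₀ _ hg1, CharTwo.add_self_eq_zero]
    · rintro ⟨_ | t, rfl⟩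
      · exact ⟨1, by rw [map_one]; rfl⟩
      · exact ⟨_, rfl⟩
  rw [hset, ← Set.image_univ, Set.ncard_image_of_injective _ hinj, Set.ncard_univ, Nat.card_eq_fintype_card,
    Fintype.card_option, Nat.card_eq_fintype_card]

end Cfsg.Agent.OddCyclic.BTwoLin.SlEight
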