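import Cfsg.Agent.OddCyclic.BTwoLin.SlEight

/-!
# Section 4: the case `|F| = 8`: `K = X`, and involutions do not commute with elements of order three
-/

set_option autoImplicit false

namespace Cfsg.Agent.OddCyclic.BTwoLin.SlEightB

open Cfsg.Agent.LieExceptional.CITDefs Cfsg.Agent.OddCyclic.T1Defs Cfsg.Agent.OddCyclic.FFBasic
open Cfsg.Agent.LieExceptional
open Cfsg.Agent.OddCyclic.BTwoLin Cfsg.Agent.OddCyclic.BTwoLin.SlBase Cfsg.Agent.OddCyclic.BTwoLin.SlDim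
open Cfsg.Agent.OddCyclic.L2Abs

variable {X M : Type*} [Group X] [CommGroup M]
variable {F : Type*} [Field F] [Finite F] [CharP F 2]

variable {ρ : X →* MulAut M} {f : M → M → ZMod 2} {q : M → ZMod 2} {A S : Subgroup X} {D : Subgroup M} {l : M}
  {c m : ℕ} {K : Subgroup X} {e : K ≃* Matrix.SpecialLinearGroup (Fin 2) F}
  (h : Sl ρ f q A S D l c m K e)

include h

theorem eq_top [Finite X] (h8 : Nat.card F = 8) : K = ⊤ := by
  rw [eq_top_iff]
  intro x _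
  have h1 := CaseAEight.le_sup_of_equiv h.cyc h8 e (h.mem_normalizer x)
  rwa [h.cent, sup_bot_eq] at h1

theorem not_comm [Finite X] (h8 : Nat.card F = 8) {g t : X} (hg : orderOf g = 3) (ht : t * t = 1)
    (hgt : t * g = g * t) : t = 1 := by
  by_contra ht1
  have h2 : IsPGroup 2 (Subgroup.zpowers t) := by
    intro y
    refine ⟨1, ?_⟩
    rw [pow_one]
    obtain ⟨y, n, rfl⟩ := y
    apply Subtype.ext
    change (t ^ n) ^ 2 = 1
    rw [← zpow_natCast, ← zpow_mul, mul_comm, zpow_mul]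
    have : t ^ ((2 : ℕ) : ℤ) = 1 := by rw [zpow_natCast, pow_two, ht]
    rw [this, one_zpow]
  obtain ⟨Q, hQ, hZQ⟩ := CITBasic.exists_isSyl2 ⊤ _ le_top h2
  obtain ⟨x, -, hx⟩ := CITBasic.IsSyl2.conj hQ h.sylS
  have hKtop := eq_top h h8
  have h3 : x * t * x⁻¹ ∈ S ⊓ K := by
    refine ⟨?_, by rw [hKtop]; trivial⟩
    rw [hx]
    exact ⟨t, hZQ (Subgroup.mem_zpowers t), rfl⟩
  have h4 : x * t * x⁻¹ ≠ 1 := by
    intro h5
    apply ht1
    have e1 : t = x⁻¹ * (x * t * x⁻¹) * x := by group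
    rw [e1, h5]; group
  have h5 : x * g * x⁻¹ ∈ S ⊓ K := by
    refine h.fr.cent inf_le_right h3 h4 (by rw [hKtop]; trivial) ?_
    calc x * g * x⁻¹ * (x * t * x⁻¹) = x * (g * t) * x⁻¹ := by group
      _ = x * (t * g) * x⁻¹ := by rw [hgt]
      _ = _ := by group
  obtain ⟨n, hn⟩ := h.sylS.two ⟨_, h5.1⟩
  have h6 : (x * g * x⁻¹) ^ 2 ^ n = 1 := congrArg Subtype.val hn
  have h7 : g ^ 2 ^ n = 1 := by
    have e1 : (x * g * x⁻¹) ^ 2 ^ n = x * g ^ 2 ^ n * x⁻¹ := by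
      rw [← MulAut.conj_apply, ← map_pow, MulAut.conj_apply]
    rw [e1] at h6
    have e2 : g ^ 2 ^ n = x⁻¹ * (x * g ^ 2 ^ n * x⁻¹) * x := by group
    rw [e2, h6]; group
  have h8 := orderOf_dvd_of_pow_eq_one h7
  rw [hg] at h8
  have h9 := (Nat.Prime.dvd_of_dvd_pow Nat.prime_three h8)
  omega

end Cfsg.Agent.OddCyclic.BTwoLin.SlEightB
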