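import Cfsg.Agent.OddCyclic.BTwoLin.SlEight
import Cfsg.Agent.OddCyclic.FFOuter

/-!
# Section 4: the case `|F| = 4`

`Fn` is additive, `M` modulo the radical `R` of `f` is the natural module, `|R| = 2`, `m = 1`, elements of order three
act fixed-point-freely on `M/R`; `X` is isomorphic to a subgroup of `S₅` containing `A₅`.
-/

set_option autoImplicit false

namespace Cfsg.Agent.OddCyclic.BTwoLin.SlHS

open Cfsg.Agent.LieExceptional.CITDefs Cfsg.Agent.OddCyclic.T1Defs Cfsg.Agent.OddCyclic.FFBasic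
open Cfsg.Agent.LieExceptional
open Cfsg.Agent.OddCyclic.BTwoLin Cfsg.Agent.OddCyclic.BTwoLin.SlBase Cfsg.Agent.OddCyclic.BTwoLin.SlDim
open Cfsg.Agent.OddCyclic.L2Abs
open Cfsg.Agent.Lib.SL2Mat Cfsg.Agent.Lib.AutSL2 Cfsg.Agent.Lib.AutSL2Out
open Cfsg.Agent.Classification.QDW.TypeHom

local notation "UI" => Cfsg.Agent.OddCyclic.T1Sl2.UI
local notation "tu" => Cfsg.Agent.OddCyclic.T1Sl2.up
local notation "td" => Cfsg.Agent.OddCyclic.T1Sl2.dg

variable {X M : Type*} [Group X] [CommGroup M]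
variable {F : Type*} [Field F] [Finite F] [CharP F 2]

local notation "SL2" => Matrix.SpecialLinearGroup (Fin 2) F

variable {ρ : X →* MulAut M} {f : M → M → ZMod 2} {q : M → ZMod 2} {A S : Subgroup X} {D : Subgroup M} {l : M}
  {c m : ℕ} {K : Subgroup X} {e : K ≃* Matrix.SpecialLinearGroup (Fin 2) F}

/-- the radical -/
def Rad (h : Form ρ f q) : Subgroup M where
  carrier := {x | ∀ y, f x y = 0}
  one_mem' := fun y => h.one_left y
  mul_mem' := fun {a b} ha hb y => by
    rw [h.f_mul, show f a y = 0 from ha y, show f b y = 0 from hb y, add_zero]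
  inv_mem' := fun {a} ha y => by
    rw [h.inv_left]; exact ha y

theorem mem_Rad {h : Form ρ f q} {x : M} : x ∈ Rad h ↔ ∀ y, f x y = 0 := Iff.rfl

theorem smul_Rad (h : Form ρ f q) {x : M} (hx : x ∈ Rad h) (g : X) : ρ g x ∈ Rad h := by
  intro y
  have h1 : y = ρ g (ρ g⁻¹ y) := by
    rw [← MulAut.mul_apply, ← map_mul, mul_inv_cancel, map_one]; rfl
  rw [h1, h.f_inv]; exact hx _

/-- The situation: `|F| = 4`, `c = 2`, `Fn s⁻¹ = 0`, `Fn t = 1` for the other two nonzero `t`. -/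
structure Sit (ρ : X →* MulAut M) (f : M → M → ZMod 2) (q : M → ZMod 2) (A S : Subgroup X) (D : Subgroup M) (l : M)
    (m : ℕ) (K : Subgroup X) (e : K ≃* Matrix.SpecialLinearGroup (Fin 2) F) (s : F) : Prop extends
    Sl ρ f q A S D l 2 m K e where
  four' : Nat.card F = 4
  s_ne : s ≠ 0
  Fs : Fn ρ f e l s⁻¹ = 0
  F1 : ∀ t : F, t ≠ 0 → t ≠ s⁻¹ → Fn ρ f e l t = 1

namespace Sit

variable {s : F} (h : Sit ρ f q A S D l m K e s)

include h

theorem pow_eq {x : F} (hx0 : x ≠ 0) (hx1 : x ≠ 1) : x * x + x + 1 = 0 := by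
  have := Fintype.ofFinite F
  have h1 := FiniteField.pow_card x
  rw [← Nat.card_eq_fintype_card, h.four'] at h1
  have h2 : x * (x - 1) * (x * x + x + 1) = 0 := by linear_combination h1
  rcases mul_eq_zero.1 h2 with h3 | h3
  · rcases mul_eq_zero.1 h3 with h4 | h4
    · exact absurd h4 hx0
    · exact absurd (sub_eq_zero.1 h4) hx1
  · exact h3

theorem Fn_add (a b : F) : Fn ρ f e l (a + b) = Fn ρ f e l a + Fn ρ f e l b := by
  by_cases ha : a = 0
  · rw [ha, zero_add, Fn_zero, zero_add]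
  by_cases hb : b = 0
  · rw [hb, add_zero, Fn_zero, add_zero]
  by_cases ha' : a = s⁻¹
  · by_cases hb' : b = s⁻¹
    · rw [ha', hb', CharTwo.add_self_eq_zero, Fn_zero, h.Fs, add_zero]
    · rw [h.F1 b hb hb', ha', h.Fs, zero_add]
      refine h.F1 _ (fun h0 => ?_) (fun h0 => ?_)
      · exact hb' (CharTwo.add_eq_zero.1 h0).symm
      · exact hb (by simpa using h0)
  · by_cases hb' : b = s⁻¹
    · rw [h.F1 a ha ha', hb', h.Fs, add_zero]
      refine h.F1 _ (fun h0 => ?_) (fun h0 => ?_)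
      · exact ha' (CharTwo.add_eq_zero.1 h0)
      · exact ha (by simpa using h0)
    · rw [h.F1 a ha ha', h.F1 b hb hb']
      have hω := h.pow_eq (mul_ne_zero h.s_ne ha) (fun h1 => ha' (eq_inv_of_mul_eq_one_right h1))
      have hτ := h.pow_eq (mul_ne_zero h.s_ne hb) (fun h1 => hb' (eq_inv_of_mul_eq_one_right h1))
      have h1 : (s * (a + b)) * (s * (a + b) + 1) = 0 := by
        have h2 : (2 : F) = 0 := CharTwo.two_eq_zero
        linear_combination hω + hτ + (s * a * (s * b) - 1) * h2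
      have h11 : (1 : ZMod 2) + 1 = 0 := by decide
      rw [h11]
      rcases mul_eq_zero.1 h1 with h2 | h2
      · rw [(mul_eq_zero.1 h2).resolve_left h.s_ne, Fn_zero]
      · rw [eq_inv_of_mul_eq_one_right (CharTwo.add_eq_zero.1 h2), h.Fs]

theorem exists_uv [Finite X] (x : M) : ∃ p : F × F, ∀ g : SL2, f x (lam ρ e l g) =
    Fn ρ f e l (p.1 * g 1 0 + p.2 * g 0 0) := by
  let N : Subgroup M :=
    { carrier := {x | ∃ p : F × F, ∀ g : SL2, f x (lam ρ e l g) = Fn ρ f e l (p.1 * g 1 0 + p.2 * g 0 0)}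
      one_mem' := ⟨0, fun g => by rw [h.form.one_left, Prod.fst_zero, Prod.snd_zero, zero_mul, zero_mul, add_zero,
        Fn_zero]⟩
      mul_mem' := by
        rintro a b ⟨p, hp⟩ ⟨p', hp'⟩
        refine ⟨p + p', fun g => ?_⟩
        rw [h.form.f_mul, hp, hp', ← h.Fn_add]
        congr 1
        rw [Prod.fst_add, Prod.snd_add]; ring
      inv_mem' := by
        rintro a ⟨p, hp⟩
        refine ⟨p, fun g => ?_⟩
        rw [h.form.inv_left, hp] }
  have h1 : N = ⊤ := by
    refine h.gen N fun x => ?_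
    obtain ⟨k, hk⟩ := h.orbit x
    rw [hk]
    exact ⟨(k 0 0, k 1 0), fun g => h.f_lam_lam k g⟩
  have h2 : x ∈ N := by rw [h1]; trivial
  exact h2

theorem uv_zero [Finite X] {p : F × F} (hp : ∀ g : SL2, Fn ρ f e l (p.1 * g 1 0 + p.2 * g 0 0) = 0) : p = 0 := by
  obtain ⟨b, hb⟩ := h.exists_Fn
  have hb0 : b ≠ 0 := by rintro rfl; exact hb Fn_zero
  have h2 : p.2 = 0 := by
    by_contra h0
    apply hb
    have h1 := hp (td (Units.mk0 (b / p.2) (div_ne_zero hb0 h0)))
    rw [T1Sl2.dg00, T1Sl2.dg10, mul_zero, zero_add, Units.val_mk0, mul_div_cancel₀ _ h0] at h1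
    exact h1
  have h3 : p.1 = 0 := by
    by_contra h0
    apply hb
    have h1 := hp (wd (b / p.1) (div_ne_zero hb0 h0))
    rw [wd00, wd10, mul_zero, add_zero, mul_div_cancel₀ _ h0] at h1
    exact h1
  exact Prod.ext h3 h2

/-- the projection to the natural module -/
noncomputable def pr [Finite X] : M →* Multiplicative (F × F) :=
  MonoidHom.mk' (fun x => Multiplicative.ofAdd (h.exists_uv x).choose) (by
    intro x y
    rw [← ofAdd_add]
    congr 1
    have hx := (h.exists_uv x).choose_spec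
    have hy := (h.exists_uv y).choose_spec
    have hxy := (h.exists_uv (x * y)).choose_spec
    generalize (h.exists_uv x).choose = p at hx ⊢
    generalize (h.exists_uv y).choose = p' at hy ⊢
    generalize (h.exists_uv (x * y)).choose = r at hxy ⊢
    have h1 : r - (p + p') = 0 := by
      refine h.uv_zero fun g => ?_
      have e1 : (r - (p + p')).1 * g 1 0 + (r - (p + p')).2 * g 0 0 =
          (r.1 * g 1 0 + r.2 * g 0 0) + ((p.1 * g 1 0 + p.2 * g 0 0) + (p'.1 * g 1 0 + p'.2 * g 0 0)) := by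
        have h2 : (2 : F) = 0 := CharTwo.two_eq_zero
        simp only [Prod.fst_sub, Prod.snd_sub, Prod.fst_add, Prod.snd_add]
        linear_combination (-(p.1 + p'.1) * g 1 0 - (p.2 + p'.2) * g 0 0) * h2
      rw [e1, h.Fn_add (r.1 * g 1 0 + r.2 * g 0 0), h.Fn_add (p.1 * g 1 0 + p.2 * g 0 0), ← hx, ← hy, ← hxy,
        h.form.f_mul]
      exact zmod_add_self _
    exact sub_eq_zero.1 h1)

theorem pr_spec [Finite X] (x : M) (g : SL2) : f x (lam ρ e l g) =
    Fn ρ f e l ((Multiplicative.toAdd (h.pr x)).1 * g 1 0 + (Multiplicative.toAdd (h.pr x)).2 * g 0 0) :=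
  (h.exists_uv x).choose_spec g

theorem pr_eq [Finite X] {x : M} {p : F × F} (hp : ∀ g : SL2, f x (lam ρ e l g) =
    Fn ρ f e l (p.1 * g 1 0 + p.2 * g 0 0)) : Multiplicative.toAdd (h.pr x) = p := by
  set r := Multiplicative.toAdd (h.pr x) with hr
  have h1 : r - p = 0 := by
    refine h.uv_zero fun g => ?_
    have e1 : (r - p).1 * g 1 0 + (r - p).2 * g 0 0 =
        (r.1 * g 1 0 + r.2 * g 0 0) + (p.1 * g 1 0 + p.2 * g 0 0) := by
      have h2 : (2 : F) = 0 := CharTwo.two_eq_zero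
      simp only [Prod.fst_sub, Prod.snd_sub]
      linear_combination (-p.1 * g 1 0 - p.2 * g 0 0) * h2
    rw [e1, h.Fn_add, ← hp, hr, ← h.pr_spec]
    exact zmod_add_self _
  exact sub_eq_zero.1 h1

theorem pr_lam [Finite X] (k : SL2) : Multiplicative.toAdd (h.pr (lam ρ e l k)) = (k 0 0, k 1 0) :=
  h.pr_eq fun g => h.f_lam_lam k g

omit h in
theorem exists_col {p : F × F} (hp : p ≠ 0) : ∃ k : SL2, (k 0 0, k 1 0) = p := by
  by_cases h2 : p.2 = 0
  · have h1 : p.1 ≠ 0 := fun h0 => hp (Prod.ext h0 h2)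
    refine ⟨td (Units.mk0 p.1 h1), Prod.ext ?_ ?_⟩
    · rfl
    · exact h2.symm
  · refine ⟨tu (p.1 / p.2) * wd p.2 h2, Prod.ext ?_ ?_⟩
    · change (tu (p.1 / p.2) * wd p.2 h2) 0 0 = p.1
      rw [T1Sl2.mul00]
      simp only [T1Sl2.up00, T1Sl2.up01, wd00, wd10, mul_zero, zero_add]
      rw [div_mul_cancel₀ _ h2]
    · change (tu (p.1 / p.2) * wd p.2 h2) 1 0 = p.2
      rw [T1Sl2.mul10]
      simp

theorem ker_pr [Finite X] : h.pr.ker = Rad h.form := by
  ext x
  rw [MonoidHom.mem_ker, mem_Rad]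
  constructor
  · intro h1
    refine SlEight.rad_of_gen h.toSl fun g => ?_
    rw [h.pr_spec, h1, toAdd_one, Prod.fst_zero, Prod.snd_zero, zero_mul, zero_mul, add_zero, Fn_zero]
  · intro h1
    have h2 := h.pr_eq (x := x) (p := 0) fun g => by
      rw [h1, Prod.fst_zero, Prod.snd_zero, zero_mul, zero_mul, add_zero, Fn_zero]
    rw [← ofAdd_toAdd (h.pr x), h2, ofAdd_zero]

theorem pr_surj [Finite X] : Function.Surjective h.pr := by
  intro y
  by_cases hy : Multiplicative.toAdd y = 0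
  · refine ⟨1, ?_⟩
    rw [map_one, ← ofAdd_toAdd y, hy, ofAdd_zero]
  · obtain ⟨k, hk⟩ := exists_col hy
    refine ⟨lam ρ e l k, ?_⟩
    rw [← ofAdd_toAdd (h.pr _), h.pr_lam, hk, ofAdd_toAdd]

theorem card_Rad [Finite X] [Finite M] : Nat.card (Rad h.form) = 2 ^ m := by
  have h1 := h.pr.ker.card_mul_index
  rw [Subgroup.index_ker, MonoidHom.range_eq_top.2 h.pr_surj, Subgroup.card_top, h.ker_pr, h.card_M,
    Nat.card_congr Multiplicative.toAdd, Nat.card_prod, h.four'] at h1
  have h2 : 2 ^ (2 + m + 2) = 2 ^ m * (4 * 4) := by ring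
  rw [h2] at h1
  exact Nat.eq_of_mul_eq_mul_right (by norm_num) h1

/-- representatives modulo the radical -/
theorem rep [Finite X] (x : M) : x ∈ Rad h.form ∨ ∃ k : SL2, x * lam ρ e l k ∈ Rad h.form := by
  by_cases hx : Multiplicative.toAdd (h.pr x) = 0
  · left
    rw [← h.ker_pr, MonoidHom.mem_ker, ← ofAdd_toAdd (h.pr x), hx, ofAdd_zero]
  · right
    obtain ⟨k, hk⟩ := exists_col hx
    refine ⟨k, ?_⟩
    rw [← h.ker_pr, MonoidHom.mem_ker, map_mul, ← ofAdd_toAdd (h.pr (lam ρ e l k)), h.pr_lam, hk, ofAdd_toAdd,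
      ← map_mul, h.form.sq, map_one]

theorem q_eq {x : M} {k : SL2} (hx : x * lam ρ e l k ∈ Rad h.form) : q x = q (x * lam ρ e l k) := by
  rw [h.form.q_mul, h.q_lam, add_zero]
  have h1 : f x (lam ρ e l k) = 0 := by
    have h2 := hx (lam ρ e l k)
    rwa [h.form.f_mul, h.form.self, add_zero] at h2
  rw [h1, add_zero]

theorem exists_q [Finite X] : ∃ r ∈ Rad h.form, q r ≠ 0 := by
  by_contra hcon
  push Not at hcon
  have h1 : ∀ x, q x = 0 := by
    intro x
    rcases h.rep x with hx | ⟨k, hk⟩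
    · exact hcon x hx
    · rw [h.q_eq hk]; exact hcon _ hk
  obtain ⟨x, hx⟩ := h.exists_not
  apply hx
  have h2 := h.form.q_mul l x
  rw [h1, h1, h1, add_zero, zero_add] at h2
  exact h2.symm

/-- **`m = 1`** -/
theorem m_eq [Finite X] [Finite M] : m = 1 := by
  have hm := h.m_le
  have hR := h.card_Rad
  rcases Nat.lt_or_ge m 1 with h1 | h1
  · exfalso
    have h0 : m = 0 := by omega
    have hR' : Nat.card (Rad h.form) = 1 := by rw [hR, h0, pow_zero]
    obtain ⟨r, hr, hq⟩ := h.exists_q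
    rw [Subgroup.card_eq_one.1 hR', Subgroup.mem_bot] at hr
    rw [hr, h.form.q_one] at hq
    exact hq rfl
  rcases Nat.lt_or_ge m 2 with h2 | h2
  · omega
  exfalso
  have hm2 : m = 2 := by omega
  have hD := h.card_D
  have hM := h.card_M
  have hR : Nat.card (Rad h.form) = 2 ^ 2 := by rw [hR, hm2]
  rw [hm2] at hD hM
  -- a second element of `D`
  obtain ⟨d, hd, hd1, hdl⟩ : ∃ d ∈ D, d ≠ 1 ∧ d ≠ l := by
    by_contra hcon
    push Not at hcon
    have h1 : ((D : Subgroup M) : Set M) ⊆ {1, l} := by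
      intro b hb
      by_cases hb0 : b = 1
      · left; exact hb0
      · right; exact hcon b hb hb0
    have h2 := Set.ncard_le_ncard h1 (Set.toFinite _)
    have h3 := Set.ncard_insert_le (1 : M) {l}
    rw [Set.ncard_singleton] at h3
    have h4 : ((D : Subgroup M) : Set M).ncard = Nat.card D := rfl
    rw [h4, hD] at h2
    norm_num at h2
    omega
  have hne : ∀ d ∈ D, d ≠ 1 → ∃ y, f d y ≠ 0 := by
    intro d hd hd1
    by_contra hcon
    push Not at hcon
    exact hd1 (h.rad_D d hd hcon)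
  have hcp : ∀ d ∈ D, d ≠ 1 → Nat.card (h.form.perp d) = 32 := by
    intro d hd hd1
    have h1 := (h.form.perp d).card_mul_index
    rw [h.form.index_perp (hne d hd hd1), hM] at h1
    norm_num at h1
    omega
  have hinj : Function.Injective (fun p : D × Rad h.form =>
      (⟨p.1.1 * p.2.1, by
        refine Subgroup.mem_inf.2 ⟨?_, ?_⟩
        · rw [Form.mem_perp, h.form.mul_right, h.D_iso h.l_mem p.1.2, h.form.f_symm, p.2.2, add_zero]
        · rw [Form.mem_perp, h.form.mul_right, h.D_iso hd p.1.2, h.form.f_symm, p.2.2, add_zero]⟩ :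
          (h.form.perp l ⊓ h.form.perp d : Subgroup M))) := by
    rintro ⟨⟨a, ha⟩, ⟨r, hr⟩⟩ ⟨⟨b, hb⟩, ⟨t, ht⟩⟩ hab
    have h3 : a * r = b * t := congrArg Subtype.val hab
    have h4 : a * b⁻¹ = 1 := by
      apply h.rad_D _ (mul_mem ha (inv_mem hb))
      have h5 : a * b⁻¹ = t * r⁻¹ := by
        rw [mul_inv_eq_iff_eq_mul, mul_right_comm, mul_comm t, ← h3, mul_inv_cancel_right]
      rw [h5]
      exact mul_mem ht (inv_mem hr)
    have h6 : a = b := mul_inv_eq_one.1 h4
    subst h6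
    have h7 : r = t := mul_left_cancel h3
    subst h7
    rfl
  have h3 := Nat.card_le_card_of_injective _ hinj
  rw [Nat.card_prod, hD, hR] at h3
  have hle1 : h.form.perp l ⊓ h.form.perp d = h.form.perp l := by
    apply Subgroup.eq_of_le_of_card_ge inf_le_left
    rw [hcp l h.l_mem h.l_ne]
    norm_num at h3
    exact h3
  have hle2 : h.form.perp l ⊓ h.form.perp d = h.form.perp d := by
    apply Subgroup.eq_of_le_of_card_ge inf_le_right
    rw [hcp d hd hd1]
    norm_num at h3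
    exact h3
  have heq : h.form.perp l = h.form.perp d := hle1.symm.trans hle2
  have h5 : d * l = 1 := by
    refine h.rad_D _ (mul_mem hd h.l_mem) fun x => ?_
    rw [h.form.f_mul]
    by_cases hx : f l x = 0
    · have h6 : x ∈ h.form.perp d := by rw [← heq]; exact hx
      rw [hx, show f d x = 0 from h6, add_zero]
    · have h6 : f d x ≠ 0 := by
        intro h7
        apply hx
        have h8 : x ∈ h.form.perp l := by rw [heq]; exact h7
        exact h8
      rw [zmod_ne_zero.1 hx, zmod_ne_zero.1 h6]; decide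
  apply hdl
  rw [← h.form.inv_eq l]
  exact eq_inv_of_mul_eq_one_left h5

/-- the radical has order two and its generator is singular -/
theorem eq_one_of_q [Finite X] [Finite M] {r : M} (hr : r ∈ Rad h.form) (hq : q r = 0) : r = 1 := by
  have hR : Nat.card (Rad h.form) = 2 := by rw [h.card_Rad, h.m_eq, pow_one]
  obtain ⟨r₀, hr₀, hq₀⟩ := h.exists_q
  obtain ⟨a, ha, hu⟩ := (Nat.card_eq_two_iff' (1 : Rad h.form)).1 hR
  by_contra hr1
  have h1 : (⟨r, hr⟩ : Rad h.form) = a := hu _ fun h0 => hr1 (congrArg Subtype.val h0)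
  have h2 : (⟨r₀, hr₀⟩ : Rad h.form) = a := hu _ fun h0 => hq₀ (by
    rw [show r₀ = 1 from congrArg Subtype.val h0, h.form.q_one])
  have h3 : r = r₀ := congrArg Subtype.val (h1.trans h2.symm)
  rw [h3] at hq
  exact hq₀ hq

/-- **elements of order three act fixed-point-freely on `M / Rad`** -/
theorem fpf [Finite X] [Finite M] {g : X} (hg : orderOf g = 3) {x : M} (hx : ρ g x * x⁻¹ ∈ Rad h.form) :
    x ∈ Rad h.form := by
  rcases h.rep x with h1 | ⟨k, hk⟩
  · exact h1
  exfalso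
  set y := lam ρ e l k with hy
  have h2 : ρ g (x * y) * (x * y)⁻¹ ∈ Rad h.form := mul_mem (smul_Rad h.form hk g) (inv_mem hk)
  have h3 : ρ g y * y ∈ Rad h.form := by
    have e1 : ρ g y * y = (ρ g (x * y) * (x * y)⁻¹) * (ρ g x * x⁻¹)⁻¹ := by
      rw [h.form.inv_eq, h.form.inv_eq, h.form.inv_eq, map_mul]
      calc ρ g y * y = ρ g y * y * (ρ g x * ρ g x) * (x * x) := by
            rw [h.form.sq, h.form.sq, mul_one, mul_one]
        _ = ρ g x * ρ g y * (x * y) * (ρ g x * x) := by ac_rfl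
    rw [e1]
    exact mul_mem h2 (inv_mem hx)
  have h4 : ρ g y * y = 1 := by
    apply h.eq_one_of_q h3
    have h5 : f (ρ g y) y = 0 := by
      have h6 := h3 y
      rwa [h.form.f_mul, h.form.self, add_zero] at h6
    rw [h.form.q_mul, h.form.q_inv, h5, hy, h.q_lam, add_zero, add_zero]
  have h5 : ρ g y = y := by
    rw [← h.form.inv_eq y]
    nth_rw 1 [h.form.inv_eq y]
    exact eq_inv_of_mul_eq_one_left h4
  set κ : X := (e.symm k : X) with hκ
  refine h.three (κ⁻¹ * g * κ) ?_ ?_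
  · have h6 : orderOf (κ⁻¹ * g * κ⁻¹⁻¹) = orderOf g :=
      orderOf_injective (MulAut.conj κ⁻¹).toMonoidHom (MulAut.conj κ⁻¹).injective g
    rw [inv_inv] at h6
    rw [h6, hg]
  · rw [map_mul, map_mul, MulAut.mul_apply, MulAut.mul_apply]
    change ρ κ⁻¹ (ρ g y) = l
    rw [h5, hy]
    change ρ κ⁻¹ (ρ κ l) = l
    rw [← MulAut.mul_apply, ← map_mul, inv_mul_cancel, map_one]; rfl

end Sit

end Cfsg.Agent.OddCyclic.BTwoLin.SlHS
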