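import Cfsg.Agent.OddCyclic.BTwoLin.SlDim

/-!
# Section 4, case 1: `A ≤ K`

blueprints/S0342-Ba-helper208.md, (4.1). `K` centralises the radical of `f`, so `Fn` has no multiplicative period of
order three. If `A ≤ K`, then `|F| = 8`, `c = m = 3`.
-/

set_option autoImplicit false

namespace Cfsg.Agent.OddCyclic.BTwoLin.SlOne

open Cfsg.Agent.LieExceptional.CITDefs Cfsg.Agent.OddCyclic.T1Defs Cfsg.Agent.OddCyclic.FFBasic
open Cfsg.Agent.OddCyclic.BTwoLin Cfsg.Agent.OddCyclic.BTwoLin.SlBase Cfsg.Agent.OddCyclic.BTwoLin.SlDim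
open Cfsg.Agent.OddCyclic.L2Abs
open Cfsg.Agent.OddCyclic.FFSl2 (stb mem_stb)
open Cfsg.Agent.Lib.SL2Mat Cfsg.Agent.Lib.AutSL2 Cfsg.Agent.Lib.AutSL2Out
open Cfsg.Agent.Classification.QDW.TypeHom

local notation "UI" => Cfsg.Agent.OddCyclic.T1Sl2.UI
local notation "tu" => Cfsg.Agent.OddCyclic.T1Sl2.up
local notation "td" => Cfsg.Agent.OddCyclic.T1Sl2.dg

variable {X M : Type*} [Group X] [CommGroup M]
variable {F : Type*} [Field F] [Finite F] [CharP F 2]

local notation "SL2" => Matrix.SpecialLinearGroup (Fin 2) F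

variable {ρ : X →* MulAut M} {f : M → M → ZMod 2} {q : M → ZMod 2} {A S : Subgroup X} {D : Subgroup M} {l : M}
  {c m : ℕ} {K : Subgroup X} {e : K ≃* Matrix.SpecialLinearGroup (Fin 2) F}
  (h : Sl ρ f q A S D l c m K e)

include h

/-- `K` centralises the radical of `f` -/
theorem rad_K {r : M} (hr : ∀ x, f r x = 0) {k : X} (hk : k ∈ K) : ρ k r = r := by
  have := Fintype.ofFinite F
  have hs := isSimpleGroup_sl2 (F := F) (by rw [← Nat.card_eq_fintype_card]; exact h.four)
  let N : Subgroup K :=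
    { carrier := {k | ∀ r : M, (∀ x, f r x = 0) → ρ (k : X) r = r}
      one_mem' := fun r _ => by rw [Subgroup.coe_one, map_one]; rfl
      mul_mem' := fun {a b} ha hb r hr => by
        rw [Subgroup.coe_mul, map_mul, MulAut.mul_apply, hb r hr, ha r hr]
      inv_mem' := fun {a} ha r hr => by
        have h1 := ha r hr
        rw [Subgroup.coe_inv, map_inv]
        nth_rw 1 [← h1]
        exact (ρ (a : X)).symm_apply_apply r }
  have hinv : ∀ (g : X) (r : M), (∀ x, f r x = 0) → ∀ x, f (ρ g r) x = 0 := by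
    intro g r hr x
    have h1 : x = ρ g (ρ g⁻¹ x) := by
      rw [← MulAut.mul_apply, ← map_mul, mul_inv_cancel, map_one]; rfl
    rw [h1, h.form.f_inv]; exact hr _
  have hN : N.Normal := by
    refine ⟨fun n hn g r hr => ?_⟩
    rw [Subgroup.coe_mul, Subgroup.coe_mul, Subgroup.coe_inv, map_mul, map_mul, MulAut.mul_apply, MulAut.mul_apply,
      hn _ (hinv _ r hr), ← MulAut.mul_apply, ← map_mul, mul_inv_cancel, map_one]
    rfl
  have hNb : N ≠ ⊥ := by
    obtain ⟨s, hs0, hs⟩ := h.exists_s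
    intro hb
    have h1 : (⟨ee e s, ee_mem_K s⟩ : K) ∈ N := fun r hr => h.rad_A r hr _ hs
    rw [hb, Subgroup.mem_bot] at h1
    exact ee_ne_one.2 hs0 (congrArg Subtype.val h1)
  have hNm : (N.map e.toMonoidHom).Normal := hN.map _ e.surjective
  have h2 : N = ⊤ := by
    rcases hs.eq_bot_or_eq_top_of_normal _ hNm with h1 | h1
    · exact absurd ((Subgroup.map_eq_bot_iff_of_injective N e.injective).1 h1) hNb
    · rw [eq_top_iff]
      intro k _
      have h3 : e k ∈ N.map e.toMonoidHom := by rw [h1]; trivial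
      obtain ⟨k', hk', he⟩ := h3
      rw [← e.injective he]; exact hk'
  have h3 : (⟨k, hk⟩ : K) ∈ N := by rw [h2]; trivial
  exact h3 r hr

/-- **`Fn` has no period of order three** -/
theorem no_three [Finite X] {ω : Fˣ} (hω : ω ∈ KF ρ f e l) (h3 : orderOf ω = 3) : False := by
  set k := hh e ω with hk
  have hkK : k ∈ K := hh_mem_K ω
  have hok : orderOf k = 3 := by
    rw [hk, orderOf_injective (hh e) hh_injective, h3]
  have hkl : ρ k l = lam ρ e l (td ω) := rfl
  have hrad : ∀ y, f (l * ρ k l) y = 0 := by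
    intro y
    have h1 : h.form.perp (l * ρ k l) = ⊤ := by
      refine h.gen _ fun x => ?_
      obtain ⟨g, hg⟩ := h.orbit x
      rw [hg, Form.mem_perp, h.form.f_mul, h.f_l_lam, hkl, h.f_lam_lam, T1Sl2.dg00, T1Sl2.dg10, zero_mul, add_zero,
        hω]
      exact zmod_add_self _
    have h2 : y ∈ h.form.perp (l * ρ k l) := by rw [h1]; trivial
    exact h2
  have h1 := rad_K h hrad hkK
  rw [map_mul, ← MulAut.mul_apply, ← map_mul, mul_comm l] at h1
  have h2 : ρ (k * k) l = l := mul_left_cancel h1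
  refine h.three (k * k) ?_ h2
  rw [← pow_two, orderOf_pow, hok]
  norm_num

/-- if `Fn` is constant on `F - {0}` -/
theorem two_pow_le [Finite X] [Finite M] (h1 : ∀ t : F, t ≠ 0 → Fn ρ f e l t = 1) : Nat.card F ≤ c + m + 2 := by
  classical
  have := Fintype.ofFinite F
  have := Fintype.ofFinite M
  let v : F → M := fun t => lam ρ e l (tu t * wd 1 one_ne_zero)
  have hvl : ∀ t, f (v t) l = 1 := by
    intro t
    have h2 := h.f_lam_lam (tu t * wd 1 one_ne_zero) 1
    rw [lam_one] at h2
    rw [h2]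
    apply h1
    rw [T1Sl2.mul10, T1Sl2.one10, T1Sl2.one00]
    simp
  have hvv : ∀ t s, f (v t) (v s) = if t = s then 0 else 1 := by
    intro t s
    have h2 := h.f_wd t s 1 1 one_ne_zero one_ne_zero
    rw [mul_one, mul_one] at h2
    rw [h2]
    split_ifs with hts
    · rw [hts, CharTwo.add_self_eq_zero, Fn_zero]
    · exact h1 _ fun h0 => hts (CharTwo.add_eq_zero.1 h0)
  have hsum : ∀ (B : Finset F) (y : M), f (∏ t ∈ B, v t) y = ∑ t ∈ B, f (v t) y := by
    intro B y
    induction B using Finset.induction_on with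
    | empty => rw [Finset.prod_empty, Finset.sum_empty, h.form.one_left]
    | insert a B ha ih => rw [Finset.prod_insert ha, Finset.sum_insert ha, h.form.f_mul, ih]
  have hinj : Function.Injective (fun B : Finset F => ∏ t ∈ B, v t) := by
    intro B C hBC
    change ∏ t ∈ B, v t = ∏ t ∈ C, v t at hBC
    have h2 : ((B.card : ℕ) : ZMod 2) = (C.card : ℕ) := by
      have h3 := hsum B l
      rw [hBC, hsum C l] at h3
      simp only [hvl, Finset.sum_const, nsmul_eq_mul, mul_one] at h3
      exact h3.symm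
    ext s
    have h3 : ∀ B : Finset F, ∑ t ∈ B, f (v t) (v s) = (B.card : ZMod 2) - (if s ∈ B then 1 else 0) := by
      intro B
      have h4 : ∀ t ∈ B, f (v t) (v s) = 1 - (if s = t then 1 else 0) := by
        intro t _
        rw [hvv]
        by_cases hts : t = s
        · rw [if_pos hts, if_pos hts.symm]; decide
        · rw [if_neg hts, if_neg (Ne.symm hts)]; decide
      rw [Finset.sum_congr rfl h4, Finset.sum_sub_distrib, Finset.sum_const, nsmul_eq_mul, mul_one,
        Finset.sum_ite_eq]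
    have h4 := hsum B (v s)
    rw [hBC, hsum C, h3, h3, h2, sub_right_inj] at h4
    by_cases hB : s ∈ B <;> by_cases hC : s ∈ C <;> simp_all
  have h2 := Fintype.card_le_of_injective _ hinj
  rw [Fintype.card_finset, ← Nat.card_eq_fintype_card, ← Nat.card_eq_fintype_card, h.card_M] at h2
  exact (Nat.pow_le_pow_iff_right (by norm_num : 1 < 2)).1 h2

omit h in
theorem card_pow' : ∃ r, Nat.card F = 2 ^ r := by
  have := Fintype.ofFinite F
  obtain ⟨n, -, hn⟩ := FiniteField.card F 2
  exact ⟨n, by rw [Nat.card_eq_fintype_card]; exact hn⟩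

omit h in
theorem exists_unit_three {r : ℕ} (hr : Nat.card F = 2 ^ r) (he : Even r) (h0 : 0 < r) : ∃ ω : Fˣ, orderOf ω = 3 := by
  have := Fintype.ofFinite F
  classical
  have h1 : Nat.card Fˣ = 2 ^ r - 1 := by
    rw [Nat.card_units, hr]
  have h2 : 3 ∣ Nat.card Fˣ := by
    rw [h1]
    obtain ⟨k, rfl⟩ := he
    rw [← two_mul, pow_mul]
    have := Nat.sub_dvd_pow_sub_pow (2 ^ 2) 1 k
    rw [one_pow] at this
    exact this
  have : Fact (Nat.Prime 3) := ⟨Nat.prime_three⟩
  exact exists_prime_orderOf_dvd_card' 3 h2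

/-- **(4.1)** -/
theorem main [Finite X] [Finite M] (hA : A ≤ K) :
    Nat.card F = 8 ∧ c = 3 ∧ m = 3 ∧ ∀ t : F, t ≠ 0 → Fn ρ f e l t = 1 := by
  classical
  have := Fintype.ofFinite F
  obtain ⟨r, hr⟩ := card_pow' (F := F)
  have h4 := h.four
  have hr2 : 2 ≤ r := by
    rw [hr] at h4
    have : 2 ^ 2 ≤ 2 ^ r := h4
    exact (Nat.pow_le_pow_iff_right (by norm_num : 1 < 2)).1 this
  have hdim := dim h hr
  have hmc := h.m_le
  have hc2 := h.two_le
  have hAs : Nat.card (As A e) = 2 ^ c := by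
    rw [← card_inf h, inf_eq_left.2 hA, h.card_A]
  have hcr : c ≤ r := by
    have h5 : Nat.card (As A e) ≤ Nat.card F := Nat.card_le_card_of_injective _ Subtype.val_injective
    rw [hAs, hr] at h5
    exact (Nat.pow_le_pow_iff_right (by norm_num : 1 < 2)).1 h5
  have hKF := card_KF h
  rw [hAs] at hKF
  have hu : Nat.card Fˣ = 2 ^ r - 1 := by rw [Nat.card_units, hr]
  have hmul := (KF ρ f e l).card_mul_index
  rw [hu] at hmul
  have htop : KF ρ f e l = ⊤ := by
    rw [← Subgroup.index_eq_one]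
    have hodd : Odd ((KF ρ f e l).index) := by
      have h5 : Odd (Nat.card (KF ρ f e l) * (KF ρ f e l).index) := by
        rw [hmul]
        exact Nat.Even.sub_odd Nat.one_le_two_pow ((Nat.even_pow' (by omega)).2 even_two) odd_one
      exact (Nat.odd_mul.1 h5).2
    by_contra hne
    have h6 : 3 ≤ (KF ρ f e l).index := by
      have := hodd.pos
      rcases Nat.lt_or_ge (KF ρ f e l).index 3 with h7 | h7
      · interval_cases hi : (KF ρ f e l).index
        · exact absurd rfl hne
        · exact absurd hodd (by decide)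
      · exact h7
    have h7 : Nat.card (KF ρ f e l) * 3 ≤ 2 ^ r - 1 := by
      rw [← hmul]; exact Nat.mul_le_mul_left _ h6
    have h8 : 2 ^ r ≤ 2 ^ (c + 1) := Nat.pow_le_pow_right (by norm_num) (by omega)
    have h9 : 2 ^ 2 ≤ 2 ^ c := Nat.pow_le_pow_right (by norm_num) hc2
    rw [pow_succ] at h8
    omega
  have hF1 : ∀ t : F, t ≠ 0 → Fn ρ f e l t = 1 := by
    obtain ⟨b, hb⟩ := h.exists_Fn
    have hb0 : b ≠ 0 := by rintro rfl; exact hb Fn_zero
    intro t ht
    have h5 : Units.mk0 (b / t) (div_ne_zero hb0 ht) ∈ KF ρ f e l := by rw [htop]; trivial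
    have h6 := h5 t
    rw [Units.val_mk0, div_mul_cancel₀ b ht] at h6
    rw [← h6]; exact zmod_ne_zero.1 hb
  have hrodd : ¬ Even r := by
    intro he
    obtain ⟨ω, hω⟩ := exists_unit_three hr he (by omega)
    exact no_three h (by rw [htop]; trivial) hω
  have h5 := two_pow_le h hF1
  rw [hr] at h5
  have h6 : r ≤ 3 := by
    by_contra hcon
    have h7 : 2 * r + 2 < 2 ^ r := by
      obtain ⟨n, rfl⟩ : ∃ n, r = n + 4 := ⟨r - 4, by omega⟩
      clear * -
      induction n with
      | zero => norm_num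
      | succ n ih =>
        have : 2 ^ (n + 1 + 4) = 2 * 2 ^ (n + 4) := by ring
        omega
    omega
  have h7 : r = 3 := by
    interval_cases r
    · exact absurd even_two hrodd
    · rfl
  subst h7
  norm_num at h5
  refine ⟨hr, by omega, by omega, hF1⟩

end Cfsg.Agent.OddCyclic.BTwoLin.SlOne
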