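import Cfsg.Agent.OddCyclic.BTwoLin.SlHS

/-!
# Section 4, `|F| = 4`: `X` is isomorphic to a subgroup of `S₅` containing `A₅`
-/

set_option autoImplicit false

namespace Cfsg.Agent.OddCyclic.BTwoLin.SlPerm

open Cfsg.Agent.LieExceptional.CITDefs Cfsg.Agent.OddCyclic.T1Defs Cfsg.Agent.OddCyclic.FFBasic
open Cfsg.Agent.LieExceptional
open Cfsg.Agent.OddCyclic.BTwoLin Cfsg.Agent.OddCyclic.BTwoLin.SlBase Cfsg.Agent.OddCyclic.BTwoLin.SlDim
open Cfsg.Agent.OddCyclic.L2Abs

variable {X M : Type*} [Group X] [CommGroup M]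
variable {F : Type*} [Field F] [Finite F] [CharP F 2]

local notation "SL2" => Matrix.SpecialLinearGroup (Fin 2) F

variable {ρ : X →* MulAut M} {f : M → M → ZMod 2} {q : M → ZMod 2} {A S : Subgroup X} {D : Subgroup M} {l : M}
  {c m : ℕ} {K : Subgroup X} {e : K ≃* Matrix.SpecialLinearGroup (Fin 2) F}

theorem exists_perm [Finite X] (h : Sl ρ f q A S D l c m K e) (h4 : Nat.card F = 4) :
    ∃ φ : X →* Equiv.Perm (Fin 5), Function.Injective φ ∧ ∀ g : Equiv.Perm (Fin 5), Equiv.Perm.sign g = 1 →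
      ∃ x, φ x = g := by
  classical
  have := Fintype.ofFinite F
  have hF : Fintype.card F = 4 := by rw [← Nat.card_eq_fintype_card, h4]
  have h5 : Nat.card (Sylow 2 SL2) = 5 := by rw [FFOuter.card_syl, hF]
  have hfin : Finite (Sylow 2 SL2) := Nat.finite_of_card_ne_zero (by rw [h5]; norm_num)
  let ι : X →* Subgroup.normalizer (K : Set X) :=
    { toFun := fun x => ⟨x, h.mem_normalizer x⟩
      map_one' := rfl
      map_mul' := fun _ _ => rfl }
  let ψ : X →* Equiv.Perm (Sylow 2 SL2) :=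
    (MulAction.toPermHom (MulAut SL2) (Sylow 2 SL2)).comp ((act e).comp ι)
  have hψ : Function.Injective ψ := by
    rw [injective_iff_map_eq_one]
    intro x hx
    have h1 : act e ⟨x, h.mem_normalizer x⟩ = 1 := FFOuter.eq_one_of_syl _ fun U => DFunLike.congr_fun hx U
    rw [act_eq_one_iff] at h1
    have h2 : x ∈ Subgroup.centralizer (K : Set X) := h1
    rwa [h.cent, Subgroup.mem_bot] at h2
  have g : Sylow 2 SL2 ≃ Fin 5 := Finite.equivFinOfCardEq h5
  let φ : X →* Equiv.Perm (Fin 5) := g.permCongrHom.toMonoidHom.comp ψ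
  have hφ : Function.Injective φ := g.permCongrHom.injective.comp hψ
  refine ⟨φ, hφ, ?_⟩
  have hs := isSimpleGroup_sl2 (F := F) (by rw [hF])
  let θ : SL2 →* ℤˣ := Equiv.Perm.sign.comp (φ.comp (K.subtype.comp e.symm.toMonoidHom))
  have hcard : Nat.card SL2 = 60 := by rw [T1Sl2.card_sl2, hF]
  have hθ : θ.ker = ⊤ := by
    rcases hs.eq_bot_or_eq_top_of_normal θ.ker inferInstance with h1 | h1
    · exfalso
      have h2 := Nat.card_le_card_of_injective _ ((MonoidHom.ker_eq_bot_iff θ).1 h1)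
      rw [hcard, Nat.card_eq_fintype_card] at h2
      have h3 : Fintype.card ℤˣ = 2 := by decide
      omega
    · exact h1
  have hle : K.map φ ≤ alternatingGroup (Fin 5) := by
    rintro _ ⟨k, hk, rfl⟩
    rw [Equiv.Perm.mem_alternatingGroup]
    have h1 : e ⟨k, hk⟩ ∈ θ.ker := by rw [hθ]; trivial
    rw [MonoidHom.mem_ker] at h1
    change Equiv.Perm.sign (φ (e.symm (e ⟨k, hk⟩) : X)) = 1 at h1
    rwa [e.symm_apply_apply] at h1
  have hK : Nat.card (K.map φ) = 60 := by
    rw [← Nat.card_congr (K.equivMapOfInjective φ hφ).toEquiv, Nat.card_congr e.toEquiv, hcard]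
  have hA : Nat.card (alternatingGroup (Fin 5)) = 60 := by
    have h1 := two_mul_card_alternatingGroup (α := Fin 5)
    rw [Fintype.card_perm, Fintype.card_fin] at h1
    rw [Nat.card_eq_fintype_card]
    have h2 : Nat.factorial 5 = 120 := rfl
    omega
  have heq : K.map φ = alternatingGroup (Fin 5) := Subgroup.eq_of_le_of_card_ge hle (by rw [hA, hK])
  intro g hg
  have h1 : g ∈ K.map φ := by rw [heq, Equiv.Perm.mem_alternatingGroup]; exact hg
  obtain ⟨k, -, hk⟩ := h1
  exact ⟨k, hk⟩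

end Cfsg.Agent.OddCyclic.BTwoLin.SlPerm
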