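import Cfsg.Agent.OddCyclic.BTwoLin.SlOne

/-!
# Section 4, case 2: `A` is not contained in `K`

blueprints/S0342-Ba-helper208.md, (4.2). Then `|F| = 4`, `c = 2`, `A ∩ K = ⟨ee s⟩`, `Fn s⁻¹ = 0`, `Fn t = 1` for the
other two nonzero `t`.
-/

set_option autoImplicit false

namespace Cfsg.Agent.OddCyclic.BTwoLin.SlTwo

open Cfsg.Agent.LieExceptional.CITDefs Cfsg.Agent.OddCyclic.T1Defs Cfsg.Agent.OddCyclic.FFBasic
open Cfsg.Agent.OddCyclic.BTwoLin Cfsg.Agent.OddCyclic.BTwoLin.SlBase Cfsg.Agent.OddCyclic.BTwoLin.SlDim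
open Cfsg.Agent.OddCyclic.L2Abs
open Cfsg.Agent.OddCyclic.FFSl2 (stb mem_stb)
open Cfsg.Agent.Lib.SL2Mat Cfsg.Agent.Lib.AutSL2 Cfsg.Agent.Lib.AutSL2Out
open Cfsg.Agent.Classification.QDW.TypeHom

local notation "UI" => Cfsg.Agent.OddCyclic.T1Sl2.UI
local notation "tu" => Cfsg.Agent.OddCyclic.T1Sl2.up
local notation "td" => Cfsg.Agent.OddCyclic.T1Sl2.dg

variable {X M : Type*} [Group X] [CommGroup M]
variable {F : Type*} [Field F] [Finite F] [CharP F 2]

local notation "SL2" => Matrix.SpecialLinearGroup (Fin 2) F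

variable {ρ : X →* MulAut M} {f : M → M → ZMod 2} {q : M → ZMod 2} {A S : Subgroup X} {D : Subgroup M} {l : M}
  {c m : ℕ} {K : Subgroup X} {e : K ≃* Matrix.SpecialLinearGroup (Fin 2) F}
  (h : Sl ρ f q A S D l c m K e)

omit [Finite F] [CharP F 2] in
theorem form_col (t : F) (s : Fˣ) (Q : SL2) :
    ((tu t * td s) * Q * (tu t * td s)⁻¹) 0 0 = Q 0 0 + t * ((s : F)⁻¹ * (s : F)⁻¹) * Q 1 0 ∧
    ((tu t * td s) * Q * (tu t * td s)⁻¹) 1 0 = (s : F)⁻¹ * (s : F)⁻¹ * Q 1 0 := by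
  have hs : (s : F) ≠ 0 := s.ne_zero
  have p00 : (tu t * td s) 0 0 = (s : F) := by rw [T1Sl2.mul00]; simp
  have p01 : (tu t * td s) 0 1 = t * (s : F)⁻¹ := by rw [T1Sl2.mul01]; simp
  have p10 : (tu t * td s) 1 0 = 0 := by rw [T1Sl2.mul10]; simp
  have p11 : (tu t * td s) 1 1 = (s : F)⁻¹ := by rw [T1Sl2.mul11]; simp
  generalize tu t * td s = P at p00 p01 p10 p11 ⊢
  constructor
  · rw [T1Sl2.mul00, T1Sl2.mul00, T1Sl2.mul01, T1Sl2.inv00, T1Sl2.inv10, p00, p01, p10, p11]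
    field_simp
    ring
  · rw [T1Sl2.mul10, T1Sl2.mul10, T1Sl2.mul11, T1Sl2.inv00, T1Sl2.inv10, p10, p11]
    ring

include h

theorem mem_K_iff (x : X) : x ∈ K ↔ typ (act e ⟨x, h.mem_normalizer x⟩) = 1 := by
  rw [typ_eq_one_iff', h.cent, sup_bot_eq]

theorem act_mul (x y : X) : act e ⟨x * y, h.mem_normalizer (x * y)⟩ =
    act e ⟨x, h.mem_normalizer x⟩ * act e ⟨y, h.mem_normalizer y⟩ := by
  rw [← map_mul]; rfl

/-- the data attached to an element `a₀` of `A` outside `K` -/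
theorem data {a₀ : X} (ha : a₀ ∈ A) (haK : a₀ ∉ K) : ∃ (t : F) (s : Fˣ) (σ : F ≃+* F),
    act e ⟨a₀, h.mem_normalizer a₀⟩ = MulAut.conj (tu t * td s) * fieldAut σ ∧ σ ≠ 1 ∧ (∀ a, σ (σ a) = a) ∧
    (s : F) * s * σ t = t ∧ ∀ b ∈ As A e, (s : F) * s * σ b = b := by
  obtain ⟨t, s, hts⟩ := h.exists_form (h.A_le ha)
  have hsq : act e ⟨a₀, h.mem_normalizer a₀⟩ * act e ⟨a₀, h.mem_normalizer a₀⟩ = 1 := by
    rw [← act_mul h]
    have h1 : (⟨a₀ * a₀, h.mem_normalizer (a₀ * a₀)⟩ : Subgroup.normalizer (K : Set X)) = 1 :=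
      Subtype.ext (h.A_sq a₀ ha)
    rw [h1, map_one]
  refine ⟨t, s, typ (act e ⟨a₀, h.mem_normalizer a₀⟩), hts, fun h1 => haK ((mem_K_iff h a₀).2 h1), ?_, ?_, ?_⟩
  · intro a
    have h1 := congrArg typ hsq
    rw [map_mul, map_one] at h1
    exact congrArg (fun σ : F ≃+* F => σ a) h1
  · have h1 := hsq
    rw [hts] at h1
    exact (L2Field.form_sq h1).1
  · intro b hb
    have h2 : a₀ * ee e b = ee e b * a₀ := h.A_comm ha hb
    have h3 : act e ⟨a₀, h.mem_normalizer a₀⟩ (tu b) = tu b := by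
      apply e.symm.injective
      apply Subtype.ext
      rw [h.act_smul]
      change a₀ * ee e b * a₀⁻¹ = ee e b
      rw [h2, mul_inv_cancel_right]
    rw [hts, L2Borel.form_tu] at h3
    exact L2Borel.tu_inj h3

/-- `|A : A ∩ K| = 2` -/
theorem card_A_eq [Finite X] (hA : ¬ A ≤ K) : Nat.card A = 2 * Nat.card (As A e) := by
  obtain ⟨a₀, ha, haK⟩ := SetLike.not_le_iff_exists.1 hA
  have hinv : ∀ a ∈ A, a ∉ K → typ (act e ⟨a, h.mem_normalizer a⟩) * typ (act e ⟨a, h.mem_normalizer a⟩) = 1 ∧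
      typ (act e ⟨a, h.mem_normalizer a⟩) ≠ 1 := by
    intro a ha haK
    refine ⟨?_, fun h1 => haK ((mem_K_iff h a).2 h1)⟩
    rw [← map_mul, ← act_mul h]
    have h1 : (⟨a * a, h.mem_normalizer (a * a)⟩ : Subgroup.normalizer (K : Set X)) = 1 :=
      Subtype.ext (h.A_sq a ha)
    rw [h1, map_one, map_one]
  have h1 : (K.subgroupOf A).index = 2 := by
    rw [Subgroup.index_eq_two_iff]
    refine ⟨⟨a₀, ha⟩, fun b => ?_⟩
    have hb := b.2
    simp only [Subgroup.mem_subgroupOf, Subgroup.coe_mul]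
    by_cases hbK : (b : X) ∈ K
    · right
      refine ⟨hbK, fun h2 => haK ?_⟩
      exact (Subgroup.mul_mem_cancel_left K hbK).1 h2
    · left
      refine ⟨?_, hbK⟩
      rw [mem_K_iff h, act_mul h, map_mul]
      have h3 := hinv b hb hbK
      have h4 := hinv a₀ ha haK
      rw [L2Borel.ringAut_invol h3.1 h4.1 h3.2 h4.2]
      exact h4.1
  have h2 := (K.subgroupOf A).card_mul_index
  rw [h1, mul_comm] at h2
  rw [← h2, ← card_inf h]
  congr 1
  refine Nat.card_congr (Equiv.ofBijective (fun a => ⟨a.1.1, Subgroup.mem_inf.2 ⟨a.1.2, a.2⟩⟩) ⟨?_, ?_⟩)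
  · rintro ⟨⟨a, ha⟩, ha'⟩ ⟨⟨b, hb⟩, hb'⟩ hab
    have : a = b := congrArg Subtype.val hab
    subst this; rfl
  · rintro ⟨a, ha⟩
    exact ⟨⟨⟨a, ha.1⟩, ha.2⟩, rfl⟩

/-- **the vector fixed by `a₀`**: `Fn (s⁻¹) = 0` for `s ∈ As - {0}` -/
theorem Fn_inv (hA : ¬ A ≤ K) {s₁ : F} (hs : s₁ ∈ As A e) (hs0 : s₁ ≠ 0) : Fn ρ f e l s₁⁻¹ = 0 := by
  obtain ⟨a₀, ha, haK⟩ := SetLike.not_le_iff_exists.1 hA
  obtain ⟨t, s, σ, hts, hσ, hσ2, ht, hAs⟩ := data h ha haK
  have hs1 := hAs s₁ hs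
  have hs' : (s : F) ≠ 0 := s.ne_zero
  have hσs : σ s₁ = s₁ / ((s : F) * s) := by
    rw [eq_div_iff (mul_ne_zero hs' hs'), mul_comm]; exact hs1
  have hσt : σ t = t / ((s : F) * s) := by
    rw [eq_div_iff (mul_ne_zero hs' hs'), mul_comm]; exact ht
  have hu : σ (t / s₁) = t / s₁ := by
    rw [map_div₀, hσs, hσt]
    field_simp
  obtain ⟨-, h1⟩ := L2Field.fixed_eq hσ (c := 1) (by
    intro a; rw [one_mul, one_mul, hσ2])
  obtain ⟨x, hx⟩ := (h1 (t / s₁)).1 (by rw [one_mul]; exact hu)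
  rw [one_mul] at hx
  set g : SL2 := tu (x * s₁) * wd s₁⁻¹ (inv_ne_zero hs0) with hg
  have hg0 : g 0 0 = x := by
    rw [hg, T1Sl2.mul00]; simp [hs0]
  have hg1 : g 1 0 = s₁⁻¹ := by
    rw [hg, T1Sl2.mul10]; simp
  have ha1 : a₀ ≠ 1 := by rintro rfl; exact haK (one_mem K)
  have hfix : ρ a₀ (lam ρ e l g) = lam ρ e l g := by
    rw [h.smul_lam_S (h.A_le ha), hts, MulAut.mul_apply, MulAut.conj_apply]
    have hf0 : (fieldAut σ g) 0 0 = σ x := by
      rw [← hg0]; rfl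
    have hf1 : (fieldAut σ g) 1 0 = σ s₁⁻¹ := by
      rw [← hg1]; rfl
    have e1 : σ x = x + t / s₁ := by
      rw [hx, ← add_assoc, CharTwo.add_self_eq_zero, zero_add]
    have e2 : σ s₁⁻¹ = (s : F) * s / s₁ := by
      rw [map_inv₀, hσs, inv_div]
    obtain ⟨c0, c1⟩ := form_col t s (fieldAut σ g)
    refine h.lam_congr ?_ ?_
    · rw [c0, hf0, hf1, e1, e2, hg0]
      have e3 : (s : F)⁻¹ * (s : F)⁻¹ * ((s : F) * s / s₁) = s₁⁻¹ := by field_simp
      rw [mul_assoc t, e3, ← div_eq_mul_inv, add_assoc, CharTwo.add_self_eq_zero, add_zero]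
    · rw [c1, hf1, e2, hg1]
      field_simp
  have h2 := h.fix_perp ha ha1 hfix
  rwa [h.f_l_lam, hg1] at h2

omit h in
/-- units fixed by an involutory automorphism of a field of order `16` have order dividing `3` -/
theorem pow_three {σ : F ≃+* F} (h16 : Nat.card {a : F // 1 * σ a = a} = 4) {κ : Fˣ} (hκ : σ κ = κ) : κ ^ 3 = 1 := by
  classical
  have := Fintype.ofFinite F
  let U : Subgroup Fˣ :=
    { carrier := {u | σ (u : F) = u}
      one_mem' := by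
        change σ ((1 : Fˣ) : F) = _
        rw [Units.val_one, map_one]
      mul_mem' := fun {a b} ha hb => by
        change σ ((a * b : Fˣ) : F) = _
        rw [Units.val_mul, map_mul, show σ (a : F) = a from ha, show σ (b : F) = b from hb]
      inv_mem' := fun {a} ha => by
        change σ ((a⁻¹ : Fˣ) : F) = _
        rw [Units.val_inv_eq_inv_val, map_inv₀, show σ (a : F) = a from ha] }
  have h1 : Nat.card U = Nat.card {s : {a : F // 1 * σ a = a} // s ≠ ⟨0, by rw [map_zero, mul_zero]⟩} := by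
    refine Nat.card_congr (Equiv.ofBijective (fun u => ⟨⟨((u : Fˣ) : F), by
      rw [one_mul]; exact u.2⟩, fun h0 => u.1.ne_zero (congrArg Subtype.val h0)⟩) ⟨?_, ?_⟩)
    · rintro ⟨u, hu⟩ ⟨v, hv⟩ huv
      have h2 := congrArg (fun y => (y.1.1 : F)) huv
      exact Subtype.ext (Units.ext h2)
    · rintro ⟨⟨a, ha⟩, ha0⟩
      have ha0' : a ≠ 0 := fun h0 => ha0 (Subtype.ext h0)
      refine ⟨⟨Units.mk0 a ha0', ?_⟩, ?_⟩
      · change σ a = a
        rwa [one_mul] at ha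
      · rfl
  have h3 : Nat.card {s : {a : F // 1 * σ a = a} // s ≠ ⟨0, by rw [map_zero, mul_zero]⟩} + 1 = 4 := by
    rw [← h16]
    have := Fintype.ofFinite {a : F // 1 * σ a = a}
    rw [Nat.card_eq_fintype_card, Nat.card_eq_fintype_card, Fintype.card_subtype_compl,
      Fintype.card_subtype_eq]
    have : 0 < Fintype.card {a : F // 1 * σ a = a} :=
      Fintype.card_pos_iff.2 ⟨⟨0, by rw [map_zero, mul_zero]⟩⟩
    omega
  have h4 : Nat.card U = 3 := by omega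
  have h5 : (⟨κ, hκ⟩ : U) ^ Nat.card U = 1 := pow_card_eq_one'
  rw [h4] at h5
  exact congrArg Subtype.val h5

/-- **(4.2)** -/
theorem main [Finite X] [Finite M] (hA : ¬ A ≤ K) : Nat.card F = 4 ∧ c = 2 ∧ ∃ s : F, s ≠ 0 ∧ s ∈ As A e ∧
    Fn ρ f e l s⁻¹ = 0 ∧ ∀ t : F, t ≠ 0 → t ≠ s⁻¹ → Fn ρ f e l t = 1 := by
  classical
  have := Fintype.ofFinite F
  obtain ⟨a₀, ha, haK⟩ := SetLike.not_le_iff_exists.1 hA
  obtain ⟨t₀, s₀, σ, hts, hσ, hσ2, ht, hAs⟩ := data h ha haK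
  obtain ⟨r, hr⟩ := SlOne.card_pow' (F := F)
  have h4 := h.four
  have hr2 : 2 ≤ r := by
    rw [hr] at h4
    have : 2 ^ 2 ≤ 2 ^ r := h4
    exact (Nat.pow_le_pow_iff_right (by norm_num : 1 < 2)).1 this
  have hdim := dim h hr
  have hmc := h.m_le
  have hc2 := h.two_le
  have hcA := card_A_eq h hA
  obtain ⟨c', rfl⟩ : ∃ c', c = c' + 1 := ⟨c - 1, by omega⟩
  have hcAs : Nat.card (As A e) = 2 ^ c' := by
    have h1 := h.card_A
    rw [hcA, pow_succ, mul_comm] at h1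
    exact Nat.eq_of_mul_eq_mul_right (by norm_num) h1
  have hle : 2 ^ (2 * c') ≤ 2 ^ r := by
    have h1 := L2Borel.card_fixed_sq_le hσ ((s₀ : F) * s₀)
    have h2 : Nat.card (As A e) ≤ Nat.card {a : F // (s₀ : F) * s₀ * σ a = a} :=
      Nat.card_le_card_of_injective (fun b => ⟨b.1, hAs b.1 b.2⟩) (by
        rintro ⟨a, ha⟩ ⟨b, hb⟩ hab
        exact Subtype.ext (congrArg (fun y : {a : F // (s₀ : F) * s₀ * σ a = a} => (y : F)) hab))
    rw [← hr, mul_comm, pow_mul, ← hcAs]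
    exact (Nat.pow_le_pow_left h2 2).trans h1
  have hle' : 2 * c' ≤ r := (Nat.pow_le_pow_iff_right (by norm_num : 1 < 2)).1 hle
  have hfix := (L2Field.fixed_eq hσ (c := 1) (by intro a; rw [one_mul, one_mul, hσ2])).1
  obtain ⟨k, hk⟩ : ∃ k, Nat.card {a : F // 1 * σ a = a} = 2 ^ k := by
    have h1 : Nat.card {a : F // 1 * σ a = a} ∣ 2 ^ r := by
      rw [← hr, ← hfix]; exact dvd_pow_self _ (by norm_num)
    obtain ⟨k, -, hk⟩ := (Nat.dvd_prime_pow Nat.prime_two).1 h1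
    exact ⟨k, hk⟩
  have hreven : 2 * k = r := by
    rw [hk, hr, ← pow_mul] at hfix
    have := Nat.pow_right_injective (le_refl 2) hfix
    omega
  obtain ⟨s₁, hs0, hs₁⟩ := h.exists_s
  have hs1' : s₁ ∈ As A e := hs₁
  have hcases : (c' = 2 ∧ r = 4) ∨ (c' = 1 ∧ r = 2) := by omega
  rcases hcases with ⟨rfl, rfl⟩ | ⟨rfl, rfl⟩
  · exfalso
    obtain ⟨s₂, hs2, hs20, hs12⟩ : ∃ s₂ ∈ As A e, s₂ ≠ 0 ∧ s₂ ≠ s₁ := by
      by_contra hcon
      push Not at hcon
      have h1 : ((As A e : AddSubgroup F) : Set F) ⊆ {0, s₁} := by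
        intro b hb
        by_cases hb0 : b = 0
        · left; exact hb0
        · right; exact hcon b hb hb0
      have h2 := Set.ncard_le_ncard h1 (Set.toFinite _)
      have h3 := Set.ncard_insert_le (0 : F) {s₁}
      rw [Set.ncard_singleton] at h3
      have h4 : ((As A e : AddSubgroup F) : Set F).ncard = Nat.card (As A e) := rfl
      rw [h4, hcAs] at h2
      omega
    let κ : Fˣ := Units.mk0 s₂ hs20 / Units.mk0 s₁ hs0
    have hκ1 : κ ≠ 1 := by
      intro h1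
      rw [div_eq_one] at h1
      exact hs12 (congrArg (fun u : Fˣ => (u : F)) h1)
    have hκF : κ ∈ KF ρ f e l := ratio_mem h hs2 hs1'
    have hκσ : σ κ = κ := by
      have e0 : (κ : F) = s₂ / s₁ := by
        change ((Units.mk0 s₂ hs20 / Units.mk0 s₁ hs0 : Fˣ) : F) = _
        rw [Units.val_div_eq_div_val]; rfl
      have e1 := hAs s₂ hs2
      have e2 := hAs s₁ hs1'
      have hs' : (s₀ : F) ≠ 0 := s₀.ne_zero
      have e3 : σ s₂ = s₂ / ((s₀ : F) * s₀) := by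
        rw [eq_div_iff (mul_ne_zero hs' hs'), mul_comm]; exact e1
      have e4 : σ s₁ = s₁ / ((s₀ : F) * s₀) := by
        rw [eq_div_iff (mul_ne_zero hs' hs'), mul_comm]; exact e2
      rw [e0, map_div₀, e3, e4]
      field_simp
    have hk2 : k = 2 := by omega
    rw [hk2] at hk
    have h3 := pow_three hk hκσ
    exact SlOne.no_three h hκF (orderOf_eq_prime h3 hκ1)
  · refine ⟨by rw [hr]; norm_num, rfl, s₁, hs0, hs1', Fn_inv h hA hs1' hs0, ?_⟩
    have hpow : ∀ x : F, x ≠ 0 → x ≠ 1 → x * x + x + 1 = 0 := by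
      intro x hx0 hx1
      have h1 := FiniteField.pow_card x
      rw [← Nat.card_eq_fintype_card, hr] at h1
      have h2 : x * (x - 1) * (x * x + x + 1) = 0 := by linear_combination h1
      rcases mul_eq_zero.1 h2 with h3 | h3
      · rcases mul_eq_zero.1 h3 with h4 | h4
        · exact absurd h4 hx0
        · exact absurd (sub_eq_zero.1 h4) hx1
      · exact h3
    obtain ⟨b, hb⟩ := h.exists_Fn
    have hb0 : b ≠ 0 := by rintro rfl; exact hb Fn_zero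
    have hb1 : b ≠ s₁⁻¹ := by rintro rfl; exact hb (Fn_inv h hA hs1' hs0)
    have hω := hpow (s₁ * b) (mul_ne_zero hs0 hb0) (fun h1 => hb1 (eq_inv_of_mul_eq_one_right h1))
    intro t ht0 ht1
    have hτ := hpow (s₁ * t) (mul_ne_zero hs0 ht0) (fun h1 => ht1 (eq_inv_of_mul_eq_one_right h1))
    have h1 : (s₁ * t + s₁ * b) * (s₁ * t + s₁ * b + 1) = 0 := by
      have h2 : (2 : F) = 0 := CharTwo.two_eq_zero
      linear_combination hω + hτ + (s₁ * t * (s₁ * b) - 1) * h2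
    rcases mul_eq_zero.1 h1 with h2 | h2
    · have h3 : s₁ * t = s₁ * b := CharTwo.add_eq_zero.1 h2
      rw [mul_left_cancel₀ hs0 h3]
      exact zmod_ne_zero.1 hb
    · have h3 : t = s₁ * (b * b) := by
        apply mul_left_cancel₀ hs0
        have h4 : (2 : F) = 0 := CharTwo.two_eq_zero
        linear_combination h2 - hω + (- s₁ * b) * h4 + (s₁ * b) * h4
      rw [h3, h.Fn_sq hs₁ hs0]
      exact zmod_ne_zero.1 hb

end Cfsg.Agent.OddCyclic.BTwoLin.SlTwo
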