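import Cfsg.Agent.OddCyclic.BTwoLin.Basic
import Cfsg.Agent.OddCyclic.FFMain
import Cfsg.Agent.OddCyclic.KZeroCongr

/-!
# S0342, (E1), case `b = 2`: the socle of `X` (section 2 of blueprints/S0342-Ba-helper208.md)

`main'`: in the situation `Lin`, if `X` has no normal subgroup of prime order and no component `Sz(q)`, then there is a
normal subgroup `K` with `C_X(K) = 1` and `K ≃ SL₂(q)`, `q ≥ 4` even, or `K ≃ PSL₂(7)`, `c = 2`.
-/

set_option autoImplicit false
set_option linter.unusedSectionVars false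

namespace Cfsg.Agent.OddCyclic.BTwoLin.Socle

open Subgroup Cfsg Cfsg.Agent.LieExceptional.CITDefs Cfsg.Agent.OddCyclic.T1Defs Cfsg.Agent.OddCyclic.FFBasic
  Cfsg.Agent.OddCyclic.FFRed Cfsg.Agent.OddCyclic.FFSl2 Cfsg.Agent.OddCyclic.CompBasic
  Cfsg.Agent.OddCyclic.FFStruct
open Cfsg.Agent.OddCyclic.PumpMain (KZero)
open Cfsg.Agent.SignalizersComponents.Components

section struct

variable {X : Type*} [Group X] [Finite X]

/-- no normal 2-subgroup, no normal subgroup of prime order: the Fitting subgroup is trivial -/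
theorem fitting_eq_bot (hc : OddCyc X) (h2 : pCore 2 X = ⊥)
    (hfit : ∀ y : X, (orderOf y).Prime → ¬ (zpowers y).Normal) : fittingSubgroup X = ⊥ := by
  by_contra hne
  have hn : (fittingSubgroup X).Normal := Cfsg.Agent.Lib.Cores.fittingSubgroup_normal
  have hcyc := isCyclic_fitting hc h2
  have hcard : Nat.card (fittingSubgroup X) ≠ 1 := by
    rwa [Ne, Subgroup.card_eq_one]
  obtain ⟨p, hp, hpd⟩ := Nat.exists_prime_and_dvd hcard
  have : Fact p.Prime := ⟨hp⟩
  obtain ⟨y, hy⟩ := exists_prime_orderOf_dvd_card' (G := fittingSubgroup X) p hpd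
  have hy' : orderOf (y : X) = p := by rw [Subgroup.orderOf_coe]; exact hy
  refine hfit (y : X) (by rw [hy']; exact hp) ⟨fun n hn' g => ?_⟩
  have h1 : g * (y : X) * g⁻¹ ∈ fittingSubgroup X := hn.conj_mem y y.2 g
  have h3 : orderOf (⟨g * y * g⁻¹, h1⟩ : fittingSubgroup X) = orderOf y := by
    rw [Subgroup.orderOf_mk, ← Subgroup.orderOf_coe y]
    exact (MulAut.conj g).orderOf_eq (y : X)
  have h4 := zpowers_eq_of_cyclic h3
  have h5 : g * (y : X) * g⁻¹ ∈ zpowers (y : X) := by
    have h6 : (⟨g * y * g⁻¹, h1⟩ : fittingSubgroup X) ∈ zpowers y := by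
      rw [← h4]; exact mem_zpowers _
    obtain ⟨k, hk⟩ := h6
    exact ⟨k, congrArg Subtype.val hk⟩
  obtain ⟨k, rfl⟩ := hn'
  show g * (y : X) ^ k * g⁻¹ ∈ zpowers (y : X)
  rw [← conj_zpow]
  exact zpow_mem h5 k

/-- an element centralising all the components is trivial -/
theorem eq_one_of_cent (hF : fittingSubgroup X = ⊥) {x : X}
    (h3 : ∀ K : Subgroup X, IsComponent K → x ∈ centralizer (K : Set X)) : x = 1 := by
  set C := centralizer (generalizedFittingSubgroup X : Set X) with hC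
  have hFn : (generalizedFittingSubgroup X).Normal := Cfsg.Agent.Lib.GenFitting.genFitting_normal
  have hCn : C.Normal := by rw [hC]; infer_instance
  have hle : C ≤ generalizedFittingSubgroup X := Cfsg.Agent.Lib.GenFitting.centralizer_genFitting_le
  have hxC : x ∈ C := by
    rw [hC, mem_centralizer_iff]
    have h4 : generalizedFittingSubgroup X ≤ centralizer ({x} : Set X) := by
      rw [Cfsg.Agent.Lib.GenFitting.genFitting_def, hF, sup_bot_eq, layer_le_iff]
      intro K hK k hk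
      rw [mem_centralizer_singleton_iff]
      exact (mem_centralizer_iff.mp (h3 K hK)) k hk
    intro y hy
    exact mem_centralizer_singleton_iff.mp (h4 hy)
  have hab : ∀ u ∈ C, ∀ v ∈ C, u * v = v * u := by
    intro u hu v hv
    exact ((mem_centralizer_iff.mp hv) u (hle hu))
  have hnil : Group.IsNilpotent C := by
    let _ : CommGroup C := { (inferInstance : Group C) with mul_comm := fun u v => Subtype.ext (hab u u.2 v v.2) }
    infer_instance
  have hxF : x ∈ fittingSubgroup X := Cfsg.Agent.Lib.Cores.le_fittingSubgroup hCn hnil hxC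
  rwa [hF, Subgroup.mem_bot] at hxF

end struct

/-- `A` is elementary abelian and acts faithfully on `L` -/
structure Fa {H : Type*} [Group H] (L A : Subgroup H) : Prop where
  sq : ∀ a ∈ A, a * a = 1
  faith : ∀ a ∈ A, (∀ l ∈ L, a * l = l * a) → a = 1

section psl

open Cfsg.Agent.OddCyclic.PGLTorus Cfsg.Agent.OddCyclic.FFPslMat

variable {H : Type*} [Group H] [Finite H] {L A : Subgroup H} [L.Normal] {F : Type*} [Field F] [Finite F]
  (R : Cfsg.Agent.GH.L2Aut.Rep F L)

local notation "ψ" => (MulAut.conjNormal (H := L))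

theorem psi_ne (h : Fa L A) {a : H} (ha : a ∈ A) (ha1 : a ≠ 1) : ψ a ≠ 1 := by
  intro h1
  apply ha1
  apply h.faith a ha
  intro l hl
  have h2 := congrArg (fun α : MulAut L => ((α ⟨l, hl⟩ : L) : H)) h1
  simp only [MulAut.conjNormal_apply, MulAut.one_apply] at h2
  exact mul_inv_eq_iff_eq_mul.1 h2

theorem psi_sq (h : Fa L A) {a : H} (ha : a ∈ A) : ψ a * ψ a = 1 := by
  rw [← map_mul, h.sq a ha, map_one]

/-- the matrix of `a ∈ A` -/
theorem exists_mat (h : Fa L A) (hF : (Nat.card F).Prime) {a : H} (ha : a ∈ A) (ha1 : a ≠ 1) :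
    ∃ γ : GL (Fin 2) F, γ.1.trace = 0 ∧ R.gl γ = ψ a := by
  obtain ⟨γ, hγ⟩ := R.mem_PGL.1 (mem_PGL_of_prime R hF (ψ a))
  refine ⟨γ, ?_, hγ.symm⟩
  apply trace_of_sq R
  · rw [← hγ]; exact psi_ne h ha ha1
  · rw [← hγ]; exact psi_sq h ha

/-- the matrices of two different elements are orthogonal -/
theorem orth (h : Fa L A) {a b : H} (ha : a ∈ A) (hb : b ∈ A) (hab : a * b ≠ 1) {γ δ : GL (Fin 2) F}
    (hγ : R.gl γ = ψ a) (hδ : R.gl δ = ψ b) : (γ.1 * δ.1).trace = 0 := by
  have h1 : R.gl (γ * δ) = ψ (a * b) := by rw [map_mul, map_mul, hγ, hδ]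
  have h2 := trace_of_sq R (g := γ * δ) (by rw [h1]; exact psi_ne h (mul_mem ha hb) hab)
    (by rw [h1]; exact psi_sq h (mul_mem ha hb))
  exact h2

include R in
theorem card_le_four (h : Fa L A) (hF : (Nat.card F).Prime) : Nat.card A ≤ 4 := by
  by_contra hcon
  push Not at hcon
  obtain ⟨a, ha, ha1, -, -, -⟩ := JInner.exists_notin A hcon 1 1 1 1
  obtain ⟨b, hb, hb1, hba, -, -⟩ := JInner.exists_notin A hcon 1 a 1 1
  obtain ⟨c, hc, hc1, hca, hcb, hcab⟩ := JInner.exists_notin A hcon 1 a b (a * b)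
  have hinv : ∀ x ∈ A, x⁻¹ = x := fun x hx => inv_eq_of_mul_eq_one_left (h.sq x hx)
  have hne : ∀ x ∈ A, ∀ y ∈ A, x ≠ y → x * y ≠ 1 := by
    intro x hx y hy hxy h1
    apply hxy
    rw [← hinv x hx]
    exact (eq_inv_of_mul_eq_one_right h1).symm ▸ rfl
  obtain ⟨γ, hγ0, hγ⟩ := exists_mat R h hF ha ha1
  obtain ⟨δ, hδ0, hδ⟩ := exists_mat R h hF hb hb1
  obtain ⟨ε, hε0, hε⟩ := exists_mat R h hF hc hc1
  have h1 := orth R h ha hb (hne a ha b hb hba.symm) hγ hδ
  have h2 := orth R h ha hc (hne a ha c hc hca.symm) hγ hε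
  have h3 := orth R h hb hc (hne b hb c hc hcb.symm) hδ hε
  have h4 := orth R h (mul_mem ha hb) hc (hne (a * b) (mul_mem ha hb) c hc hcab.symm)
    (γ := γ * δ) (δ := ε) (by rw [map_mul, map_mul, hγ, hδ]) hε
  exact no_three hγ0 hδ0 hε0 h1 h2 h3 h4 R.two

end psl

section j1

open Cfsg.Agent.SporRec.J1.Defs (Local)

variable {H : Type*} [Group H] [Finite H] {L : Subgroup H} [L.Normal]

/-- `J₁` is the whole group -/
theorem mem_of_local (hJ : Local L) {k : L} (hk : orderOf k = 2)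
    (hC : centralizer (L : Set H) = ⊥) (a : H) : a ∈ L := by
  obtain ⟨g, hg⟩ := JInner.inner hJ k hk (MulAut.conjNormal a : MulAut L)
  have hc : (g : H)⁻¹ * a ∈ centralizer (L : Set H) := by
    rw [mem_centralizer_iff]
    intro l hl
    have h1 := congrArg Subtype.val (hg ⟨l, hl⟩)
    rw [MulAut.conjNormal_apply] at h1
    have h2 : a * l * a⁻¹ = g * l * (g : H)⁻¹ := h1
    have h3 : a * l = g * l * (g : H)⁻¹ * a := by rw [← h2]; group
    calc l * ((g : H)⁻¹ * a) = (g : H)⁻¹ * (g * l * (g : H)⁻¹ * a) := by group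
      _ = (g : H)⁻¹ * (a * l) := by rw [h3]
      _ = _ := by group
  rw [hC, Subgroup.mem_bot, inv_mul_eq_one] at hc
  rw [← hc]; exact g.2

theorem card_le_eight (hJ : Local L) {A : Subgroup H} (hA : ∀ a ∈ A, a * a = 1) (hAL : A ≤ L) : Nat.card A ≤ 8 := by
  have h2 : IsPGroup 2 A := fun a => ⟨1, by
    rw [pow_one, pow_two]; exact Subtype.ext (hA a a.2)⟩
  have : Fact (Nat.Prime 2) := ⟨Nat.prime_two⟩
  obtain ⟨n, hn⟩ := IsPGroup.iff_card.1 h2
  have h3 : Nat.card A ∣ Nat.card L := Subgroup.card_dvd_of_le hAL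
  have h4 : n ≤ 3 := by
    by_contra hlt
    apply hJ.two
    refine Dvd.dvd.trans ?_ h3
    rw [hn]
    exact pow_dvd_pow 2 (show 4 ≤ n by omega)
  rw [hn]
  exact Nat.pow_le_pow_right (by norm_num) h4

end j1

section unip

variable {X : Type*} [Group X] {M : Type*} [CommGroup M] {ρ : X →* MulAut M}

theorem cm_mul_self (hM : ∀ v : M, v * v = 1) (y : X) (v : M) : cm ρ y (cm ρ y v) = cm ρ (y * y) v := by
  have hinv : ∀ w : M, w⁻¹ = w := fun w => inv_eq_of_mul_eq_one_left (hM w)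
  simp only [cm_apply, map_mul, hinv, MulAut.mul_apply]
  rw [mul_assoc, ← mul_assoc (ρ y v) (ρ y v) v, hM, one_mul]

/-- the series `M ≥ [M,g] ≥ [M,g,g] ≥ …` -/
def NN (ρ : X →* MulAut M) (g : X) : ℕ → Subgroup M
  | 0 => ⊤
  | k + 1 => (NN ρ g k).map (cm ρ g)

theorem NN_le (g : X) (k : ℕ) : NN ρ g (k + 1) ≤ NN ρ g k := by
  induction k with
  | zero => exact le_top
  | succ k ih => exact Subgroup.map_mono ih

theorem mem_NN (g : X) (k : ℕ) (v : M) : (cm ρ g)^[k] v ∈ NN ρ g k := by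
  induction k with
  | zero => trivial
  | succ k ih => rw [Function.iterate_succ_apply']; exact ⟨_, ih, rfl⟩

theorem exists_NN (g : X) (k : ℕ) {w : M} (hw : w ∈ NN ρ g k) : ∃ v, (cm ρ g)^[k] v = w := by
  induction k generalizing w with
  | zero => exact ⟨w, rfl⟩
  | succ k ih =>
    obtain ⟨u, hu, rfl⟩ := hw
    obtain ⟨v, hv⟩ := ih hu
    exact ⟨v, by rw [Function.iterate_succ_apply', hv]⟩

theorem NN_stable (g : X) {k : ℕ} (h : NN ρ g (k + 1) = NN ρ g k) (j : ℕ) : NN ρ g (k + j) = NN ρ g k := by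
  induction j with
  | zero => rfl
  | succ j ih =>
    have h1 : NN ρ g (k + (j + 1)) = (NN ρ g (k + j)).map (cm ρ g) := rfl
    rw [h1, ih]
    exact h

theorem card_NN [Finite M] (g : X) (n : ℕ) (hn : NN ρ g n = ⊥) (k : ℕ) (hk : NN ρ g k ≠ ⊥) :
    2 ^ k * Nat.card (NN ρ g k) ≤ Nat.card M := by
  induction k with
  | zero =>
    rw [pow_zero, one_mul]
    exact Nat.le_of_dvd Nat.card_pos (Subgroup.card_subgroup_dvd_card _)
  | succ k ih =>
    have hk' : NN ρ g k ≠ ⊥ := fun h => hk (le_bot_iff.1 ((NN_le g k).trans h.le))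
    have h1 := ih hk'
    have hne : NN ρ g (k + 1) ≠ NN ρ g k := by
      intro h
      apply hk'
      have h2 := NN_stable g h n
      rw [← h2, eq_bot_iff, ← hn]
      clear h1 ih hk hk' h h2
      induction k with
      | zero => rw [zero_add]
      | succ k ihk =>
        have h3 : k + 1 + n = (k + n) + 1 := by omega
        rw [h3]
        exact (NN_le g _).trans ihk
    have h2 : 2 * Nat.card (NN ρ g (k + 1)) ≤ Nat.card (NN ρ g k) := by
      have h3 := Subgroup.card_dvd_of_le (NN_le (ρ := ρ) g k)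
      obtain ⟨d, hd⟩ := h3
      have hd0 : d ≠ 0 := by
        rintro rfl
        rw [mul_zero] at hd
        exact Nat.card_pos.ne' hd
      have hd1 : d ≠ 1 := by
        rintro rfl
        rw [mul_one] at hd
        exact hne (Subgroup.eq_of_le_of_card_ge (NN_le g k) hd.le)
      rw [hd, mul_comm]
      exact Nat.mul_le_mul_left _ (by omega)
    calc 2 ^ (k + 1) * Nat.card (NN ρ g (k + 1)) = 2 ^ k * (2 * Nat.card (NN ρ g (k + 1))) := by ring
      _ ≤ 2 ^ k * Nat.card (NN ρ g k) := Nat.mul_le_mul_left _ h2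
      _ ≤ _ := h1

/-- an element of order 16 needs dimension at least 9 -/
theorem pow_eight [Finite M] (hM : ∀ v : M, v * v = 1) {g : X} (hg : g ^ 16 = 1) (hcard : Nat.card M ≤ 2 ^ 8)
    (v : M) : ρ (g ^ 8) v = v := by
  have e2 : ∀ v, (cm ρ g)^[2] v = cm ρ (g ^ 2) v := fun v => by
    rw [pow_two, ← cm_mul_self hM]; rfl
  have e4 : ∀ v, (cm ρ g)^[4] v = cm ρ (g ^ 4) v := fun v => by
    rw [show (4 : ℕ) = 2 + 2 from rfl, Function.iterate_add_apply, e2, e2, cm_mul_self hM, ← pow_add]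
  have e8 : ∀ v, (cm ρ g)^[8] v = cm ρ (g ^ 8) v := fun v => by
    rw [show (8 : ℕ) = 4 + 4 from rfl, Function.iterate_add_apply, e4, e4, cm_mul_self hM, ← pow_add]
  have e16 : ∀ v, (cm ρ g)^[16] v = 1 := fun v => by
    rw [show (16 : ℕ) = 8 + 8 from rfl, Function.iterate_add_apply, e8, e8, cm_mul_self hM, ← pow_add, hg, cm_apply,
      map_one, MulAut.one_apply, mul_inv_cancel]
  have h16 : NN ρ g 16 = ⊥ := by
    rw [eq_bot_iff]
    intro w hw
    obtain ⟨v, rfl⟩ := exists_NN g 16 hw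
    rw [e16]; exact one_mem _
  have h8 : NN ρ g 8 = ⊥ := by
    by_contra hcon
    have h1 := card_NN g 16 h16 8 hcon
    have h2 : 2 ≤ Nat.card (NN ρ g 8) := by
      have h3 : Nat.card (NN ρ g 8) ≠ 1 := fun h => hcon (Subgroup.card_eq_one.1 h)
      have h4 : 0 < Nat.card (NN ρ g 8) := Nat.card_pos
      omega
    omega
  have h1 := mem_NN (ρ := ρ) g 8 v
  rw [h8, Subgroup.mem_bot, e8, cm_apply, mul_inv_eq_one] at h1
  exact h1

end unip

section thirtyone

open Cfsg.Agent.Lib.SL2Mat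

/-- an element of order 32 of `SL₂(31)` -/
def x0 : Matrix.SpecialLinearGroup (Fin 2) (ZMod 31) := ⟨!![0, -1; 1, 10], by decide⟩

theorem x0_pow : x0 ^ 16 = -1 := by decide +kernel

theorem x0_ne : x0 ^ 8 ≠ 1 ∧ x0 ^ 8 ≠ -1 := by decide +kernel

theorem exists_sixteen {F : Type*} [Field F] [Finite F] (hF : Nat.card F = 31) {L : Type*} [Group L]
    (R : Cfsg.Agent.GH.L2Aut.Rep F L) : ∃ g : L, g ^ 16 = 1 ∧ g ^ 8 ≠ 1 := by
  have hch : CharP F 31 := by
    have := FFPsl.charP (F := F) (by rw [hF]; norm_num)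
    rwa [hF] at this
  have hf : Fact (Nat.Prime 31) := ⟨by norm_num⟩
  let φ : ZMod 31 →+* F := ZMod.castHom (dvd_refl 31) F
  have hinj : Function.Injective (Matrix.SpecialLinearGroup.map (n := Fin 2) φ) := by
    intro a b hab
    apply Subtype.ext
    ext i j
    have := congrArg (fun w : Matrix.SpecialLinearGroup (Fin 2) F => w.1 i j) hab
    exact φ.injective this
  have hneg : Matrix.SpecialLinearGroup.map (n := Fin 2) φ (-1) = -1 := by
    apply Subtype.ext
    ext i j
    fin_cases i <;> fin_cases j <;> simp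
  refine ⟨R.π (Matrix.SpecialLinearGroup.map φ x0), ?_, ?_⟩
  · rw [← map_pow, ← map_pow, x0_pow, hneg, R.ker]
    exact Or.inr rfl
  · rw [← map_pow, ← map_pow, Ne, R.ker, not_or]
    refine ⟨fun h => x0_ne.1 (hinj (h.trans (map_one _).symm)), fun h => x0_ne.2 (hinj (h.trans hneg.symm))⟩

end thirtyone

theorem arith {p d : ℕ} (hp : p.Prime) (h7 : 7 ≤ p) (hd : 0 < d) (hd6 : d ≤ 6) (h : p ∣ 2 ^ d - 1) :
    p = 7 ∨ p = 31 := by
  have hp63 : p ≤ 63 := by
    have h1 : 0 < 2 ^ d - 1 := by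
      have : 2 ^ 1 ≤ 2 ^ d := Nat.pow_le_pow_right (by norm_num) hd
      omega
    have h2 := Nat.le_of_dvd h1 h
    have : 2 ^ d ≤ 2 ^ 6 := Nat.pow_le_pow_right (by norm_num) hd6
    omega
  interval_cases d
  · norm_num at h; omega
  · have h1 := (Nat.prime_dvd_prime_iff_eq hp Nat.prime_three).1 h; omega
  · left; exact (Nat.prime_dvd_prime_iff_eq hp (by norm_num)).1 h
  · have h1 : p ∣ 3 * 5 := h
    rcases hp.dvd_mul.1 h1 with h2 | h2
    · have := (Nat.prime_dvd_prime_iff_eq hp Nat.prime_three).1 h2; omega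
    · have := (Nat.prime_dvd_prime_iff_eq hp Nat.prime_five).1 h2; omega
  · right; exact (Nat.prime_dvd_prime_iff_eq hp (by norm_num)).1 h
  · have h1 : p ∣ 3 * (3 * 7) := h
    rcases hp.dvd_mul.1 h1 with h2 | h2
    · have := (Nat.prime_dvd_prime_iff_eq hp Nat.prime_three).1 h2; omega
    · rcases hp.dvd_mul.1 h2 with h2 | h2
      · have := (Nat.prime_dvd_prime_iff_eq hp Nat.prime_three).1 h2; omega
      · left; exact (Nat.prime_dvd_prime_iff_eq hp (by norm_num)).1 h2

section main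

variable {X M : Type*} [Group X] [CommGroup M] {ρ : X →* MulAut M} {f : M → M → ZMod 2} {q : M → ZMod 2}
  {A S : Subgroup X} {D : Subgroup M} {l : M} {c m : ℕ}

/-- the statement without Suzuki components -/
theorem main' [Finite X] [Finite M] (h : Lin ρ f q A S D l c m)
    (hfit : ∀ y : X, (orderOf y).Prime → ¬ (zpowers y).Normal)
    (hsz : ∀ J : Subgroup X, IsComponent J → ¬ Cfsg.Lie.IsoSuzuki J) :
    ∃ K : Subgroup X, K.Normal ∧ centralizer (K : Set X) = ⊥ ∧
      ((∃ (F : Type) (_ : Field F) (_ : Fintype F) (_ : CharP F 2), 4 ≤ Fintype.card F ∧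
        Nonempty (K ≃* Matrix.SpecialLinearGroup (Fin 2) F)) ∨
      (c = 2 ∧ ∃ (F : Type) (_ : Field F) (_ : Fintype F), Fintype.card F = 7 ∧
        Nonempty (K ≃* Matrix.ProjectiveSpecialLinearGroup (Fin 2) F))) := by
  have hV := h.form.sq
  have hcy := h.cyc
  have h2 : pCore 2 X = ⊥ := by
    rw [Cfsg.Agent.Lib.Cores.pCore_def, eq_bot_iff]
    exact sSup_le fun N hN => (h.o2 N hN.1 hN.2).le
  have hFit := fitting_eq_bot hcy h2 hfit
  have hkz : ∀ K : Subgroup X, IsComponent K → KZero K := by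
    intro K hK
    have h1 := center_component hcy h2 hK
    let e : K ⧸ center K ≃* K := (QuotientGroup.quotientMulEquivOfEq h1).trans QuotientGroup.quotientBot
    exact KZeroCongr.kZero_congr e (h.comps K hK.2)
  have h3 : ∀ K : Subgroup X, IsComponent K → 3 ∣ Nat.card K := fun K hK =>
    three_dvd_of_kZero (hkz K hK) (hsz K hK)
  have hc2 := h.two_le
  have hA4 : 4 ≤ Nat.card A := by
    rw [h.card_A]
    calc 4 = 2 ^ 2 := by norm_num
      _ ≤ 2 ^ c := Nat.pow_le_pow_right (by norm_num) hc2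
  -- the component
  obtain ⟨L, hL⟩ : ∃ L : Subgroup X, IsComponent L := by
    by_contra hcon
    push Not at hcon
    have h4 : A = ⊥ := by
      rw [eq_bot_iff]
      intro a _
      rw [Subgroup.mem_bot]
      exact eq_one_of_cent hFit fun K hK => absurd hK (hcon K)
    rw [h4, Subgroup.card_bot] at hA4
    omega
  have hLn : L.Normal := component_normal hcy hL
  have hLs := simple_component hcy h2 hL
  have hC : centralizer (L : Set X) = ⊥ := by
    rw [eq_bot_iff]
    intro x hx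
    rw [Subgroup.mem_bot]
    refine eq_one_of_cent hFit fun K hK => ?_
    rw [component_eq hcy h2 hK hL Nat.prime_three (by norm_num) (h3 K hK) (h3 L hL)]
    exact hx
  have hfa : Fa L A := by
    refine ⟨h.A_sq, fun a _ hal => ?_⟩
    have : a ∈ centralizer (L : Set X) := by
      rw [mem_centralizer_iff]
      intro l hl
      exact (hal l hl).symm
    rwa [hC, Subgroup.mem_bot] at this
  have hne : ∀ y : X, y ≠ 1 → ∃ v, ρ y v ≠ v := by
    intro y hy
    by_contra hcon
    push Not at hcon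
    exact hy (h.faith y hcon)
  -- the order of `M`
  have hMle : Nat.card M ≤ 2 ^ (2 * c + 2) := by
    rw [h.card_M]
    exact Nat.pow_le_pow_right (by norm_num) (by have := h.m_le; omega)
  have hidx : ∀ y : X, (fx ρ y).index ≤ 2 ^ (2 * c + 2) := fun y =>
    (Nat.le_of_dvd Nat.card_pos (Subgroup.index_dvd_card _)).trans hMle
  refine ⟨L, hLn, hC, ?_⟩
  rcases hkz L hL with ⟨F, _, _, hp, h5, ⟨e⟩⟩ | ⟨F, _, _, f, hf, hF, ⟨e⟩⟩ | hK | ⟨hJ, k, hk⟩
  · have hodd : Odd (Fintype.card F) := hp.odd_of_ne_two (by omega)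
    by_cases h5' : Fintype.card F = 5
    · obtain ⟨K, i1, i2, i3, hK4, ⟨e'⟩⟩ := T1Socle.exists_four h5'
      exact Or.inl ⟨K, i1, i2, i3, hK4.ge, ⟨e.trans e'⟩⟩
    · have h7 : 7 ≤ Fintype.card F := by
        have h6 : Fintype.card F ≠ 6 := by
          intro h6
          rw [h6] at hp
          revert hp
          norm_num
        omega
      have R := Cfsg.Agent.GH.L2Aut.Rep.ofEquiv (Cfsg.Agent.GH.L2Aut.two_ne_zero_of_odd hodd) e
      have hFp : (Nat.card F).Prime := by rw [Nat.card_eq_fintype_card]; exact hp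
      have hF7 : 7 ≤ Nat.card F := by rw [Nat.card_eq_fintype_card]; exact h7
      have hA4' := card_le_four R hfa hFp
      have hc2' : c = 2 := by
        rw [h.card_A] at hA4'
        have h6 : 2 ^ c ≤ 2 ^ 2 := hA4'
        have := (Nat.pow_le_pow_iff_right (by norm_num)).1 h6
        omega
      have hou := FFPsl.orderOf_u (H := X) R hFp
      have hune : ((R.π (Cfsg.Agent.Lib.SL2Mat.up 1) : L) : X) ≠ 1 := by
        intro h1
        rw [h1, orderOf_one] at hou
        omega
      obtain ⟨d, hd, hd1, hd2⟩ := prim (ρ := ρ) hV hFp (by omega) hou (hne _ hune)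
      have hd6 : d ≤ 6 := by
        have h6 := hidx ((R.π (Cfsg.Agent.Lib.SL2Mat.up 1) : L) : X)
        rw [hd1, hc2'] at h6
        exact (Nat.pow_le_pow_iff_right (by norm_num)).1 h6
      rcases arith hFp hF7 hd hd6 hd2 with h8 | h8
      · exact Or.inr ⟨hc2', F, _, _, by rw [← Nat.card_eq_fintype_card, h8], ⟨e⟩⟩
      · exfalso
        obtain ⟨g, hg, hg'⟩ := exists_sixteen h8 R
        have h9 : ((g : X) ^ 8) = 1 := by
          apply h.faith
          intro v
          refine pow_eight hV ?_ ?_ v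
          · exact congrArg Subtype.val hg
          · refine hMle.trans ?_
            rw [hc2']; norm_num
        exact hg' (Subtype.ext h9)
  · have h4 : 4 ≤ Fintype.card F := by
      rw [hF]
      calc 4 = 2 ^ 2 := by norm_num
        _ ≤ 2 ^ f := Nat.pow_le_pow_right (by norm_num) hf
    have hch : CharP F 2 := by
      have hch := ringChar.charP F
      have h1 : ringChar F ∣ 2 ^ f := by
        rw [← hF, ← CharP.cast_eq_zero_iff F (ringChar F), Nat.cast_card_eq_zero]
      have h2 : (ringChar F).Prime := CharP.char_is_prime F (ringChar F)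
      have h3 : ringChar F = 2 := (Nat.prime_dvd_prime_iff_eq h2 Nat.prime_two).1 (h2.dvd_of_dvd_pow h1)
      rwa [h3] at hch
    obtain ⟨g⟩ := WeakTI.PslTwo.nonempty_equiv (F := F)
    exact Or.inl ⟨F, _, _, hch, h4, ⟨e.trans g.symm⟩⟩
  · exact absurd hK (hsz L hL)
  · exfalso
    have hA8 := card_le_eight hJ h.A_sq fun a _ => mem_of_local hJ hk hC a
    have hc3 : c ≤ 3 := by
      rw [h.card_A] at hA8
      have h6 : 2 ^ c ≤ 2 ^ 3 := hA8
      exact (Nat.pow_le_pow_iff_right (by norm_num)).1 h6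
    obtain ⟨w, y, hy, -, -, -⟩ := FFJ1.exists_real hJ hk
    have hyX : orderOf (y : X) = 11 := by rw [Subgroup.orderOf_coe, hy]
    have hy1 : (y : X) ≠ 1 := by
      intro h1
      rw [h1, orderOf_one] at hyX
      omega
    obtain ⟨d, hd, hd1, hd2⟩ := prim (ρ := ρ) hV (l := 11) (by norm_num) (by norm_num) hyX (hne _ hy1)
    have h6 := FFJ1.ten_le d hd hd2
    have h7 := hidx (y : X)
    rw [hd1] at h7
    have h8 := (Nat.pow_le_pow_iff_right (by norm_num)).1 h7
    omega

end main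

end Cfsg.Agent.OddCyclic.BTwoLin.Socle
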