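import Cfsg.Agent.OddCyclic.FFBasic

/-!
# Two commuting elements of odd prime order on an elementary abelian 2-group

`four_mul_le`: `y`, `g` commute, `ord_{|y|}(2) = 2 f`, `ord_{|g|}(2) = 4 n`, `f` odd, `g` acts nontrivially on `[M,y]`:
`|M| ≥ 2 ^ (4 f)`.
-/

set_option autoImplicit false

namespace Cfsg.Agent.OddCyclic.BTwoLin.Socle

open Cfsg.Agent.OddCyclic.T1Module Cfsg.Agent.OddCyclic.FFBasic

variable {X V : Type*} [Group X] [CommGroup V] [Finite V] {ρ : X →* MulAut V}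

/-- `y` of prime order acts fixed point freely on `U` -/
theorem dvd_of_fpf {l : ℕ} (hl : l.Prime) {y : X} (hy : orderOf y = l) (U : Subgroup V)
    (hU : ∀ v ∈ U, ρ y v ∈ U) (hf : ∀ v ∈ U, ρ y v = v → v = 1) : l ∣ Nat.card U - 1 := by
  have hfin : Finite (Subgroup.zpowers y) :=
    Nat.finite_of_card_ne_zero (by rw [Nat.card_zpowers, hy]; exact hl.ne_zero)
  have hUp : ∀ n : ℕ, ∀ v ∈ U, ρ (y ^ n) v ∈ U := by
    intro n
    induction n with
    | zero => intro v hv; rw [pow_zero, map_one]; exact hv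
    | succ n ih => intro v hv; rw [pow_succ', map_mul, MulAut.mul_apply]; exact hU _ (ih v hv)
  have hpow : ∀ d ∈ Subgroup.zpowers y, ∃ n : ℕ, d = y ^ n := by
    intro d hd
    have hfo : IsOfFinOrder y := orderOf_pos_iff.1 (by rw [hy]; exact hl.pos)
    obtain ⟨n, hn⟩ := (hfo.mem_powers_iff_mem_zpowers.2 hd)
    exact ⟨n, hn.symm⟩
  have h := card_dvd_sub_one (K := V) (D := Subgroup.zpowers y) (ρ.comp (Subgroup.zpowers y).subtype) U ?_ ?_
  · rwa [Nat.card_zpowers, hy] at h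
  · rintro ⟨d, hd⟩ c hc
    obtain ⟨n, rfl⟩ := hpow d hd
    exact hUp n c hc
  · rintro ⟨d, hd⟩ c hc hc1 hfix
    by_contra hne
    have hd1 : d ≠ 1 := fun h => hne (Subtype.ext h)
    have hod : orderOf d = l := by
      have h1 : orderOf d ∣ l := by rw [← hy]; exact orderOf_dvd_of_mem_zpowers hd
      rcases (Nat.dvd_prime hl).1 h1 with h2 | h2
      · exact absurd (orderOf_eq_one_iff.1 h2) hd1
      · exact h2
    have hyd : y ∈ Subgroup.zpowers d := by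
      have h1 : Subgroup.zpowers d ≤ Subgroup.zpowers y := by rwa [Subgroup.zpowers_le]
      have h2 : Subgroup.zpowers d = Subgroup.zpowers y :=
        Subgroup.eq_of_le_of_card_ge h1 (by rw [Nat.card_zpowers, Nat.card_zpowers, hod, hy])
      rw [h2]; exact Subgroup.mem_zpowers y
    obtain ⟨n, hn⟩ := Subgroup.mem_zpowers_iff.1 hyd
    apply hc1
    apply hf c hc
    have h3 : c ∈ fx ρ d := hfix
    have h4 : c ∈ fx ρ (d ^ n) := by
      obtain ⟨m, rfl | rfl⟩ := n.eq_nat_or_neg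
      · rw [zpow_natCast]; exact fx_pow ρ h3 m
      · rw [zpow_neg, zpow_natCast]; exact fx_inv ρ (fx_pow ρ h3 m)
    rw [hn] at h4
    exact h4

/-- the subgroup `[[V,y],g]` -/
def UU (ρ : X →* MulAut V) (y g : X) : Subgroup V := (cm ρ y).range.map (cm ρ g)

theorem mem_UU_left {y g : X} (hc : g * y = y * g) {v : V} (hv : v ∈ UU ρ y g) : v ∈ (cm ρ y).range := by
  obtain ⟨w, hw, rfl⟩ := hv
  rw [cm_apply]
  exact mul_mem (apply_mem_range ρ hc hw) (inv_mem hw)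

theorem mem_UU_right {y g : X} {v : V} (hv : v ∈ UU ρ y g) : v ∈ (cm ρ g).range := by
  obtain ⟨w, -, rfl⟩ := hv
  exact ⟨w, rfl⟩

theorem UU_stable {y g z : X} (h1 : z * y = y * z) (h2 : z * g = g * z) {v : V} (hv : v ∈ UU ρ y g) :
    ρ z v ∈ UU ρ y g := by
  obtain ⟨w, hw, rfl⟩ := hv
  refine ⟨ρ z w, apply_mem_range ρ h1 hw, ?_⟩
  rw [cm_apply, cm_apply, map_mul, map_inv]
  congr 1
  rw [← MulAut.mul_apply, ← MulAut.mul_apply, ← map_mul, ← map_mul, h2]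

/-- **the lemma** -/
theorem four_mul_le (hV : ∀ v : V, v * v = 1) {y g : X} (hc : g * y = y * g) {l l' : ℕ} (hl : l.Prime) (hl2 : l ≠ 2)
    (hl' : l'.Prime) (hl2' : l' ≠ 2) (hy : orderOf y = l') (hg : orderOf g = l) {f n : ℕ} (hf : Odd f)
    (h1 : ∀ d, l' ∣ 2 ^ d - 1 → 2 * f ∣ d) (h2 : ∀ d, l ∣ 2 ^ d - 1 → 4 * n ∣ d)
    (hne : ∃ v ∈ (cm ρ y).range, ρ g v ≠ v) : 2 ^ (4 * f) ≤ Nat.card V := by
  have : Fact (Nat.Prime 2) := ⟨Nat.prime_two⟩
  obtain ⟨k, hk⟩ := (IsPGroup.iff_card (p := 2)).1 (isPGroup_two hV)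
  obtain ⟨d, -, hd⟩ := (Nat.dvd_prime_pow Nat.prime_two).1 (hk ▸ Subgroup.card_subgroup_dvd_card (UU ρ y g))
  have e1 : l' ∣ 2 ^ d - 1 := by
    rw [← hd]
    refine dvd_of_fpf hl' hy _ (fun v hv => UU_stable rfl hc.symm hv) fun v hv hfv => ?_
    exact eq_one_of_fix hV (by rw [hy]; exact hl'.odd_of_ne_two hl2') (mem_UU_left hc hv) hfv
  have e2 : l ∣ 2 ^ d - 1 := by
    rw [← hd]
    refine dvd_of_fpf hl hg _ (fun v hv => UU_stable hc rfl hv) fun v hv hfv => ?_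
    exact eq_one_of_fix hV (by rw [hg]; exact hl.odd_of_ne_two hl2) (mem_UU_right hv) hfv
  have e3 := h1 d e1
  have e4 := h2 d e2
  have hd0 : d ≠ 0 := by
    rintro rfl
    rw [pow_zero, Subgroup.card_eq_one] at hd
    obtain ⟨v, hv, hgv⟩ := hne
    apply hgv
    have h3 : cm ρ g v ∈ UU ρ y g := ⟨v, hv, rfl⟩
    rw [hd, Subgroup.mem_bot, cm_apply, mul_inv_eq_one] at h3
    exact h3
  have e5 : 4 * f ∣ d := by
    have h3 : Nat.Coprime 4 f := by
      have : Nat.Coprime 2 f := Nat.coprime_two_left.2 hf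
      have h4 : Nat.Coprime (2 ^ 2) f := this.pow_left 2
      exact h4
    exact h3.mul_dvd_of_dvd_of_dvd ((Dvd.intro n rfl).trans e4) ((Dvd.intro_left 2 rfl).trans e3)
  have e6 := Nat.le_of_dvd (Nat.pos_of_ne_zero hd0) e5
  calc 2 ^ (4 * f) ≤ 2 ^ d := Nat.pow_le_pow_right (by norm_num) e6
    _ = Nat.card (UU ρ y g) := hd.symm
    _ ≤ _ := Nat.le_of_dvd Nat.card_pos (Subgroup.card_subgroup_dvd_card _)

end Cfsg.Agent.OddCyclic.BTwoLin.Socle
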