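import Cfsg.Agent.OddCyclic.BTwoLin.Socle
import Cfsg.Agent.LieRecognition.FieldSemilinear

/-!
# Elementary abelian 2-groups of automorphisms of `SL₂(2ᶠ)`

`card_le_sl2`: `A` elementary abelian acting faithfully on the normal subgroup `L ≃ SL₂(q)`: `|A| ≤ 2 q`.
-/

set_option autoImplicit false

namespace Cfsg.Agent.OddCyclic.BTwoLin.Socle

open Matrix Cfsg.Agent.OddCyclic.T1Sl2 Cfsg.Agent.Lib.AutSL2 Cfsg.Agent.OddCyclic.FFOuter
  Cfsg.Agent.Classification.QDW.TypeHom
open Cfsg.Agent.Lib.SL2Mat (fieldAut)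

variable {H : Type*} [Group H] [Finite H] {L A : Subgroup H} [L.Normal] {F : Type*} [Field F] [Fintype F] [CharP F 2]

omit [Finite H] [Fintype F] [CharP F 2] in
theorem ac_injOn (e : SpecialLinearGroup (Fin 2) F ≃* L) (h : Fa L A) {a b : H} (ha : a ∈ A) (hb : b ∈ A)
    (hab : ac e a = ac e b) : a = b := by
  rw [ac_eq_iff] at hab
  have h1 : b⁻¹ * a = 1 := by
    refine h.faith _ (mul_mem (inv_mem hb) ha) fun l hl => ?_
    have h2 := hab l hl
    have h3 : a * l = b * l * b⁻¹ * a := by rw [← h2]; group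
    calc b⁻¹ * a * l = b⁻¹ * (a * l) := by group
      _ = b⁻¹ * (b * l * b⁻¹ * a) := by rw [h3]
      _ = _ := by group
  exact (inv_mul_eq_one.1 h1).symm

omit [Fintype F] in
theorem conj_inj {s t : SpecialLinearGroup (Fin 2) F} (h : MulAut.conj s = MulAut.conj t) : s = t := by
  have h1 : t⁻¹ * s ∈ Subgroup.center (SpecialLinearGroup (Fin 2) F) := by
    rw [Subgroup.mem_center_iff]
    intro x
    have h2 := congrArg (fun α : MulAut (SpecialLinearGroup (Fin 2) F) => α x) h
    simp only [MulAut.conj_apply] at h2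
    have h3 : s * x = t * x * t⁻¹ * s := by rw [← h2]; group
    calc x * (t⁻¹ * s) = t⁻¹ * (t * x * t⁻¹ * s) := by group
      _ = t⁻¹ * (s * x) := by rw [h3]
      _ = _ := by group
  rw [WeakTI.PslTwo.center_eq_bot, Subgroup.mem_bot] at h1
  exact (inv_mul_eq_one.1 h1).symm

/-- `|A : A ∩ Inn| ≤ 2` and `A ∩ Inn` embeds in a Sylow 2-subgroup of `SL₂(q)` -/
theorem card_le_sl2 (e : SpecialLinearGroup (Fin 2) F ≃* L) (h : Fa L A) : Nat.card A ≤ 2 * Fintype.card F := by
  classical
  have hp : Fact (Nat.Prime 2) := ⟨Nat.prime_two⟩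
  have hcyc : IsCyclic (F ≃+* F) := Cfsg.Agent.LieRecognition.FieldSemilinear.isCyclic_ringAut F
  let τ : A →* (F ≃+* F) := typ.comp ((ac e).comp A.subtype)
  have hfin : Finite (F ≃+* F) :=
    Finite.of_injective (fun σ : F ≃+* F => (σ : F → F)) (fun a b hab => RingEquiv.ext (congrFun hab))
  -- the image
  have hr : Nat.card τ.range ≤ 2 := by
    have := Fintype.ofFinite (F ≃+* F)
    have h1 := IsCyclic.card_pow_eq_one_le (α := F ≃+* F) (n := 2) (by norm_num)
    refine le_trans ?_ h1
    let g : τ.range → {a : F ≃+* F // a ^ 2 = 1} := fun x => ⟨x, by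
      obtain ⟨a, ha⟩ := x.2
      rw [← ha, ← map_pow]
      have h2 : a ^ 2 = 1 := by
        rw [pow_two]; exact Subtype.ext (h.sq a a.2)
      rw [h2, map_one]⟩
    have hg : Function.Injective g := fun x y hxy => Subtype.ext (congrArg (fun z => z.1) hxy)
    have h2 := Nat.card_le_card_of_injective g hg
    rwa [Nat.card_eq_fintype_card (α := {a : F ≃+* F // a ^ 2 = 1}), Fintype.card_subtype] at h2
  -- the kernel
  have hk : Nat.card τ.ker ≤ Fintype.card F := by
    have hinn : ∀ a : τ.ker, ∃ s : SpecialLinearGroup (Fin 2) F, ac e ((a : A) : H) = MulAut.conj s := by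
      rintro ⟨a, ha⟩
      obtain ⟨s, hs⟩ := L2Model.exists_form (ac e (a : H))
      have h1 : typ (ac e (a : H)) = 1 := ha
      rw [h1] at hs
      have h2 : fieldAut (1 : F ≃+* F) = 1 := by
        ext1 x
        apply ext2 <;> rw [fieldAut_apply] <;> rfl
      rw [h2, mul_one] at hs
      exact ⟨s, hs⟩
    let B : Subgroup (SpecialLinearGroup (Fin 2) F) := (A.map (ac e)).comap MulAut.conj
    have hB : IsPGroup 2 B := by
      rintro ⟨s, a, ha, hs⟩
      refine ⟨1, Subtype.ext ?_⟩
      show s ^ 2 ^ 1 = 1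
      rw [pow_one, pow_two]
      apply conj_inj
      rw [map_mul, map_one, ← hs, ← map_mul, h.sq a ha, map_one]
    obtain ⟨P, hP⟩ := hB.exists_le_sylow
    choose s hs using hinn
    let g : τ.ker → (P : Subgroup (SpecialLinearGroup (Fin 2) F)) := fun a =>
      ⟨s a, hP ⟨((a : A) : H), (a : A).2, hs a⟩⟩
    have hg : Function.Injective g := by
      intro a b hab
      have h1 : s a = s b := congrArg Subtype.val hab
      apply Subtype.ext
      apply Subtype.ext
      apply ac_injOn e h (a : A).2 (b : A).2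
      rw [hs a, hs b, h1]
    have h1 := Nat.card_le_card_of_injective g hg
    rwa [card_sylow P] at h1
  have h1 := τ.ker.card_mul_index
  rw [Subgroup.index_ker] at h1
  rw [← h1, mul_comm]
  exact Nat.mul_le_mul hr hk

end Cfsg.Agent.OddCyclic.BTwoLin.Socle
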